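import Cfsg.Agent.Lib.KnownB.F4Inv.Coords

/-!
Collection identities in the positive part of ²F₄.
-/

set_option autoImplicit false
set_option maxRecDepth 20000
set_option maxHeartbeats 4000000
set_option linter.all false
set_option Elab.async false

namespace CfsgLib.F4Inv

open CfsgLib.Chevalley CfsgLib.Chevalley.Tbl

variable {K : Type*} [Field K] [CharP K 2]

theorem mul1' {σ : K ≃+* K} (hσ : ∀ x, σ (σ x) = x ^ 2) (s t : K) (z : GL Data.F4.tbl.I K) :
    G1 σ s * (G1 σ t * z) = G1 σ (s + t) * z := by rw [← mul_assoc, mul1 hσ]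

theorem mul2' {σ : K ≃+* K} (hσ : ∀ x, σ (σ x) = x ^ 2) (s u t v : K) (z : GL Data.F4.tbl.I K) :
    G2 σ s u * (G2 σ t v * z) = G2 σ (s + t) (s * σ t + u + v) * z := by rw [← mul_assoc, mul2 hσ]

theorem mul3' {σ : K ≃+* K} (hσ : ∀ x, σ (σ x) = x ^ 2) (s t : K) (z : GL Data.F4.tbl.I K) :
    G3 σ s * (G3 σ t * z) = G3 σ (s + t) * z := by rw [← mul_assoc, mul3 hσ]

theorem mul4' {σ : K ≃+* K} (hσ : ∀ x, σ (σ x) = x ^ 2) (s u t v : K) (z : GL Data.F4.tbl.I K) :
    G4 σ s u * (G4 σ t v * z) = G4 σ (s + t) (s * σ t + u + v) * z := by rw [← mul_assoc, mul4 hσ]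

theorem mul5' {σ : K ≃+* K} (hσ : ∀ x, σ (σ x) = x ^ 2) (s t : K) (z : GL Data.F4.tbl.I K) :
    G5 σ s * (G5 σ t * z) = G5 σ (s + t) * z := by rw [← mul_assoc, mul5 hσ]

theorem mul6' {σ : K ≃+* K} (hσ : ∀ x, σ (σ x) = x ^ 2) (s u t v : K) (z : GL Data.F4.tbl.I K) :
    G6 σ s u * (G6 σ t v * z) = G6 σ (s + t) (s * σ t + u + v) * z := by rw [← mul_assoc, mul6 hσ]

theorem mul7' {σ : K ≃+* K} (hσ : ∀ x, σ (σ x) = x ^ 2) (s t : K) (z : GL Data.F4.tbl.I K) :
    G7 σ s * (G7 σ t * z) = G7 σ (s + t) * z := by rw [← mul_assoc, mul7 hσ]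

theorem mul8' {σ : K ≃+* K} (hσ : ∀ x, σ (σ x) = x ^ 2) (s u t v : K) (z : GL Data.F4.tbl.I K) :
    G8 σ s u * (G8 σ t v * z) = G8 σ (s + t) (s * σ t + u + v) * z := by rw [← mul_assoc, mul8 hσ]

theorem c12' {σ : K ≃+* K} (hσ : ∀ x, σ (σ x) = x ^ 2) (a x y : K) (z : GL Data.F4.tbl.I K) :
    G2 σ x y * (G1 σ a * z) = G1 σ a * (G2 σ x y * (z)) := by simp only [← mul_assoc, c12 hσ]

theorem c13' {σ : K ≃+* K} (hσ : ∀ x, σ (σ x) = x ^ 2) (a x : K) (z : GL Data.F4.tbl.I K) :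
    G3 σ x * (G1 σ a * z) = G1 σ a * (G3 σ x * (z)) := by simp only [← mul_assoc, c13 hσ]

theorem c14' {σ : K ≃+* K} (hσ : ∀ x, σ (σ x) = x ^ 2) (a x y : K) (z : GL Data.F4.tbl.I K) :
    G4 σ x y * (G1 σ a * z) = G1 σ a * (G2 σ 0 (a * x) * (G4 σ x y * (z))) := by simp only [← mul_assoc, c14 hσ]

theorem c15' {σ : K ≃+* K} (hσ : ∀ x, σ (σ x) = x ^ 2) (a x : K) (z : GL Data.F4.tbl.I K) :
    G5 σ x * (G1 σ a * z) = G1 σ a * (G5 σ x * (z)) := by simp only [← mul_assoc, c15 hσ]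

theorem c16' {σ : K ≃+* K} (hσ : ∀ x, σ (σ x) = x ^ 2) (a x y : K) (z : GL Data.F4.tbl.I K) :
    G6 σ x y * (G1 σ a * z) = G1 σ a * (G2 σ 0 (σ a * x) * (G3 σ (a * σ x) * (G4 σ 0 (a * y) * (G6 σ x y * (z))))) := by simp only [← mul_assoc, c16 hσ]

theorem c17' {σ : K ≃+* K} (hσ : ∀ x, σ (σ x) = x ^ 2) (a x : K) (z : GL Data.F4.tbl.I K) :
    G7 σ x * (G1 σ a * z) = G1 σ a * (G3 σ (σ a * x) * (G5 σ (a * σ x) * (G7 σ x * (z)))) := by simp only [← mul_assoc, c17 hσ]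

theorem c18' {σ : K ≃+* K} (hσ : ∀ x, σ (σ x) = x ^ 2) (a x y : K) (z : GL Data.F4.tbl.I K) :
    G8 σ x y * (G1 σ a * z) = G1 σ a * (G2 σ (a * x) (a * σ a * y) * (G3 σ (a * σ a * x * y + a * σ a * x ^ 2 * σ x + a * σ a * σ y) * (G4 σ (σ a * y) (a ^ 2 * σ a * x * y ^ 2 + a ^ 2 * σ a * x * σ x * σ y + a ^ 2 * σ a * x ^ 3 * (σ x) ^ 2 + a ^ 2 * σ a * y * σ y) * (G5 σ (a * σ a * x ^ 2 * (σ x) ^ 2 + a * σ a * y ^ 2 + a * σ a * σ x * σ y) * (G6 σ (a * x * σ x + a * y) (a * σ a * x * y ^ 2 + a * σ a * x * σ x * σ y + a * σ a * x ^ 3 * (σ x) ^ 2) * (G7 σ (a * x * y + a * x ^ 2 * σ x + a * σ y) * (G8 σ x y * (z)))))))) := by simp only [← mul_assoc, c18 hσ]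

theorem c23' {σ : K ≃+* K} (hσ : ∀ x, σ (σ x) = x ^ 2) (a b x : K) (z : GL Data.F4.tbl.I K) :
    G3 σ x * (G2 σ a b * z) = G2 σ a b * (G3 σ x * (z)) := by simp only [← mul_assoc, c23 hσ]

theorem c24' {σ : K ≃+* K} (hσ : ∀ x, σ (σ x) = x ^ 2) (a b x y : K) (z : GL Data.F4.tbl.I K) :
    G4 σ x y * (G2 σ a b * z) = G2 σ a b * (G3 σ (a * x) * (G4 σ x y * (z))) := by simp only [← mul_assoc, c24 hσ]

theorem c25' {σ : K ≃+* K} (hσ : ∀ x, σ (σ x) = x ^ 2) (a b x : K) (z : GL Data.F4.tbl.I K) :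
    G5 σ x * (G2 σ a b * z) = G2 σ a b * (G4 σ 0 (a * x) * (G5 σ x * (z))) := by simp only [← mul_assoc, c25 hσ]

theorem c26' {σ : K ≃+* K} (hσ : ∀ x, σ (σ x) = x ^ 2) (a b x y : K) (z : GL Data.F4.tbl.I K) :
    G6 σ x y * (G2 σ a b * z) = G2 σ a b * (G6 σ x y * (z)) := by simp only [← mul_assoc, c26 hσ]

theorem c27' {σ : K ≃+* K} (hσ : ∀ x, σ (σ x) = x ^ 2) (a b x : K) (z : GL Data.F4.tbl.I K) :
    G7 σ x * (G2 σ a b * z) = G2 σ a b * (G4 σ 0 (a * σ a * x + b * x) * (G5 σ (σ a * x) * (G6 σ 0 (a * σ x) * (G7 σ x * (z))))) := by simp only [← mul_assoc, c27 hσ]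

theorem c28' {σ : K ≃+* K} (hσ : ∀ x, σ (σ x) = x ^ 2) (a b x y : K) (z : GL Data.F4.tbl.I K) :
    G8 σ x y * (G2 σ a b * z) = G2 σ a b * (G3 σ (a * σ a * x + b * x) * (G4 σ (σ a * x) (a * b * x * σ x + a * b * y + a ^ 2 * σ a * x * σ x + a ^ 2 * σ a * y + σ b * y) * (G5 σ (b * x * σ x + b * y) * (G6 σ (a * σ x) (a * σ a * σ y + b * x * y + b * x ^ 2 * σ x + b * σ y) * (G7 σ (a * y) * (G8 σ x y * (z))))))) := by simp only [← mul_assoc, c28 hσ]

theorem c34' {σ : K ≃+* K} (hσ : ∀ x, σ (σ x) = x ^ 2) (a x y : K) (z : GL Data.F4.tbl.I K) :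
    G4 σ x y * (G3 σ a * z) = G3 σ a * (G4 σ x y * (z)) := by simp only [← mul_assoc, c34 hσ]

theorem c35' {σ : K ≃+* K} (hσ : ∀ x, σ (σ x) = x ^ 2) (a x : K) (z : GL Data.F4.tbl.I K) :
    G5 σ x * (G3 σ a * z) = G3 σ a * (G5 σ x * (z)) := by simp only [← mul_assoc, c35 hσ]

theorem c36' {σ : K ≃+* K} (hσ : ∀ x, σ (σ x) = x ^ 2) (a x y : K) (z : GL Data.F4.tbl.I K) :
    G6 σ x y * (G3 σ a * z) = G3 σ a * (G4 σ 0 (a * x) * (G6 σ x y * (z))) := by simp only [← mul_assoc, c36 hσ]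

theorem c37' {σ : K ≃+* K} (hσ : ∀ x, σ (σ x) = x ^ 2) (a x : K) (z : GL Data.F4.tbl.I K) :
    G7 σ x * (G3 σ a * z) = G3 σ a * (G7 σ x * (z)) := by simp only [← mul_assoc, c37 hσ]

theorem c38' {σ : K ≃+* K} (hσ : ∀ x, σ (σ x) = x ^ 2) (a x y : K) (z : GL Data.F4.tbl.I K) :
    G8 σ x y * (G3 σ a * z) = G3 σ a * (G4 σ 0 (σ a * x) * (G5 σ (a * σ x) * (G6 σ 0 (a * y) * (G8 σ x y * (z))))) := by simp only [← mul_assoc, c38 hσ]

theorem c45' {σ : K ≃+* K} (hσ : ∀ x, σ (σ x) = x ^ 2) (a b x : K) (z : GL Data.F4.tbl.I K) :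
    G5 σ x * (G4 σ a b * z) = G4 σ a b * (G5 σ x * (z)) := by simp only [← mul_assoc, c45 hσ]

theorem c46' {σ : K ≃+* K} (hσ : ∀ x, σ (σ x) = x ^ 2) (a b x y : K) (z : GL Data.F4.tbl.I K) :
    G6 σ x y * (G4 σ a b * z) = G4 σ a b * (G5 σ (a * x) * (G6 σ x y * (z))) := by simp only [← mul_assoc, c46 hσ]

theorem c47' {σ : K ≃+* K} (hσ : ∀ x, σ (σ x) = x ^ 2) (a b x : K) (z : GL Data.F4.tbl.I K) :
    G7 σ x * (G4 σ a b * z) = G4 σ a b * (G6 σ 0 (a * x) * (G7 σ x * (z))) := by simp only [← mul_assoc, c47 hσ]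

theorem c48' {σ : K ≃+* K} (hσ : ∀ x, σ (σ x) = x ^ 2) (a b x y : K) (z : GL Data.F4.tbl.I K) :
    G8 σ x y * (G4 σ a b * z) = G4 σ a b * (G8 σ x y * (z)) := by simp only [← mul_assoc, c48 hσ]

theorem c56' {σ : K ≃+* K} (hσ : ∀ x, σ (σ x) = x ^ 2) (a x y : K) (z : GL Data.F4.tbl.I K) :
    G6 σ x y * (G5 σ a * z) = G5 σ a * (G6 σ x y * (z)) := by simp only [← mul_assoc, c56 hσ]

theorem c57' {σ : K ≃+* K} (hσ : ∀ x, σ (σ x) = x ^ 2) (a x : K) (z : GL Data.F4.tbl.I K) :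
    G7 σ x * (G5 σ a * z) = G5 σ a * (G7 σ x * (z)) := by simp only [← mul_assoc, c57 hσ]

theorem c58' {σ : K ≃+* K} (hσ : ∀ x, σ (σ x) = x ^ 2) (a x y : K) (z : GL Data.F4.tbl.I K) :
    G8 σ x y * (G5 σ a * z) = G5 σ a * (G6 σ 0 (a * x) * (G8 σ x y * (z))) := by simp only [← mul_assoc, c58 hσ]

theorem c67' {σ : K ≃+* K} (hσ : ∀ x, σ (σ x) = x ^ 2) (a b x : K) (z : GL Data.F4.tbl.I K) :
    G7 σ x * (G6 σ a b * z) = G6 σ a b * (G7 σ x * (z)) := by simp only [← mul_assoc, c67 hσ]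

theorem c68' {σ : K ≃+* K} (hσ : ∀ x, σ (σ x) = x ^ 2) (a b x y : K) (z : GL Data.F4.tbl.I K) :
    G8 σ x y * (G6 σ a b * z) = G6 σ a b * (G7 σ (a * x) * (G8 σ x y * (z))) := by simp only [← mul_assoc, c68 hσ]

theorem c78' {σ : K ≃+* K} (hσ : ∀ x, σ (σ x) = x ^ 2) (a x y : K) (z : GL Data.F4.tbl.I K) :
    G8 σ x y * (G7 σ a * z) = G7 σ a * (G8 σ x y * (z)) := by simp only [← mul_assoc, c78 hσ]

theorem G1_congr (σ : K ≃+* K) {s s' : K} {z w : GL Data.F4.tbl.I K} (h : s = s') (hz : z = w) :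
    G1 σ s * z = G1 σ s' * w := by rw [h, hz]

theorem G1_congr' (σ : K ≃+* K) {s s' : K} (h : s = s') : G1 σ s = G1 σ s' := by rw [h]

theorem G2_congr (σ : K ≃+* K) {s s' u u' : K} {z w : GL Data.F4.tbl.I K} (h : s = s') (hu : u = u')
    (hz : z = w) : G2 σ s u * z = G2 σ s' u' * w := by rw [h, hu, hz]

theorem G2_congr' (σ : K ≃+* K) {s s' u u' : K} (h : s = s') (hu : u = u') :
    G2 σ s u = G2 σ s' u' := by rw [h, hu]

theorem G3_congr (σ : K ≃+* K) {s s' : K} {z w : GL Data.F4.tbl.I K} (h : s = s') (hz : z = w) :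
    G3 σ s * z = G3 σ s' * w := by rw [h, hz]

theorem G3_congr' (σ : K ≃+* K) {s s' : K} (h : s = s') : G3 σ s = G3 σ s' := by rw [h]

theorem G4_congr (σ : K ≃+* K) {s s' u u' : K} {z w : GL Data.F4.tbl.I K} (h : s = s') (hu : u = u')
    (hz : z = w) : G4 σ s u * z = G4 σ s' u' * w := by rw [h, hu, hz]

theorem G4_congr' (σ : K ≃+* K) {s s' u u' : K} (h : s = s') (hu : u = u') :
    G4 σ s u = G4 σ s' u' := by rw [h, hu]

theorem G5_congr (σ : K ≃+* K) {s s' : K} {z w : GL Data.F4.tbl.I K} (h : s = s') (hz : z = w) :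
    G5 σ s * z = G5 σ s' * w := by rw [h, hz]

theorem G5_congr' (σ : K ≃+* K) {s s' : K} (h : s = s') : G5 σ s = G5 σ s' := by rw [h]

theorem G6_congr (σ : K ≃+* K) {s s' u u' : K} {z w : GL Data.F4.tbl.I K} (h : s = s') (hu : u = u')
    (hz : z = w) : G6 σ s u * z = G6 σ s' u' * w := by rw [h, hu, hz]

theorem G6_congr' (σ : K ≃+* K) {s s' u u' : K} (h : s = s') (hu : u = u') :
    G6 σ s u = G6 σ s' u' := by rw [h, hu]

theorem G7_congr (σ : K ≃+* K) {s s' : K} {z w : GL Data.F4.tbl.I K} (h : s = s') (hz : z = w) :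
    G7 σ s * z = G7 σ s' * w := by rw [h, hz]

theorem G7_congr' (σ : K ≃+* K) {s s' : K} (h : s = s') : G7 σ s = G7 σ s' := by rw [h]

theorem G8_congr (σ : K ≃+* K) {s s' u u' : K} {z w : GL Data.F4.tbl.I K} (h : s = s') (hu : u = u')
    (hz : z = w) : G8 σ s u * z = G8 σ s' u' * w := by rw [h, hu, hz]

theorem G8_congr' (σ : K ≃+* K) {s s' u u' : K} (h : s = s') (hu : u = u') :
    G8 σ s u = G8 σ s' u' := by rw [h, hu]

/-- The element with twelve coordinates. -/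
noncomputable def N (σ : K ≃+* K) (a b B c d D e f F g h H : K) : GL Data.F4.tbl.I K :=
  G1 σ a * (G2 σ b B * (G3 σ c * (G4 σ d D * (G5 σ e * (G6 σ f F * (G7 σ g * G8 σ h H))))))

theorem sq_collect {σ : K ≃+* K} (hσ : ∀ x, σ (σ x) = x ^ 2) (a b B c d D e f F g h H : K) :
    N σ a b B c d D e f F g h H * N σ a b B c d D e f F g h H =
      N σ 0 (a * h) (H * a * σ a + a * d + a * σ b * h + b * σ b + σ a * b * σ h + σ a * f) (B * h + H * a * σ a * h + H * σ a * b + a * d * h + a * σ a * h ^ 2 * σ h + a * σ f + b * d + b * σ b * h + σ H * a * σ a + σ a * g) (H * σ a + σ b * h) (B * H * b + B * b * h * σ h + B * f * h + B * g + B * σ H * a + F * a + H * a * c + H * a * σ a * f * h + H * a * σ a * g + H * b ^ 2 * σ b + H * σ H * a ^ 2 * σ a + H * σ a * b * f + H * σ a * b ^ 2 * σ h + H * σ a * σ d + H ^ 2 * a * σ a * b + H ^ 2 * a ^ 2 * σ a * h + a * b * σ g + a * c * h * σ h + a * e * h + a * σ a * b * h ^ 2 * (σ h) ^ 2 + a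 * σ a * f * h ^ 2 * σ h + a * σ a * g * h * σ h + a ^ 2 * σ a * h ^ 3 * (σ h) ^ 2 + a ^ 2 * σ g * h + b * c * σ h + b * e + b * σ b * f * h + b * σ b * g + b ^ 2 * d * σ h + b ^ 2 * σ b * h * σ h + c * f + d * σ d + σ B * H + σ H * a * b * σ b + σ H * a * σ a * b * σ h + σ H * a * σ a * f + σ H * a ^ 2 * d + σ H * a ^ 2 * σ a * h * σ h + σ a * b * g * σ h + σ a * f * g + σ b * σ d * h + σ c * h) (B * H + B * h * σ h + H * a * d + H * σ a * f + H ^ 2 * a * σ a + a * d * h * σ h + a * σ a * h ^ 2 * (σ h) ^ 2 + a * σ g + b * d * σ h + c * σ h + d * f + σ H * a * σ a * σ h + σ H * a * σ b + σ a * g * σ h + σ b * f * h + σ b * g) (H * a + a * h * σ h + b * σ h) (B * H * h + B * h ^ 2 * σ h + B * σ H + H * a * d * h + H * a * σ f + H * b * d + H * c + H * σ a * g + H ^ 2 * a * σ a * h + H ^ 2 * σ a * b + a * d * h ^ 2 * σ h + a * σ a * h ^ 3 * (σ h) ^ 2 + a * σ f * h * σ h + a * σ g * h + b * σ f * σ h + b * σ g + d * g + e * h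 + f * σ f + σ H * a * d + σ H * a * σ a * h * σ h + σ H * a * σ b * h + σ H * b * σ b + σ H * σ a * b * σ h + σ H * σ a * f + σ a * b * h ^ 2 * (σ h) ^ 2 + σ a * f * h ^ 2 * σ h + σ b * f * h ^ 2 + σ b * g * h) (H * a * h + H * b + a * h ^ 2 * σ h + f * h + σ H * a) 0 (h * σ h) := by
  have h2 : (2 : K) = 0 := CharTwo.two_eq_zero
  simp only [N]
  repeat simp only [mul_assoc, one_mul, mul_one, map_zero, mul_zero, zero_mul, add_zero, zero_add, G1_zero, G2_zero, G3_zero, G4_zero, G5_zero, G6_zero, G7_zero, G8_zero, mul1 hσ, mul1' hσ, c12 hσ, c12' hσ, c13 hσ, c13' hσ, c14 hσ, c14' hσ, c15 hσ, c15' hσ, c16 hσ, c16' hσ, c17 hσ, c17' hσ, c18 hσ, c18' hσ, mul2 hσ, mul2' hσ, c23 hσ, c23' hσ, c24 hσ, c24' hσ, c25 hσ, c25' hσ, c26 hσ, c26' hσ, c27 hσ, c27' hσ, c28 hσ, c28' hσ, mul3 hσ, mul3' hσ, c34 hσ, c34' hσ, c35 hσ, c35' hσ, c36 hσ, c36' hσ, c37 hσ, c37' hσ, c38 hσ, c38' hσ, mul4 hσ, mul4' hσ, c45 hσ, c45' hσ, c46 hσ, c46' hσ, c47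 hσ, c47' hσ, c48 hσ, c48' hσ, mul5 hσ, mul5' hσ, c56 hσ, c56' hσ, c57 hσ, c57' hσ, c58 hσ, c58' hσ, mul6 hσ, mul6' hσ, c67 hσ, c67' hσ, c68 hσ, c68' hσ, mul7 hσ, mul7' hσ, c78 hσ, c78' hσ, mul8 hσ, mul8' hσ]
  try simp only [map_add, map_mul, map_pow, map_zero, hσ, CharTwo.add_self_eq_zero, zero_add, add_zero, G1_zero, G2_zero, G3_zero, G4_zero, G5_zero, G6_zero, G7_zero, G8_zero, one_mul, mul_one]
  repeat' (first | with_reducible apply G1_congr | with_reducible apply G2_congr | with_reducible apply G3_congr | with_reducible apply G4_congr | with_reducible apply G5_congr | with_reducible apply G6_congr | with_reducible apply G7_congr | with_reducible apply G8_congr | with_reducible apply G1_congr' | with_reducible apply G2_congr' | with_reducible apply G3_congr' | with_reducible apply G4_congr' | with_reducible apply G5_congr' | with_reducible apply G6_congr' | with_reducible apply G7_congr' | with_reducible apply G8_congr')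
  all_goals first | rfl | ring1 | grind

theorem conj8x {σ : K ≃+* K} (hσ : ∀ x, σ (σ x) = x ^ 2) (x a b B c d D e f F g : K) :
    G8 σ x 0 * N σ a b B c d D e f F g 0 0 =
      N σ a (a * x + b) (B + a * σ b * x) (B * x + a * σ a * x ^ 2 * σ x + b * σ b * x + c) (d + σ b * x) (B * b * x * σ x + D + a * c * x * σ x + a * σ a * b * x ^ 2 * (σ x) ^ 2 + a ^ 2 * σ a * x ^ 3 * (σ x) ^ 2 + b * c * σ x + b ^ 2 * σ b * x * σ x + σ b * σ d * x + σ c * x) (B * x * σ x + a * d * x * σ x + a * σ a * x ^ 2 * (σ x) ^ 2 + b * d * σ x + c * σ x + e) (a * x * σ x + b * σ x + f) (B * x ^ 2 * σ x + F + a * d * x ^ 2 * σ x + a * σ a * x ^ 3 * (σ x) ^ 2 + a * σ f * x * σ x + b * σ f * σ x + e * x + σ a * b * x ^ 2 * (σ x) ^ 2) (a * x ^ 2 * σ x + f * x + g) 0 0 * G8 σ x 0 := by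
  have h2 : (2 : K) = 0 := CharTwo.two_eq_zero
  simp only [N]
  repeat simp only [mul_assoc, one_mul, mul_one, map_zero, mul_zero, zero_mul, add_zero, zero_add, G1_zero, G2_zero, G3_zero, G4_zero, G5_zero, G6_zero, G7_zero, G8_zero, mul1 hσ, mul1' hσ, c12 hσ, c12' hσ, c13 hσ, c13' hσ, c14 hσ, c14' hσ, c15 hσ, c15' hσ, c16 hσ, c16' hσ, c17 hσ, c17' hσ, c18 hσ, c18' hσ, mul2 hσ, mul2' hσ, c23 hσ, c23' hσ, c24 hσ, c24' hσ, c25 hσ, c25' hσ, c26 hσ, c26' hσ, c27 hσ, c27' hσ, c28 hσ, c28' hσ, mul3 hσ, mul3' hσ, c34 hσ, c34' hσ, c35 hσ, c35' hσ, c36 hσ, c36' hσ, c37 hσ, c37' hσ, c38 hσ, c38' hσ, mul4 hσ, mul4' hσ, c45 hσ, c45' hσ, c46 hσ, c46' hσ, c47 hσ, c47' hσ, c48 hσ, c48' hσ, mul5 hσ, mul5' hσ, c56 hσ, c56' hσ, c57 hσ, c57' hσ, c58 hσ, c58' hσ, mul6 hσ, mul6' hσ, c67 hσ, c67' hσ, c68 hσ, c68' hσ, mul7 hσ, mul7' hσ, c78 hσ, c78' hσ, mul8 hσ, mul8' hσ]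
  try simp only [map_add, map_mul, map_pow, map_zero, hσ, CharTwo.add_self_eq_zero, zero_add, add_zero, G1_zero, G2_zero, G3_zero, G4_zero, G5_zero, G6_zero, G7_zero, G8_zero, one_mul, mul_one]
  repeat' (first | with_reducible apply G1_congr | with_reducible apply G2_congr | with_reducible apply G3_congr | with_reducible apply G4_congr | with_reducible apply G5_congr | with_reducible apply G6_congr | with_reducible apply G7_congr | with_reducible apply G8_congr | with_reducible apply G1_congr' | with_reducible apply G2_congr' | with_reducible apply G3_congr' | with_reducible apply G4_congr' | with_reducible apply G5_congr' | with_reducible apply G6_congr' | with_reducible apply G7_congr' | with_reducible apply G8_congr')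
  all_goals first | rfl | ring1 | grind

theorem conj8y {σ : K ≃+* K} (hσ : ∀ x, σ (σ x) = x ^ 2) (y a B c d D e f F g : K) :
    G8 σ 0 y * N σ a 0 B c d D e f F g 0 0 =
      N σ a 0 (B + a * σ a * y) (a * σ a * σ y + c) (d + σ a * y) (B * a * σ y + D + a * c * y + a ^ 2 * σ a * y * σ y + σ B * y + σ a * σ d * y) (B * y + a * d * y + a * σ a * y ^ 2 + e) (a * y + f) (B * σ y + F + a * d * σ y + a * σ f * y + c * y) (a * σ y + g) 0 0 * G8 σ 0 y := by
  have h2 : (2 : K) = 0 := CharTwo.two_eq_zero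
  simp only [N]
  repeat simp only [mul_assoc, one_mul, mul_one, map_zero, mul_zero, zero_mul, add_zero, zero_add, G1_zero, G2_zero, G3_zero, G4_zero, G5_zero, G6_zero, G7_zero, G8_zero, mul1 hσ, mul1' hσ, c12 hσ, c12' hσ, c13 hσ, c13' hσ, c14 hσ, c14' hσ, c15 hσ, c15' hσ, c16 hσ, c16' hσ, c17 hσ, c17' hσ, c18 hσ, c18' hσ, mul2 hσ, mul2' hσ, c23 hσ, c23' hσ, c24 hσ, c24' hσ, c25 hσ, c25' hσ, c26 hσ, c26' hσ, c27 hσ, c27' hσ, c28 hσ, c28' hσ, mul3 hσ, mul3' hσ, c34 hσ, c34' hσ, c35 hσ, c35' hσ, c36 hσ, c36' hσ, c37 hσ, c37' hσ, c38 hσ, c38' hσ, mul4 hσ, mul4' hσ, c45 hσ, c45' hσ, c46 hσ, c46' hσ, c47 hσ, c47' hσ, c48 hσ, c48' hσ, mul5 hσ, mul5' hσ, c56 hσ, c56' hσ, c57 hσ, c57' hσ, c58 hσ, c58' hσ, mul6 hσ, mul6' hσ, c67 hσ, c67' hσ, c68 hσ, c68' hσ, mul7 hσ, mul7' hσ, c78 hσ, c78' hσ, mul8 hσ, mul8' hσ]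
  try simp only [map_add, map_mul, map_pow, map_zero, hσ, CharTwo.add_self_eq_zero, zero_add, add_zero, G1_zero, G2_zero, G3_zero, G4_zero, G5_zero, G6_zero, G7_zero, G8_zero, one_mul, mul_one]
  repeat' (first | with_reducible apply G1_congr | with_reducible apply G2_congr | with_reducible apply G3_congr | with_reducible apply G4_congr | with_reducible apply G5_congr | with_reducible apply G6_congr | with_reducible apply G7_congr | with_reducible apply G8_congr | with_reducible apply G1_congr' | with_reducible apply G2_congr' | with_reducible apply G3_congr' | with_reducible apply G4_congr' | with_reducible apply G5_congr' | with_reducible apply G6_congr' | with_reducible apply G7_congr' | with_reducible apply G8_congr')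
  all_goals first | rfl | ring1 | grind

theorem conj7a {σ : K ≃+* K} (hσ : ∀ x, σ (σ x) = x ^ 2) (z a B c D e : K) :
    G7 σ z * N σ a 0 B c 0 D e 0 0 0 0 0 =
      N σ a 0 B (c + σ a * z) 0 (B * z + D) (a * σ z + e) 0 0 0 0 0 * G7 σ z := by
  have h2 : (2 : K) = 0 := CharTwo.two_eq_zero
  simp only [N]
  repeat simp only [mul_assoc, one_mul, mul_one, map_zero, mul_zero, zero_mul, add_zero, zero_add, G1_zero, G2_zero, G3_zero, G4_zero, G5_zero, G6_zero, G7_zero, G8_zero, mul1 hσ, mul1' hσ, c12 hσ, c12' hσ, c13 hσ, c13' hσ, c14 hσ, c14' hσ, c15 hσ, c15' hσ, c16 hσ, c16' hσ, c17 hσ, c17' hσ, mul2 hσ, mul2' hσ, c23 hσ, c23' hσ, c24 hσ, c24' hσ, c25 hσ, c25' hσ, c26 hσ, c26' hσ, c27 hσ, c27' hσ, mul3 hσ, mul3' hσ, c34 hσ, c34' hσ, c35 hσ, c35' hσ, c36 hσ, c36' hσ, c37 hσ, c37' hσ, mul4 hσ, mul4' hσ, c45 hσ, c45' hσ, c46 hσ, c46' hσ, c47 hσ, c47' hσ, mul5 hσ, mul5' hσ, c56 hσ, c56' hσ, c57 hσ, c57' hσ, mul6 hσ, mul6' hσ, c67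 hσ, c67' hσ, mul7 hσ, mul7' hσ]
  try simp only [map_add, map_mul, map_pow, map_zero, hσ, CharTwo.add_self_eq_zero, zero_add, add_zero, G1_zero, G2_zero, G3_zero, G4_zero, G5_zero, G6_zero, G7_zero, G8_zero, one_mul, mul_one]
  repeat' (first | with_reducible apply G1_congr | with_reducible apply G2_congr | with_reducible apply G3_congr | with_reducible apply G4_congr | with_reducible apply G5_congr | with_reducible apply G6_congr | with_reducible apply G7_congr | with_reducible apply G8_congr | with_reducible apply G1_congr' | with_reducible apply G2_congr' | with_reducible apply G3_congr' | with_reducible apply G4_congr' | with_reducible apply G5_congr' | with_reducible apply G6_congr' | with_reducible apply G7_congr' | with_reducible apply G8_congr')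
  all_goals first | rfl | ring1 | grind

theorem conj6x {σ : K ≃+* K} (hσ : ∀ x, σ (σ x) = x ^ 2) (x a B c D : K) :
    G6 σ x 0 * N σ a 0 B c 0 D 0 0 0 0 0 0 =
      N σ a 0 (B + σ a * x) (a * σ x + c) 0 (D + c * x) 0 0 0 0 0 0 * G6 σ x 0 := by
  have h2 : (2 : K) = 0 := CharTwo.two_eq_zero
  simp only [N]
  repeat simp only [mul_assoc, one_mul, mul_one, map_zero, mul_zero, zero_mul, add_zero, zero_add, G1_zero, G2_zero, G3_zero, G4_zero, G5_zero, G6_zero, G7_zero, G8_zero, mul1 hσ, mul1' hσ, c12 hσ, c12' hσ, c13 hσ, c13' hσ, c14 hσ, c14' hσ, c15 hσ, c15' hσ, c16 hσ, c16' hσ, mul2 hσ, mul2' hσ, c23 hσ, c23' hσ, c24 hσ, c24' hσ, c25 hσ, c25' hσ, c26 hσ, c26' hσ, mul3 hσ, mul3' hσ, c34 hσ, c34' hσ, c35 hσ, c35' hσ, c36 hσ, c36' hσ, mul4 hσ, mul4' hσ, c45 hσ, c45' hσ, c46 hσ, c46' hσ, mul5 hσ, mul5' hσ, c56 hσ, c56' hσ, mul6 hσ, mul6' hσ]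
  try simp only [map_add, map_mul, map_pow, map_zero, hσ, CharTwo.add_self_eq_zero, zero_add, add_zero, G1_zero, G2_zero, G3_zero, G4_zero, G5_zero, G6_zero, G7_zero, G8_zero, one_mul, mul_one]
  repeat' (first | with_reducible apply G1_congr | with_reducible apply G2_congr | with_reducible apply G3_congr | with_reducible apply G4_congr | with_reducible apply G5_congr | with_reducible apply G6_congr | with_reducible apply G7_congr | with_reducible apply G8_congr | with_reducible apply G1_congr' | with_reducible apply G2_congr' | with_reducible apply G3_congr' | with_reducible apply G4_congr' | with_reducible apply G5_congr' | with_reducible apply G6_congr' | with_reducible apply G7_congr' | with_reducible apply G8_congr')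
  all_goals first | rfl | ring1 | grind

theorem conj6y {σ : K ≃+* K} (hσ : ∀ x, σ (σ x) = x ^ 2) (y a B D : K) :
    G6 σ 0 y * N σ a 0 B 0 0 D 0 0 0 0 0 0 =
      N σ a 0 B 0 0 (D + a * y) 0 0 0 0 0 0 * G6 σ 0 y := by
  have h2 : (2 : K) = 0 := CharTwo.two_eq_zero
  simp only [N]
  repeat simp only [mul_assoc, one_mul, mul_one, map_zero, mul_zero, zero_mul, add_zero, zero_add, G1_zero, G2_zero, G3_zero, G4_zero, G5_zero, G6_zero, G7_zero, G8_zero, mul1 hσ, mul1' hσ, c12 hσ, c12' hσ, c13 hσ, c13' hσ, c14 hσ, c14' hσ, c15 hσ, c15' hσ, c16 hσ, c16' hσ, mul2 hσ, mul2' hσ, c23 hσ, c23' hσ, c24 hσ, c24' hσ, c25 hσ, c25' hσ, c26 hσ, c26' hσ, mul3 hσ, mul3' hσ, c34 hσ, c34' hσ, c35 hσ, c35' hσ, c36 hσ, c36' hσ, mul4 hσ, mul4' hσ, c45 hσ, c45' hσ, c46 hσ, c46' hσ, mul5 hσ, mul5' hσ, c56 hσ, c56' hσ, mul6 hσ, mul6' hσ]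
  try simp only [map_add, map_mul, map_pow, map_zero, hσ, CharTwo.add_self_eq_zero, zero_add, add_zero, G1_zero, G2_zero, G3_zero, G4_zero, G5_zero, G6_zero, G7_zero, G8_zero, one_mul, mul_one]
  repeat' (first | with_reducible apply G1_congr | with_reducible apply G2_congr | with_reducible apply G3_congr | with_reducible apply G4_congr | with_reducible apply G5_congr | with_reducible apply G6_congr | with_reducible apply G7_congr | with_reducible apply G8_congr | with_reducible apply G1_congr' | with_reducible apply G2_congr' | with_reducible apply G3_congr' | with_reducible apply G4_congr' | with_reducible apply G5_congr' | with_reducible apply G6_congr' | with_reducible apply G7_congr' | with_reducible apply G8_congr')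
  all_goals first | rfl | ring1 | grind

theorem conj4 {σ : K ≃+* K} (hσ : ∀ x, σ (σ x) = x ^ 2) (x a B : K) :
    G4 σ x 0 * N σ a 0 B 0 0 0 0 0 0 0 0 0 =
      N σ a 0 (B + a * x) 0 0 0 0 0 0 0 0 0 * G4 σ x 0 := by
  have h2 : (2 : K) = 0 := CharTwo.two_eq_zero
  simp only [N]
  repeat simp only [mul_assoc, one_mul, mul_one, map_zero, mul_zero, zero_mul, add_zero, zero_add, G1_zero, G2_zero, G3_zero, G4_zero, G5_zero, G6_zero, G7_zero, G8_zero, mul1 hσ, mul1' hσ, c12 hσ, c12' hσ, c13 hσ, c13' hσ, c14 hσ, c14' hσ, mul2 hσ, mul2' hσ, c23 hσ, c23' hσ, c24 hσ, c24' hσ, mul3 hσ, mul3' hσ, c34 hσ, c34' hσ, mul4 hσ, mul4' hσ]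
  try simp only [map_add, map_mul, map_pow, map_zero, hσ, CharTwo.add_self_eq_zero, zero_add, add_zero, G1_zero, G2_zero, G3_zero, G4_zero, G5_zero, G6_zero, G7_zero, G8_zero, one_mul, mul_one]
  repeat' (first | with_reducible apply G1_congr | with_reducible apply G2_congr | with_reducible apply G3_congr | with_reducible apply G4_congr | with_reducible apply G5_congr | with_reducible apply G6_congr | with_reducible apply G7_congr | with_reducible apply G8_congr | with_reducible apply G1_congr' | with_reducible apply G2_congr' | with_reducible apply G3_congr' | with_reducible apply G4_congr' | with_reducible apply G5_congr' | with_reducible apply G6_congr' | with_reducible apply G7_congr' | with_reducible apply G8_congr')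
  all_goals first | rfl | ring1 | grind

theorem conj1 {σ : K ≃+* K} (hσ : ∀ x, σ (σ x) = x ^ 2) (t B c d D e f F g H : K) :
    G1 σ t * N σ 0 0 B c d D e f F g 0 H =
      N σ 0 0 (B + H * t * σ t + d * t + f * σ t) (c + g * σ t + σ H * t * σ t + σ f * t) (H * σ t + d) (D + F * t + H * g * t * σ t + H * σ H * t ^ 2 * σ t + f * g * σ t + σ H * d * t ^ 2 + σ H * f * t * σ t) (H * f * σ t + H ^ 2 * t * σ t + e + σ g * t) (H * t + f) (F + H * g * σ t + σ H * f * σ t) (g + σ H * t) 0 H * G1 σ t := by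
  have h2 : (2 : K) = 0 := CharTwo.two_eq_zero
  simp only [N]
  repeat simp only [mul_assoc, one_mul, mul_one, map_zero, mul_zero, zero_mul, add_zero, zero_add, G1_zero, G2_zero, G3_zero, G4_zero, G5_zero, G6_zero, G7_zero, G8_zero, mul1 hσ, mul1' hσ, c12 hσ, c12' hσ, c13 hσ, c13' hσ, c14 hσ, c14' hσ, c15 hσ, c15' hσ, c16 hσ, c16' hσ, c17 hσ, c17' hσ, c18 hσ, c18' hσ, mul2 hσ, mul2' hσ, c23 hσ, c23' hσ, c24 hσ, c24' hσ, c25 hσ, c25' hσ, c26 hσ, c26' hσ, c27 hσ, c27' hσ, c28 hσ, c28' hσ, mul3 hσ, mul3' hσ, c34 hσ, c34' hσ, c35 hσ, c35' hσ, c36 hσ, c36' hσ, c37 hσ, c37' hσ, c38 hσ, c38' hσ, mul4 hσ, mul4' hσ, c45 hσ, c45' hσ, c46 hσ, c46' hσ, c47 hσ, c47' hσ, c48 hσ, c48' hσ, mul5 hσ, mul5' hσ, c56 hσ, c56' hσ, c57 hσ, c57' hσ, c58 hσ, c58' hσ, mul6 hσ, mul6' hσ, c67 hσ, c67' hσ, c68 hσ, c68' hσ, mul7 hσ, mul7' hσ, c78 hσ, c78' hσ, mul8 hσ, mul8' hσ]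
  try simp only [map_add, map_mul, map_pow, map_zero, hσ, CharTwo.add_self_eq_zero, zero_add, add_zero, G1_zero, G2_zero, G3_zero, G4_zero, G5_zero, G6_zero, G7_zero, G8_zero, one_mul, mul_one]
  repeat' (first | with_reducible apply G1_congr | with_reducible apply G2_congr | with_reducible apply G3_congr | with_reducible apply G4_congr | with_reducible apply G5_congr | with_reducible apply G6_congr | with_reducible apply G7_congr | with_reducible apply G8_congr | with_reducible apply G1_congr' | with_reducible apply G2_congr' | with_reducible apply G3_congr' | with_reducible apply G4_congr' | with_reducible apply G5_congr' | with_reducible apply G6_congr' | with_reducible apply G7_congr' | with_reducible apply G8_congr')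
  all_goals first | rfl | ring1 | grind

theorem conj8c {σ : K ≃+* K} (hσ : ∀ x, σ (σ x) = x ^ 2) (x B c D e F : K) :
    G8 σ x 0 * N σ 0 0 B c 0 D e 0 F 0 0 0 =
      N σ 0 0 B (B * x + c) 0 (D + σ c * x) (B * x * σ x + c * σ x + e) 0 (B * x ^ 2 * σ x + F + e * x) 0 0 0 * G8 σ x 0 := by
  have h2 : (2 : K) = 0 := CharTwo.two_eq_zero
  simp only [N]
  repeat simp only [mul_assoc, one_mul, mul_one, map_zero, mul_zero, zero_mul, add_zero, zero_add, G1_zero, G2_zero, G3_zero, G4_zero, G5_zero, G6_zero, G7_zero, G8_zero, mul2 hσ, mul2' hσ, c23 hσ, c23' hσ, c24 hσ, c24' hσ, c25 hσ, c25' hσ, c26 hσ, c26' hσ, c27 hσ, c27' hσ, c28 hσ, c28' hσ, mul3 hσ, mul3' hσ, c34 hσ, c34' hσ, c35 hσ, c35' hσ, c36 hσ, c36' hσ, c37 hσ, c37' hσ, c38 hσ, c38' hσ, mul4 hσ, mul4' hσ, c45 hσ, c45' hσ, c46 hσ, c46' hσ, c47 hσ, c47' hσ, c48 hσ, c48' hσ, mul5 hσ, mul5' hσ, c56 hσ, c56' hσ, c57 hσ, c57' hσ, c58 hσ, c58' hσ, mul6 hσ, mul6' hσ, c67 hσ, c67'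 hσ, c68 hσ, c68' hσ, mul7 hσ, mul7' hσ, c78 hσ, c78' hσ, mul8 hσ, mul8' hσ]
  try simp only [map_add, map_mul, map_pow, map_zero, hσ, CharTwo.add_self_eq_zero, zero_add, add_zero, G1_zero, G2_zero, G3_zero, G4_zero, G5_zero, G6_zero, G7_zero, G8_zero, one_mul, mul_one]
  repeat' (first | with_reducible apply G1_congr | with_reducible apply G2_congr | with_reducible apply G3_congr | with_reducible apply G4_congr | with_reducible apply G5_congr | with_reducible apply G6_congr | with_reducible apply G7_congr | with_reducible apply G8_congr | with_reducible apply G1_congr' | with_reducible apply G2_congr' | with_reducible apply G3_congr' | with_reducible apply G4_congr' | with_reducible apply G5_congr' | with_reducible apply G6_congr' | with_reducible apply G7_congr' | with_reducible apply G8_congr')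
  all_goals first | rfl | ring1 | grind

theorem conj8F {σ : K ≃+* K} (hσ : ∀ x, σ (σ x) = x ^ 2) (y B e F : K) :
    G8 σ 0 y * N σ 0 0 B 0 0 0 e 0 F 0 0 0 =
      N σ 0 0 B 0 0 (σ B * y) (B * y + e) 0 (B * σ y + F) 0 0 0 * G8 σ 0 y := by
  have h2 : (2 : K) = 0 := CharTwo.two_eq_zero
  simp only [N]
  repeat simp only [mul_assoc, one_mul, mul_one, map_zero, mul_zero, zero_mul, add_zero, zero_add, G1_zero, G2_zero, G3_zero, G4_zero, G5_zero, G6_zero, G7_zero, G8_zero, mul2 hσ, mul2' hσ, c23 hσ, c23' hσ, c24 hσ, c24' hσ, c25 hσ, c25' hσ, c26 hσ, c26' hσ, c27 hσ, c27' hσ, c28 hσ, c28' hσ, mul3 hσ, mul3' hσ, c34 hσ, c34' hσ, c35 hσ, c35' hσ, c36 hσ, c36' hσ, c37 hσ, c37' hσ, c38 hσ, c38' hσ, mul4 hσ, mul4' hσ, c45 hσ, c45' hσ, c46 hσ, c46' hσ, c47 hσ, c47' hσ, c48 hσ, c48' hσ, mul5 hσ, mul5' hσ, c56 hσ, c56' hσ, c57 hσ, c57' hσ, c58 hσ, c58' hσ, mul6 hσ, mul6' hσ, c67 hσ, c67' hσ, c68 hσ, c68' hσ, mul7 hσ, mul7' hσ, c78 hσ,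 c78' hσ, mul8 hσ, mul8' hσ]
  try simp only [map_add, map_mul, map_pow, map_zero, hσ, CharTwo.add_self_eq_zero, zero_add, add_zero, G1_zero, G2_zero, G3_zero, G4_zero, G5_zero, G6_zero, G7_zero, G8_zero, one_mul, mul_one]
  repeat' (first | with_reducible apply G1_congr | with_reducible apply G2_congr | with_reducible apply G3_congr | with_reducible apply G4_congr | with_reducible apply G5_congr | with_reducible apply G6_congr | with_reducible apply G7_congr | with_reducible apply G8_congr | with_reducible apply G1_congr' | with_reducible apply G2_congr' | with_reducible apply G3_congr' | with_reducible apply G4_congr' | with_reducible apply G5_congr' | with_reducible apply G6_congr' | with_reducible apply G7_congr' | with_reducible apply G8_congr')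
  all_goals first | rfl | ring1 | grind

theorem conj7D {σ : K ≃+* K} (hσ : ∀ x, σ (σ x) = x ^ 2) (z B D e F : K) :
    G7 σ z * N σ 0 0 B 0 0 D e 0 F 0 0 0 =
      N σ 0 0 B 0 0 (B * z + D) e 0 F 0 0 0 * G7 σ z := by
  have h2 : (2 : K) = 0 := CharTwo.two_eq_zero
  simp only [N]
  repeat simp only [mul_assoc, one_mul, mul_one, map_zero, mul_zero, zero_mul, add_zero, zero_add, G1_zero, G2_zero, G3_zero, G4_zero, G5_zero, G6_zero, G7_zero, G8_zero, mul2 hσ, mul2' hσ, c23 hσ, c23' hσ, c24 hσ, c24' hσ, c25 hσ, c25' hσ, c26 hσ, c26' hσ, c27 hσ, c27' hσ, mul3 hσ, mul3' hσ, c34 hσ, c34' hσ, c35 hσ, c35' hσ, c36 hσ, c36' hσ, c37 hσ, c37' hσ, mul4 hσ, mul4' hσ, c45 hσ, c45' hσ, c46 hσ, c46' hσ, c47 hσ, c47' hσ, mul5 hσ, mul5' hσ, c56 hσ, c56' hσ, c57 hσ, c57' hσ, mul6 hσ, mul6' hσ, c67 hσ, c67' hσ, mul7 hσ, mul7' hσ]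
  try simp only [map_add, map_mul, map_pow, map_zero, hσ, CharTwo.add_self_eq_zero, zero_add, add_zero, G1_zero, G2_zero, G3_zero, G4_zero, G5_zero, G6_zero, G7_zero, G8_zero, one_mul, mul_one]
  repeat' (first | with_reducible apply G1_congr | with_reducible apply G2_congr | with_reducible apply G3_congr | with_reducible apply G4_congr | with_reducible apply G5_congr | with_reducible apply G6_congr | with_reducible apply G7_congr | with_reducible apply G8_congr | with_reducible apply G1_congr' | with_reducible apply G2_congr' | with_reducible apply G3_congr' | with_reducible apply G4_congr' | with_reducible apply G5_congr' | with_reducible apply G6_congr' | with_reducible apply G7_congr' | with_reducible apply G8_congr')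
  all_goals first | rfl | ring1 | grind

theorem rev1 {σ : K ≃+* K} (hσ : ∀ x, σ (σ x) = x ^ 2) (B c d D e f F g H : K) :
    G8 σ 0 B * (G7 σ c * (G6 σ d D * (G5 σ e * (G4 σ f F * (G3 σ g * (G2 σ 0 H)))))) =
      N σ 0 0 H g f (B * σ H + F + H * c + d * g) (B * H + d * f + e) d (B * g + D + c * f + σ B * H) c 0 B := by
  have h2 : (2 : K) = 0 := CharTwo.two_eq_zero
  simp only [N]
  repeat simp only [mul_assoc, one_mul, mul_one, map_zero, mul_zero, zero_mul, add_zero, zero_add, G1_zero, G2_zero, G3_zero, G4_zero, G5_zero, G6_zero, G7_zero, G8_zero, mul2 hσ, mul2' hσ, c23 hσ, c23' hσ, c24 hσ, c24' hσ, c25 hσ, c25' hσ, c26 hσ, c26' hσ, c27 hσ, c27' hσ, c28 hσ, c28' hσ, mul3 hσ, mul3' hσ, c34 hσ, c34' hσ, c35 hσ, c35' hσ, c36 hσ, c36' hσ, c37 hσ, c37' hσ, c38 hσ, c38' hσ, mul4 hσ, mul4' hσ, c45 hσ, c45' hσ, c46 hσ, c46' hσ, c47 hσ, c47' hσ, c48 hσ, c48' hσ, mul5 hσ, mul5' hσ, c56 hσ, c56' hσ, c57 hσ, c57' hσ, c58 hσ, c58' hσ,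 mul6 hσ, mul6' hσ, c67 hσ, c67' hσ, c68 hσ, c68' hσ, mul7 hσ, mul7' hσ, c78 hσ, c78' hσ, mul8 hσ, mul8' hσ]
  try simp only [map_add, map_mul, map_pow, map_zero, hσ, CharTwo.add_self_eq_zero, zero_add, add_zero, G1_zero, G2_zero, G3_zero, G4_zero, G5_zero, G6_zero, G7_zero, G8_zero, one_mul, mul_one]
  repeat' (first | with_reducible apply G1_congr | with_reducible apply G2_congr | with_reducible apply G3_congr | with_reducible apply G4_congr | with_reducible apply G5_congr | with_reducible apply G6_congr | with_reducible apply G7_congr | with_reducible apply G8_congr | with_reducible apply G1_congr' | with_reducible apply G2_congr' | with_reducible apply G3_congr' | with_reducible apply G4_congr' | with_reducible apply G5_congr' | with_reducible apply G6_congr' | with_reducible apply G7_congr' | with_reducible apply G8_congr')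
  all_goals first | rfl | ring1 | grind

theorem rev8 {σ : K ≃+* K} (hσ : ∀ x, σ (σ x) = x ^ 2) (B c d D e f F g : K) :
    G6 σ 0 B * (G5 σ c * (G4 σ d D * (G3 σ e * (G2 σ f F * (G1 σ g))))) =
      N σ g f (F + d * g) (d * f + e) d (B * g + D + c * f) c 0 B 0 0 0 := by
  have h2 : (2 : K) = 0 := CharTwo.two_eq_zero
  simp only [N]
  repeat simp only [mul_assoc, one_mul, mul_one, map_zero, mul_zero, zero_mul, add_zero, zero_add, G1_zero, G2_zero, G3_zero, G4_zero, G5_zero, G6_zero, G7_zero, G8_zero, mul1 hσ, mul1' hσ, c12 hσ, c12' hσ, c13 hσ, c13' hσ, c14 hσ, c14' hσ, c15 hσ, c15' hσ, c16 hσ, c16' hσ, mul2 hσ, mul2' hσ, c23 hσ, c23' hσ, c24 hσ, c24' hσ, c25 hσ, c25' hσ, c26 hσ, c26' hσ, mul3 hσ, mul3' hσ, c34 hσ, c34' hσ, c35 hσ, c35' hσ, c36 hσ, c36' hσ, mul4 hσ, mul4' hσ, c45 hσ, c45' hσ, c46 hσ, c46' hσ, mul5 hσ, mul5' hσ, c56 hσ, c56' hσ, mul6 hσ, mul6' hσ]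
  try simp only [map_add, map_mul, map_pow, map_zero, hσ, CharTwo.add_self_eq_zero, zero_add, add_zero, G1_zero, G2_zero, G3_zero, G4_zero, G5_zero, G6_zero, G7_zero, G8_zero, one_mul, mul_one]
  repeat' (first | with_reducible apply G1_congr | with_reducible apply G2_congr | with_reducible apply G3_congr | with_reducible apply G4_congr | with_reducible apply G5_congr | with_reducible apply G6_congr | with_reducible apply G7_congr | with_reducible apply G8_congr | with_reducible apply G1_congr' | with_reducible apply G2_congr' | with_reducible apply G3_congr' | with_reducible apply G4_congr' | with_reducible apply G5_congr' | with_reducible apply G6_congr' | with_reducible apply G7_congr' | with_reducible apply G8_congr')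
  all_goals first | rfl | ring1 | grind

end CfsgLib.F4Inv
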