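import Cfsg.Agent.Lib.KnownB.F4Inv.Elements
import Mathlib.FieldTheory.Finite.Basic

/-!
Every fixed positive involution of ²F₄ is conjugate to one of two standard elements, and these two are
not conjugate.
-/

set_option autoImplicit false
set_option maxRecDepth 20000
set_option maxHeartbeats 1000000
set_option linter.all false
set_option Elab.async false

namespace CfsgLib.F4Inv

open CfsgLib.Chevalley CfsgLib.Chevalley.Tbl

variable {K : Type*} [Field K] [CharP K 2] [Finite K] {m : ℕ} (hK : Nat.card K = 2 ^ (2 * m + 1))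

local notation "xx" => Data.F4.tbl.xU K
local notation "σ" => sig (K := K) (m := m)
local notation "SS" => Twist.F4.S hK

/-- Conjugate by a fixed element. -/
def Cj (u v : GL Data.F4.tbl.I K) : Prop := ∃ h ∈ (SS).fix, h * u = v * h

theorem cj_trans {u v w : GL Data.F4.tbl.I K} : Cj hK u v → Cj hK v w → Cj hK u w :=
  fun ⟨h, hh, e⟩ ⟨k, hk, e'⟩ => ⟨k * h, mul_mem hk hh, by rw [mul_assoc, e, ← mul_assoc, e', mul_assoc]⟩

theorem cj_symm {u v : GL Data.F4.tbl.I K} : Cj hK u v → Cj hK v u :=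
  fun ⟨h, hh, e⟩ => ⟨h⁻¹, inv_mem hh, by
    rw [inv_mul_eq_iff_eq_mul, ← mul_assoc, e, mul_inv_cancel_right]⟩

theorem cj_mul_self {u v : GL Data.F4.tbl.I K} (hc : Cj hK u v) (hu : u * u = 1) : v * v = 1 := by
  obtain ⟨h, -, e⟩ := hc
  have e' : h * u * h⁻¹ = v := by rw [e, mul_inv_cancel_right]
  rw [← e', conj_mul, hu, mul_one, mul_inv_cancel]

/-- The representative of the short class. -/
noncomputable def repA : GL Data.F4.tbl.I K := N σ 0 0 0 0 0 1 0 0 0 0 0 0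

/-- The representative of the other class. -/
noncomputable def repB : GL Data.F4.tbl.I K := N σ 1 0 0 0 0 0 0 0 0 0 0 0

omit [CharP K 2] in
theorem exists_sqrt [CharP K 2] (x : K) : ∃ y : K, y * y = x := by
  obtain ⟨y, hy⟩ := FiniteField.isSquare_of_char_two (ringChar.eq K 2) x
  exact ⟨y, hy.symm⟩

theorem sqz {x : K} (h : x * σ x = 0) : x = 0 := by
  rcases mul_eq_zero.mp h with h | h
  · exact h
  · exact (map_eq_zero σ).mp h

omit [Finite K] in
theorem div_kill {a b : K} (ha : a ≠ 0) : a * (b / a) + b = 0 := by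
  rw [mul_div_cancel₀ _ ha, CharTwo.add_self_eq_zero]

theorem sym_kill {a b : K} (ha : a ≠ 0) : a * σ ((σ).symm (b / a)) + b = 0 := by
  rw [RingEquiv.apply_symm_apply, div_kill ha]

theorem scale1 {a : K} (ha : a ≠ 0) : Cj hK (N σ a 0 0 0 0 0 0 0 0 0 0 0) (repB (m := m)) := by
  have e : ∀ s : K, N σ s 0 0 0 0 0 0 0 0 0 0 0 = Twist.F4.pair m 33 24 (σ s) := by
    intro s
    simp only [N, G2_zero, G3_zero, G4_zero, G5_zero, G6_zero, G7_zero, G8_zero, mul_one, G1,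
      Twist.F4.pair, gprod, List.map_cons, List.map_nil, List.prod_cons, List.prod_nil, theta_sig hK]
  obtain ⟨y, hy⟩ := exists_sqrt (σ a)⁻¹
  have hsa : σ a ≠ 0 := (map_ne_zero σ).mpr ha
  have hy0 : y ≠ 0 := fun h => by rw [h, mul_zero] at hy; exact inv_ne_zero hsa hy.symm
  have hc := Twist.F4.conj_pair hK (Units.mk0 y hy0) (σ a)
  rw [Units.val_mk0, pow_two, hy, inv_mul_cancel₀ hsa, mul_inv_eq_iff_eq_mul] at hc
  refine ⟨torusHom Data.F4.tbl K (Twist.F4.supp m (Units.mk0 y hy0) 1), ?_, ?_⟩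
  · exact ((Twist.F4.diag_fix hK).ge (Subgroup.mem_map_of_mem _ (Twist.F4.supp_mem hK _ _))).2
  · rw [repB, e, e, map_one]
    exact hc

omit [CharP K 2] [Finite K] in
theorem ca_four : ∀ i : Fin 4, Data.F4.tbl.ca i.val 44 = (if i.val = 0 then 1 else 0) ∧
    Data.F4.tbl.ca i.val 47 = (if i.val = 3 then 1 else 0) := by decide +kernel

theorem scale4 {u : K} (hu : u ≠ 0) : Cj hK (N σ 0 0 0 0 0 u 0 0 0 0 0 0) (repA (m := m)) := by
  have e : ∀ v : K, N σ 0 0 0 0 0 v 0 0 0 0 0 0 = Data.F4.tbl.gprod [(44, v), (47, σ v)] := by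
    intro v
    simp only [N, G1_zero, G2_zero, G3_zero, G5_zero, G6_zero, G7_zero, G8_zero, mul_one, one_mul, G4,
      map_zero, x_zero, Nat.reduceLT, zero_pow (two_ne_zero : (2 : ℕ) ≠ 0), zero_mul, zero_add, gprod,
      List.map_cons, List.map_nil, List.prod_cons, List.prod_nil]
  have hsu : σ u ≠ 0 := (map_ne_zero σ).mpr hu
  let c : Kˣ := Units.mk0 (σ u)⁻¹ (inv_ne_zero hsu)
  refine ⟨torusHom Data.F4.tbl K (Twist.F4.supp m c 1),
    ((Twist.F4.diag_fix hK).ge (Subgroup.mem_map_of_mem _ (Twist.F4.supp_mem hK _ _))).2, ?_⟩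
  show Data.F4.tbl.dU (fun s => ∏ i, Twist.F4.supp m c 1 i ^ Data.F4.tbl.ca i s) * _ = _
  rw [repA, e, e, dU_gprod Data.F4.valid (isChar_prod Data.F4.valid _) (by
    intro p hp
    simp only [List.mem_cons, List.not_mem_nil, or_false] at hp
    rcases hp with rfl | rfl <;> exact lt48 (by norm_num))]
  congr 1
  refine congrArg Data.F4.tbl.gprod ?_
  have k44 : ((∏ i : Fin Data.F4.tbl.rank, Twist.F4.supp m c 1 i ^ Data.F4.tbl.ca i 44 : Kˣ) : K) * u = 1 := by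
    show ((∏ i : Fin 4, (![c ^ 2 ^ m, (1 : Kˣ) ^ 2 ^ m, 1, c] : Fin 4 → Kˣ) i ^ Data.F4.tbl.ca i.val 44 : Kˣ) : K) * u = 1
    rw [Finset.prod_congr rfl fun i _ => congrArg ((![c ^ 2 ^ m, (1 : Kˣ) ^ 2 ^ m, 1, c] : Fin 4 → Kˣ) i ^ ·) (ca_four i).1,
      Fin.prod_univ_four]
    simp [c, inv_pow, theta_sig hK, hu]
  have k47 : ((∏ i : Fin Data.F4.tbl.rank, Twist.F4.supp m c 1 i ^ Data.F4.tbl.ca i 47 : Kˣ) : K) * σ u = 1 := by
    show ((∏ i : Fin 4, (![c ^ 2 ^ m, (1 : Kˣ) ^ 2 ^ m, 1, c] : Fin 4 → Kˣ) i ^ Data.F4.tbl.ca i.val 47 : Kˣ) : K) * σ u = 1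
    rw [Finset.prod_congr rfl fun i _ => congrArg ((![c ^ 2 ^ m, (1 : Kˣ) ^ 2 ^ m, 1, c] : Fin 4 → Kˣ) i ^ ·) (ca_four i).2,
      Fin.prod_univ_four]
    simp [c, hsu]
  simp only [List.map_cons, List.map_nil, k44, k47, map_one]

theorem move1 (B c d D e f F g H : K) :
    Cj hK (N σ 0 0 B c d D e f F g 0 H)
      (N σ 0 0 H g f (B * σ H + F + H * c + d * g) (B * H + d * f + e) d (B * g + D + c * f + σ B * H) c 0 B) := by
  refine ⟨w1, w1_fix hK, ?_⟩
  rw [← rev1 (hσ hK)]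
  simp only [N, G1_zero, one_mul, w1_G2', w1_G3', w1_G4', w1_G5', w1_G6', w1_G7', w1_G8, mul_assoc]

theorem move8 (B c d D e f F g : K) :
    Cj hK (N σ 0 0 B c d D e f F g 0 0)
      (N σ g f (F + d * g) (d * f + e) d (B * g + D + c * f) c 0 B 0 0 0) := by
  refine ⟨w8, w8_fix hK, ?_⟩
  rw [← rev8 (hσ hK)]
  simp only [N, G1_zero, G8_zero, one_mul, mul_one, w8_G2', w8_G3', w8_G4', w8_G5', w8_G6', w8_G7,
    mul_assoc]

theorem case_I {a b B c d D e f F g h H : K} (ha : a ≠ 0)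
    (hh : N σ a b B c d D e f F g h H * N σ a b B c d D e f F g h H = 1) :
    Cj hK (N σ a b B c d D e f F g h H) (repB (m := m)) := by
  have hsa : σ a ≠ 0 := (map_ne_zero σ).mpr ha
  obtain ⟨-, -, -, -, e4, -, -, -, -, -, -, e8⟩ := N_inj hK ((sq_collect (hσ hK) ..).symm.trans (hh.trans (N_zero hK).symm))
  obtain rfl : h = 0 := sqz (m := m) e8
  obtain rfl : H = 0 := by simpa [hsa] using e4
  obtain ⟨B1, c1, d1, D1, e1, f1, F1, g1, hc1⟩ : ∃ B1 c1 d1 D1 e1 f1 F1 g1,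
      Cj hK (N σ a b B c d D e f F g 0 0) (N σ a 0 B1 c1 d1 D1 e1 f1 F1 g1 0 0) := by
    have := conj8x (hσ hK) (b / a) a b B c d D e f F g
    rw [div_kill ha] at this
    exact ⟨_, _, _, _, _, _, _, _, _, G8_fix hK _ _, this⟩
  obtain ⟨B2, c2, d2, D2, e2, f2, F2, hc2⟩ : ∃ B2 c2 d2 D2 e2 f2 F2,
      Cj hK (N σ a 0 B1 c1 d1 D1 e1 f1 F1 g1 0 0) (N σ a 0 B2 c2 d2 D2 e2 f2 F2 0 0 0) := by
    have := conj8y (hσ hK) ((σ).symm (g1 / a)) a B1 c1 d1 D1 e1 f1 F1 g1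
    rw [sym_kill ha] at this
    exact ⟨_, _, _, _, _, _, _, _, G8_fix hK _ _, this⟩
  have h12 := cj_trans hK hc1 hc2
  obtain ⟨-, -, k2, k3, -, k4, -, -, -, -, -, -⟩ := N_inj hK ((sq_collect (hσ hK) ..).symm.trans ((cj_mul_self hK h12 hh).trans (N_zero hK).symm))
  obtain rfl : f2 = 0 := by simpa [ha] using k3
  obtain rfl : d2 = 0 := by simpa [ha] using k2
  obtain rfl : F2 = 0 := by simpa [ha] using k4
  obtain ⟨c3, D3, hc3⟩ : ∃ c3 D3,
      Cj hK (N σ a 0 B2 c2 0 D2 e2 0 0 0 0 0) (N σ a 0 B2 c3 0 D3 0 0 0 0 0 0) := by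
    have := conj7a (hσ hK) ((σ).symm (e2 / a)) a B2 c2 D2 e2
    rw [sym_kill ha] at this
    exact ⟨_, _, _, G7_fix hK _, this⟩
  obtain ⟨B4, D4, hc4⟩ : ∃ B4 D4,
      Cj hK (N σ a 0 B2 c3 0 D3 0 0 0 0 0 0) (N σ a 0 B4 0 0 D4 0 0 0 0 0 0) := by
    have := conj6x (hσ hK) ((σ).symm (c3 / a)) a B2 c3 D3
    rw [sym_kill ha] at this
    exact ⟨_, _, _, G6_fix hK _ _, this⟩
  have hc5 : Cj hK (N σ a 0 B4 0 0 D4 0 0 0 0 0 0) (N σ a 0 B4 0 0 0 0 0 0 0 0 0) := by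
    have := conj6y (hσ hK) (D4 / a) a B4 D4
    rw [add_comm D4, div_kill ha] at this
    exact ⟨_, G6_fix hK _ _, this⟩
  have hc6 : Cj hK (N σ a 0 B4 0 0 0 0 0 0 0 0 0) (N σ a 0 0 0 0 0 0 0 0 0 0 0) := by
    have := conj4 (hσ hK) (B4 / a) a B4
    rw [add_comm B4, div_kill ha] at this
    exact ⟨_, G4_fix hK _ _, this⟩
  exact cj_trans hK h12 (cj_trans hK hc3 (cj_trans hK hc4 (cj_trans hK hc5 (cj_trans hK hc6 (scale1 hK ha)))))

theorem case_g {B c d D e f F g : K} (hg : g ≠ 0)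
    (hh : N σ 0 0 B c d D e f F g 0 0 * N σ 0 0 B c d D e f F g 0 0 = 1) :
    Cj hK (N σ 0 0 B c d D e f F g 0 0) (repB (m := m)) :=
  cj_trans hK (move8 hK B c d D e f F g) (case_I hK hg (cj_mul_self hK (move8 hK B c d D e f F g) hh))

theorem case_c {c D e F : K} (hc : c ≠ 0)
    (hh : N σ 0 0 0 c 0 D e 0 F 0 0 0 * N σ 0 0 0 c 0 D e 0 F 0 0 0 = 1) :
    Cj hK (N σ 0 0 0 c 0 D e 0 F 0 0 0) (repB (m := m)) := by
  have hm := move1 hK 0 c 0 D e 0 F 0 0
  exact cj_trans hK hm (case_g hK hc (cj_mul_self hK hm hh))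

theorem case_B {B c D e F : K} (hB : B ≠ 0)
    (hh : N σ 0 0 B c 0 D e 0 F 0 0 0 * N σ 0 0 B c 0 D e 0 F 0 0 0 = 1) :
    Cj hK (N σ 0 0 B c 0 D e 0 F 0 0 0) (repA (m := m)) ∨
      Cj hK (N σ 0 0 B c 0 D e 0 F 0 0 0) (repB (m := m)) := by
  obtain ⟨D1, e1, F1, hc1⟩ : ∃ D1 e1 F1,
      Cj hK (N σ 0 0 B c 0 D e 0 F 0 0 0) (N σ 0 0 B 0 0 D1 e1 0 F1 0 0 0) := by
    have := conj8c (hσ hK) (c / B) B c D e F
    rw [div_kill hB] at this
    exact ⟨_, _, _, _, G8_fix hK _ _, this⟩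
  have killD : ∀ D e F : K, Cj hK (N σ 0 0 B 0 0 D e 0 F 0 0 0) (N σ 0 0 B 0 0 0 e 0 F 0 0 0) := by
    intro D e F
    have := conj7D (hσ hK) (D / B) B D e F
    rw [div_kill hB] at this
    exact ⟨_, G7_fix hK _, this⟩
  obtain ⟨D2, e2, hc2⟩ : ∃ D2 e2,
      Cj hK (N σ 0 0 B 0 0 0 e1 0 F1 0 0 0) (N σ 0 0 B 0 0 D2 e2 0 0 0 0 0) := by
    have := conj8F (hσ hK) ((σ).symm (F1 / B)) B e1 F1
    rw [sym_kill hB] at this
    exact ⟨_, _, _, G8_fix hK _ _, this⟩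
  have h3 := cj_trans hK hc1 (cj_trans hK (killD D1 e1 F1) (cj_trans hK hc2 (killD D2 e2 0)))
  have hm := move8 hK B 0 0 0 e2 0 0 0
  simp only [mul_zero, zero_mul, zero_add, add_zero] at hm
  have h4 := cj_trans hK h3 hm
  by_cases he : e2 = 0
  · subst he
    left
    have hm1 := move1 hK 0 0 0 0 0 0 B 0 0
    simp only [mul_zero, zero_mul, zero_add, add_zero, map_zero] at hm1
    exact cj_trans hK h4 (cj_trans hK hm1 (scale4 hK hB))
  · exact Or.inr (cj_trans hK h4 (case_c hK he (cj_mul_self hK h4 hh)))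

theorem case_low {B c D e F : K} (hh : N σ 0 0 B c 0 D e 0 F 0 0 0 * N σ 0 0 B c 0 D e 0 F 0 0 0 = 1)
    (hne : N σ 0 0 B c 0 D e 0 F 0 0 0 ≠ 1) :
    Cj hK (N σ 0 0 B c 0 D e 0 F 0 0 0) (repA (m := m)) ∨
      Cj hK (N σ 0 0 B c 0 D e 0 F 0 0 0) (repB (m := m)) := by
  by_cases hB : B = 0
  swap
  · exact case_B hK hB hh
  subst hB
  by_cases hc : c = 0
  swap
  · exact Or.inr (case_c hK hc hh)
  subst hc
  have hm := move1 hK 0 0 0 D e 0 F 0 0
  simp only [mul_zero, zero_mul, zero_add, add_zero, map_zero] at hm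
  have hm' := move8 hK 0 0 0 F e 0 D 0
  simp only [mul_zero, zero_mul, zero_add, add_zero] at hm'
  have h2 := cj_trans hK hm hm'
  have hh2 := cj_mul_self hK h2 hh
  by_cases hD : D = 0
  swap
  · exact (case_B hK hD hh2).imp (cj_trans hK h2) (cj_trans hK h2)
  subst hD
  by_cases he : e = 0
  swap
  · exact Or.inr (cj_trans hK h2 (case_c hK he hh2))
  subst he
  have hF : F ≠ 0 := fun h => hne (by rw [h]; exact N_zero hK)
  exact Or.inl (cj_trans hK h2 (scale4 hK hF))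

theorem case_mid {B c d D e f F g : K}
    (hh : N σ 0 0 B c d D e f F g 0 0 * N σ 0 0 B c d D e f F g 0 0 = 1)
    (hne : N σ 0 0 B c d D e f F g 0 0 ≠ 1) :
    Cj hK (N σ 0 0 B c d D e f F g 0 0) (repA (m := m)) ∨
      Cj hK (N σ 0 0 B c d D e f F g 0 0) (repB (m := m)) := by
  by_cases hg : g = 0
  swap
  · exact Or.inr (case_g hK hg hh)
  subst hg
  obtain ⟨-, -, -, -, -, e4, -, -, e6, -, -, -⟩ := N_inj hK ((sq_collect (hσ hK) ..).symm.trans (hh.trans (N_zero hK).symm))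
  obtain rfl : f = 0 := sqz (m := m) (by simpa using e6)
  obtain rfl : d = 0 := sqz (m := m) (by simpa using e4)
  exact case_low hK hh hne

theorem cj_ne_one {u v : GL Data.F4.tbl.I K} (hc : Cj hK u v) (h : u ≠ 1) : v ≠ 1 := by
  rintro rfl
  obtain ⟨k, -, e⟩ := hc
  exact h (mul_left_cancel (a := k) (by rw [e, one_mul, mul_one]))

theorem pos_class {x : GL Data.F4.tbl.I K}
    (hx : x ∈ Data.F4.tbl.rootGen K (fun r => Data.F4.tbl.half ≤ r)) (hf : x ∈ (SS).fix)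
    (hh : x * x = 1) (hne : x ≠ 1) : Cj hK x (repA (m := m)) ∨ Cj hK x (repB (m := m)) := by
  obtain ⟨a, b, B, c, d, D, e, f, F, g, h, H, rfl⟩ := exists_coords hK hx hf
  by_cases ha : a = 0
  swap
  · exact Or.inr (case_I hK ha hh)
  subst ha
  obtain ⟨-, -, k2, -, -, -, -, -, -, -, -, k8⟩ := N_inj hK ((sq_collect (hσ hK) ..).symm.trans (hh.trans (N_zero hK).symm))
  obtain rfl : h = 0 := sqz (m := m) k8
  obtain rfl : b = 0 := sqz (m := m) (by simpa using k2)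
  by_cases hH : H = 0
  · subst hH
    exact case_mid hK hh hne
  obtain ⟨B1, c1, d1, D1, e1, F1, g1, hc1⟩ : ∃ B1 c1 d1 D1 e1 F1 g1,
      Cj hK (N σ 0 0 B c d D e f F g 0 H) (N σ 0 0 B1 c1 d1 D1 e1 0 F1 g1 0 H) := by
    have := conj1 (hσ hK) (f / H) B c d D e f F g H
    rw [div_kill hH] at this
    exact ⟨_, _, _, _, _, _, _, _, G1_fix hK _, this⟩
  obtain ⟨-, -, -, -, -, -, k5, -, -, -, -, -⟩ := N_inj hK ((sq_collect (hσ hK) ..).symm.trans ((cj_mul_self hK hc1 hh).trans (N_zero hK).symm))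
  obtain rfl : B1 = 0 := by simpa [hH] using k5
  have h2 := cj_trans hK hc1 (move1 hK 0 c1 d1 D1 e1 0 F1 g1 H)
  exact (case_mid hK (cj_mul_self hK h2 hh) (cj_ne_one hK h2 hne)).imp (cj_trans hK h2) (cj_trans hK h2)

/-- The roots of the even groups, of both signs. -/
def evenRoots : List ℕ :=
  [21, 13, 11, 5, 6, 18, 3, 0, 16, 12, 7, 1, 22, 20, 19, 17,
    26, 34, 36, 42, 41, 29, 44, 47, 31, 35, 40, 46, 25, 27, 28, 30]

omit [Field K] [CharP K 2] [Finite K] in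
theorem even_step : ∀ j : Fin 2, ∀ r ∈ evenRoots,
    Data.F4.tbl.actWord (Data.F4.orbWords.getD j.val []) r ∈ evenRoots := by decide +kernel

theorem even_W1 : ∀ w ∈ (SS).W1, ∀ r : Fin Data.F4.tbl.n, r.val ∈ evenRoots → (w r).val ∈ evenRoots := by
  refine (SS).W1_induction (Twist.F4.O hK) (fun r h => h) ?_
  intro w _ j _ hw r hr
  rw [Equiv.Perm.mul_apply]
  apply hw
  rw [(Twist.F4.data hK).orbits_wJ Twist.F4.chk_orbits j r]
  exact even_step j r.val hr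

omit [Field K] [CharP K 2] [Finite K] in
theorem even_pos : ∀ r ∈ evenRoots, 24 ≤ r → r ∈ tail 2 := by decide +kernel

omit [Field K] [CharP K 2] [Finite K] in
theorem rho_four : ∀ r < 48, (24 ≤ Data.F4.graph.ρ r ↔ 24 ≤ r) ∧ Data.F4.graph.ρ 44 = 47 := by decide +kernel

omit [Field K] [CharP K 2] [Finite K] in
theorem tail_norm : ∀ r < 48, 24 ≤ r → ∀ s ∈ tail 2, s ≠ r → s ≠ Data.F4.tbl.neg r ∧
    ∀ c ∈ Data.F4.tbl.commT r s, c.1 ∈ tail 2 := by decide +kernel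

omit [CharP K 2] [Finite K] in
theorem norm_tail {a x : GL Data.F4.tbl.I K}
    (ha : a ∈ Data.F4.tbl.rootGen K (fun r => Data.F4.tbl.half ≤ r))
    (hx : x ∈ Data.F4.tbl.rootGen K (· ∈ tail 2)) :
    a * x * a⁻¹ ∈ Data.F4.tbl.rootGen K (· ∈ tail 2) := by
  have hh : Data.F4.tbl.half = 24 := by decide +kernel
  have hn : Data.F4.tbl.n = 48 := by decide +kernel
  exact (Subgroup.mem_normalizer_iff.mp ((rootGen_le fun r hr hp t =>
    xU_mem_normalizer Data.F4.valid Data.F4.chkComm hr (fun s _ hs hne =>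
      tail_norm r (hn ▸ hr) (hh ▸ hp) s hs hne) t) ha) x).mp hx

theorem repA_eq : repA (K := K) (m := m) = xx 44 1 * xx 47 1 := by
  simp only [repA, N, G1_zero, G2_zero, G3_zero, G5_zero, G6_zero, G7_zero, G8_zero, mul_one, one_mul, G4,
    map_zero, map_one, x_zero, Nat.reduceLT, zero_pow (two_ne_zero : (2 : ℕ) ≠ 0), zero_mul, zero_add]

omit [Field K] [CharP K 2] [Finite K] in
theorem central_chk : ∀ a ∈ [44, 47], ∀ r < 48, 24 ≤ r →
    (Nat.blt a Data.F4.tbl.n && Nat.blt r Data.F4.tbl.n && !Nat.beq r (Data.F4.tbl.neg a) &&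
      (Data.F4.tbl.commT a r).all fun c => decide (c.2.1 % 2 = 0)) = true := by decide +kernel

include hK in
/-- The short representative is central among the positive elements. -/
theorem repA_central {u : GL Data.F4.tbl.I K}
    (hu : u ∈ Data.F4.tbl.rootGen K (fun r => Data.F4.tbl.half ≤ r)) :
    Commute (repA (K := K) (m := m)) u := by
  have hh : Data.F4.tbl.half = 24 := by decide +kernel
  have hn : Data.F4.tbl.n = 48 := by decide +kernel
  rw [repA_eq]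
  have key : Data.F4.tbl.rootGen K (fun r => Data.F4.tbl.half ≤ r) ≤
      Subgroup.centralizer {xx 44 1 * xx 47 1} := rootGen_le fun r hr hp t => by
    rw [Subgroup.mem_centralizer_singleton_iff]
    exact ((Twist.F4.commute_of hK (central_chk 44 (by simp) r (hn ▸ hr) (hh ▸ hp)) 1 t).mul_left
      (Twist.F4.commute_of hK (central_chk 47 (by simp) r (hn ▸ hr) (hh ▸ hp)) 1 t)).eq.symm
  exact (Subgroup.mem_centralizer_singleton_iff.mp (key hu)).symm

theorem not_cj : ¬ Cj hK (repA (m := m)) (repB (m := m)) := by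
  rintro ⟨h, hh, e⟩
  have hT := Data.F4.valid
  have hhalf : Data.F4.tbl.half = 24 := by decide +kernel
  have hn48 : Data.F4.tbl.n = 48 := by decide +kernel
  obtain ⟨a, ha, -, n, -, -, w, hw, hm, u, hu, -, rfl⟩ := (SS).fix_canonical hh
  have huA : Commute (repA (K := K) (m := m)) u :=
    repA_central hK (rootGen_mono (fun r _ h => h.2.1) hu)
  have e2 : a * (n * repA (m := m)) = repB (m := m) * a * n := by
    refine mul_right_cancel (b := u) ?_
    calc a * (n * repA (m := m)) * u = a * n * (repA (m := m) * u) := by simp only [mul_assoc]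
      _ = a * n * u * repA (m := m) := by rw [huA.eq]; simp only [mul_assoc]
      _ = _ := by rw [e]; simp only [mul_assoc]
  have h44 : (44 : ℕ) < Data.F4.tbl.n := lt48 (by norm_num)
  have h47 : (47 : ℕ) < Data.F4.tbl.n := lt48 (by norm_num)
  obtain ⟨κ, hκ⟩ := hm.conj ⟨44, h44⟩
  obtain ⟨μ, hμ⟩ := hm.conj ⟨47, h47⟩
  set Y : GL Data.F4.tbl.I K := xx (w ⟨44, h44⟩).val ((κ : K) * 1) * xx (w ⟨47, h47⟩).val ((μ : K) * 1) with hY
  have k1 : n * xx 44 1 = xx (w ⟨44, h44⟩).val ((κ : K) * 1) * n := (hκ 1).1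
  have k2 : n * xx 47 1 = xx (w ⟨47, h47⟩).val ((μ : K) * 1) * n := (hμ 1).1
  have hnY : n * repA (m := m) = Y * n := by
    rw [repA_eq, ← mul_assoc, k1, mul_assoc, k2, ← mul_assoc]
  have hYe : Y = a⁻¹ * repB (m := m) * a := by
    rw [hnY, ← mul_assoc] at e2
    rw [mul_assoc, ← mul_right_cancel e2, inv_mul_cancel_left]
  have hB : repB (K := K) (m := m) ∈ Data.F4.tbl.rootGen K (fun r => Data.F4.tbl.half ≤ r) :=
    N_pos 1 0 0 0 0 0 0 0 0 0 0 0
  have hYpos : Y ∈ Data.F4.tbl.rootGen K (fun r => Data.F4.tbl.half ≤ r) :=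
    hYe ▸ mul_mem (mul_mem (inv_mem ha) hB) ha
  have hρ : (w ⟨47, h47⟩).val = Data.F4.graph.ρ (w ⟨44, h44⟩).val := by
    have h1 := Equiv.ext_iff.mp (mul_inv_eq_iff_eq_mul.mp ((SS).mem_W1_iff.mp hw).2) ⟨44, h44⟩
    rw [Equiv.Perm.mul_apply, Equiv.Perm.mul_apply,
      show (SS).ρ ⟨44, h44⟩ = ⟨47, h47⟩ from Fin.ext (rho_four 44 (by norm_num)).2] at h1
    exact (congrArg Fin.val h1).symm
  have hk1 : (w ⟨44, h44⟩).val ∈ evenRoots := even_W1 hK w hw _ (by simp [evenRoots])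
  have hk2 : (w ⟨47, h47⟩).val ∈ evenRoots := even_W1 hK w hw _ (by simp [evenRoots])
  by_cases hp : 24 ≤ (w ⟨44, h44⟩).val
  · have hp2 : 24 ≤ (w ⟨47, h47⟩).val := hρ ▸ (rho_four _ (hn48 ▸ (w _).2)).1.mpr hp
    have hYt : Y ∈ Data.F4.tbl.rootGen K (· ∈ tail 2) :=
      mul_mem (xU_mem_rootGen (w _).2 (even_pos _ hk1 hp) _) (xU_mem_rootGen (w _).2 (even_pos _ hk2 hp2) _)
    have hBt : repB (K := K) (m := m) ∈ Data.F4.tbl.rootGen K (· ∈ tail 2) := by
      have := norm_tail ha hYt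
      rwa [hYe, show a * (a⁻¹ * repB (m := m) * a) * a⁻¹ = repB (m := m) by group] at this
    simp only [repB, N, G2_zero, G3_zero, G4_zero, G5_zero, G6_zero, G7_zero, G8_zero, mul_one] at hBt
    exact one_ne_zero (G1_not_mem σ 1 hBt)
  · have hp2 : (w ⟨47, h47⟩).val < 24 := by
      refine not_le.mp fun hle => hp ?_
      rw [hρ] at hle
      exact (rho_four _ (hn48 ▸ (w _).2)).1.mp hle
    have hYn : Y ∈ Data.F4.tbl.rootGen K (fun r => r < Data.F4.tbl.half) :=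
      mul_mem (xU_mem_rootGen (w _).2 (hhalf.symm ▸ not_le.mp hp) _)
        (xU_mem_rootGen (w _).2 (hhalf.symm ▸ hp2) _)
    have hY1 := eq_one_of_pos_neg hT hYpos hYn
    rw [hY1, one_mul] at hnY
    have := mul_left_cancel (hnY.trans (mul_one n).symm)
    rw [repA, ← N_zero hK] at this
    exact one_ne_zero (N_inj hK this).2.2.2.2.2.1

end CfsgLib.F4Inv
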