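import Cfsg.Agent.Lib.KnownB.F4Inv.Fix

/-!
Conjugation by the Weyl representatives and coordinates on the fixed positive elements of ²F₄.
-/

set_option autoImplicit false
set_option maxRecDepth 20000
set_option maxHeartbeats 800000
set_option linter.all false
set_option Elab.async false

namespace CfsgLib.F4Inv

open CfsgLib.Chevalley CfsgLib.Chevalley.Tbl

variable {K : Type*} [Field K] [CharP K 2]

local notation "xx" => Data.F4.tbl.xU K

omit [CharP K 2] in
theorem end_w (w : GL Data.F4.tbl.I K) : w * 1 = w := mul_one w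

theorem w1_G2 (σ : K ≃+* K) (s u : K) : w1 * G2 σ s u = G8 σ s u * w1 := by
  conv_lhs => rw [← mul_one (G2 σ s u)]
  simp only [G2, G8, mul_assoc, w1_x (s := 26) (s' := 25) (by simp), w1_x (s := 34) (s' := 27) (by simp), w1_x (s := 36) (s' := 28) (by simp), w1_x (s := 42) (s' := 30) (by simp)]
  simp only [mul_one]

theorem w1_G2' (σ : K ≃+* K) (s u : K) (z : GL Data.F4.tbl.I K) :
    w1 * (G2 σ s u * z) = G8 σ s u * (w1 * z) := by
  rw [← mul_assoc, w1_G2, mul_assoc]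

theorem w1_G3 (σ : K ≃+* K) (s : K) : w1 * G3 σ s = G7 σ s * w1 := by
  conv_lhs => rw [← mul_one (G3 σ s)]
  simp only [G3, G7, mul_assoc, w1_x (s := 43) (s' := 32) (by simp), w1_x (s := 38) (s' := 37) (by simp)]
  simp only [mul_one]

theorem w1_G3' (σ : K ≃+* K) (s : K) (z : GL Data.F4.tbl.I K) :
    w1 * (G3 σ s * z) = G7 σ s * (w1 * z) := by
  rw [← mul_assoc, w1_G3, mul_assoc]

theorem w1_G4 (σ : K ≃+* K) (s u : K) : w1 * G4 σ s u = G6 σ s u * w1 := by
  conv_lhs => rw [← mul_one (G4 σ s u)]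
  simp only [G4, G6, mul_assoc, w1_x (s := 41) (s' := 31) (by simp), w1_x (s := 29) (s' := 35) (by simp), w1_x (s := 44) (s' := 40) (by simp), w1_x (s := 47) (s' := 46) (by simp)]
  simp only [mul_one]

theorem w1_G4' (σ : K ≃+* K) (s u : K) (z : GL Data.F4.tbl.I K) :
    w1 * (G4 σ s u * z) = G6 σ s u * (w1 * z) := by
  rw [← mul_assoc, w1_G4, mul_assoc]

theorem w1_G5 (σ : K ≃+* K) (s : K) : w1 * G5 σ s = G5 σ s * w1 := by
  conv_lhs => rw [← mul_one (G5 σ s)]
  simp only [G5, G5, mul_assoc, w1_x (s := 45) (s' := 45) (by simp), w1_x (s := 39) (s' := 39) (by simp)]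
  simp only [mul_one]

theorem w1_G5' (σ : K ≃+* K) (s : K) (z : GL Data.F4.tbl.I K) :
    w1 * (G5 σ s * z) = G5 σ s * (w1 * z) := by
  rw [← mul_assoc, w1_G5, mul_assoc]

theorem w1_G6 (σ : K ≃+* K) (s u : K) : w1 * G6 σ s u = G4 σ s u * w1 := by
  conv_lhs => rw [← mul_one (G6 σ s u)]
  simp only [G6, G4, mul_assoc, w1_x (s := 31) (s' := 41) (by simp), w1_x (s := 35) (s' := 29) (by simp), w1_x (s := 40) (s' := 44) (by simp), w1_x (s := 46) (s' := 47) (by simp)]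
  simp only [mul_one]

theorem w1_G6' (σ : K ≃+* K) (s u : K) (z : GL Data.F4.tbl.I K) :
    w1 * (G6 σ s u * z) = G4 σ s u * (w1 * z) := by
  rw [← mul_assoc, w1_G6, mul_assoc]

theorem w1_G7 (σ : K ≃+* K) (s : K) : w1 * G7 σ s = G3 σ s * w1 := by
  conv_lhs => rw [← mul_one (G7 σ s)]
  simp only [G7, G3, mul_assoc, w1_x (s := 32) (s' := 43) (by simp), w1_x (s := 37) (s' := 38) (by simp)]
  simp only [mul_one]

theorem w1_G7' (σ : K ≃+* K) (s : K) (z : GL Data.F4.tbl.I K) :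
    w1 * (G7 σ s * z) = G3 σ s * (w1 * z) := by
  rw [← mul_assoc, w1_G7, mul_assoc]

theorem w1_G8 (σ : K ≃+* K) (s u : K) : w1 * G8 σ s u = G2 σ s u * w1 := by
  conv_lhs => rw [← mul_one (G8 σ s u)]
  simp only [G8, G2, mul_assoc, w1_x (s := 25) (s' := 26) (by simp), w1_x (s := 27) (s' := 34) (by simp), w1_x (s := 28) (s' := 36) (by simp), w1_x (s := 30) (s' := 42) (by simp)]
  simp only [mul_one]

theorem w1_G8' (σ : K ≃+* K) (s u : K) (z : GL Data.F4.tbl.I K) :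
    w1 * (G8 σ s u * z) = G2 σ s u * (w1 * z) := by
  rw [← mul_assoc, w1_G8, mul_assoc]

theorem w8_G1 (σ : K ≃+* K) (s : K) : w8 * G1 σ s = G7 σ s * w8 := by
  conv_lhs => rw [← mul_one (G1 σ s)]
  simp only [G1, G7, mul_assoc, w8_x (s := 24) (s' := 32) (by simp), w8_x (s := 33) (s' := 37) (by simp)]
  simp only [mul_one]

theorem w8_G1' (σ : K ≃+* K) (s : K) (z : GL Data.F4.tbl.I K) :
    w8 * (G1 σ s * z) = G7 σ s * (w8 * z) := by
  rw [← mul_assoc, w8_G1, mul_assoc]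

theorem w8_G2 (σ : K ≃+* K) (s u : K) : w8 * G2 σ s u = G6 σ s u * w8 := by
  conv_lhs => rw [← mul_one (G2 σ s u)]
  simp only [G2, G6, mul_assoc, w8_x (s := 26) (s' := 31) (by simp), w8_x (s := 34) (s' := 35) (by simp), w8_x (s := 36) (s' := 40) (by simp), w8_x (s := 42) (s' := 46) (by simp)]
  simp only [mul_one]

theorem w8_G2' (σ : K ≃+* K) (s u : K) (z : GL Data.F4.tbl.I K) :
    w8 * (G2 σ s u * z) = G6 σ s u * (w8 * z) := by
  rw [← mul_assoc, w8_G2, mul_assoc]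

theorem w8_G3 (σ : K ≃+* K) (s : K) : w8 * G3 σ s = G5 σ s * w8 := by
  conv_lhs => rw [← mul_one (G3 σ s)]
  simp only [G3, G5, mul_assoc, w8_x (s := 43) (s' := 45) (by simp), w8_x (s := 38) (s' := 39) (by simp)]
  simp only [mul_one]

theorem w8_G3' (σ : K ≃+* K) (s : K) (z : GL Data.F4.tbl.I K) :
    w8 * (G3 σ s * z) = G5 σ s * (w8 * z) := by
  rw [← mul_assoc, w8_G3, mul_assoc]

theorem w8_G4 (σ : K ≃+* K) (s u : K) : w8 * G4 σ s u = G4 σ s u * w8 := by
  conv_lhs => rw [← mul_one (G4 σ s u)]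
  simp only [G4, G4, mul_assoc, w8_x (s := 41) (s' := 41) (by simp), w8_x (s := 29) (s' := 29) (by simp), w8_x (s := 44) (s' := 44) (by simp), w8_x (s := 47) (s' := 47) (by simp)]
  simp only [mul_one]

theorem w8_G4' (σ : K ≃+* K) (s u : K) (z : GL Data.F4.tbl.I K) :
    w8 * (G4 σ s u * z) = G4 σ s u * (w8 * z) := by
  rw [← mul_assoc, w8_G4, mul_assoc]

theorem w8_G5 (σ : K ≃+* K) (s : K) : w8 * G5 σ s = G3 σ s * w8 := by
  conv_lhs => rw [← mul_one (G5 σ s)]
  simp only [G5, G3, mul_assoc, w8_x (s := 45) (s' := 43) (by simp), w8_x (s := 39) (s' := 38) (by simp)]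
  simp only [mul_one]

theorem w8_G5' (σ : K ≃+* K) (s : K) (z : GL Data.F4.tbl.I K) :
    w8 * (G5 σ s * z) = G3 σ s * (w8 * z) := by
  rw [← mul_assoc, w8_G5, mul_assoc]

theorem w8_G6 (σ : K ≃+* K) (s u : K) : w8 * G6 σ s u = G2 σ s u * w8 := by
  conv_lhs => rw [← mul_one (G6 σ s u)]
  simp only [G6, G2, mul_assoc, w8_x (s := 31) (s' := 26) (by simp), w8_x (s := 35) (s' := 34) (by simp), w8_x (s := 40) (s' := 36) (by simp), w8_x (s := 46) (s' := 42) (by simp)]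
  simp only [mul_one]

theorem w8_G6' (σ : K ≃+* K) (s u : K) (z : GL Data.F4.tbl.I K) :
    w8 * (G6 σ s u * z) = G2 σ s u * (w8 * z) := by
  rw [← mul_assoc, w8_G6, mul_assoc]

theorem w8_G7 (σ : K ≃+* K) (s : K) : w8 * G7 σ s = G1 σ s * w8 := by
  conv_lhs => rw [← mul_one (G7 σ s)]
  simp only [G7, G1, mul_assoc, w8_x (s := 32) (s' := 24) (by simp), w8_x (s := 37) (s' := 33) (by simp)]
  simp only [mul_one]

theorem w8_G7' (σ : K ≃+* K) (s : K) (z : GL Data.F4.tbl.I K) :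
    w8 * (G7 σ s * z) = G1 σ s * (w8 * z) := by
  rw [← mul_assoc, w8_G7, mul_assoc]

theorem G1_zero (σ : K ≃+* K) : G1 σ 0 = 1 := by
  simp only [G1, map_zero, x_zero, Nat.reduceLT, mul_zero, zero_mul, add_zero, mul_one, zero_pow, ne_eq, OfNat.ofNat_ne_zero, not_false_eq_true]

theorem G2_zero (σ : K ≃+* K) : G2 σ 0 0 = 1 := by
  simp only [G2, map_zero, x_zero, Nat.reduceLT, mul_zero, zero_mul, add_zero, mul_one, zero_pow, ne_eq, OfNat.ofNat_ne_zero, not_false_eq_true]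

theorem G3_zero (σ : K ≃+* K) : G3 σ 0 = 1 := by
  simp only [G3, map_zero, x_zero, Nat.reduceLT, mul_zero, zero_mul, add_zero, mul_one, zero_pow, ne_eq, OfNat.ofNat_ne_zero, not_false_eq_true]

theorem G4_zero (σ : K ≃+* K) : G4 σ 0 0 = 1 := by
  simp only [G4, map_zero, x_zero, Nat.reduceLT, mul_zero, zero_mul, add_zero, mul_one, zero_pow, ne_eq, OfNat.ofNat_ne_zero, not_false_eq_true]

theorem G5_zero (σ : K ≃+* K) : G5 σ 0 = 1 := by
  simp only [G5, map_zero, x_zero, Nat.reduceLT, mul_zero, zero_mul, add_zero, mul_one, zero_pow, ne_eq, OfNat.ofNat_ne_zero, not_false_eq_true]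

theorem G6_zero (σ : K ≃+* K) : G6 σ 0 0 = 1 := by
  simp only [G6, map_zero, x_zero, Nat.reduceLT, mul_zero, zero_mul, add_zero, mul_one, zero_pow, ne_eq, OfNat.ofNat_ne_zero, not_false_eq_true]

theorem G7_zero (σ : K ≃+* K) : G7 σ 0 = 1 := by
  simp only [G7, map_zero, x_zero, Nat.reduceLT, mul_zero, zero_mul, add_zero, mul_one, zero_pow, ne_eq, OfNat.ofNat_ne_zero, not_false_eq_true]

theorem G8_zero (σ : K ≃+* K) : G8 σ 0 0 = 1 := by
  simp only [G8, map_zero, x_zero, Nat.reduceLT, mul_zero, zero_mul, add_zero, mul_one, zero_pow, ne_eq, OfNat.ofNat_ne_zero, not_false_eq_true]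

/-- The roots of the groups from `k` on. -/
def tail : ℕ → List ℕ
  | 1 => [24, 33, 26, 34, 36, 42, 43, 38, 41, 29, 44, 47, 45, 39, 31, 35, 40, 46, 32, 37, 25, 27, 28, 30]
  | 2 => [26, 34, 36, 42, 43, 38, 41, 29, 44, 47, 45, 39, 31, 35, 40, 46, 32, 37, 25, 27, 28, 30]
  | 3 => [43, 38, 41, 29, 44, 47, 45, 39, 31, 35, 40, 46, 32, 37, 25, 27, 28, 30]
  | 4 => [41, 29, 44, 47, 45, 39, 31, 35, 40, 46, 32, 37, 25, 27, 28, 30]
  | 5 => [45, 39, 31, 35, 40, 46, 32, 37, 25, 27, 28, 30]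
  | 6 => [31, 35, 40, 46, 32, 37, 25, 27, 28, 30]
  | 7 => [32, 37, 25, 27, 28, 30]
  | 8 => [25, 27, 28, 30]
  | _ => []

omit [CharP K 2] in
theorem gprod_filter (p : ℕ → Prop) [DecidablePred p] : ∀ (L : List ℕ), (∀ r ∈ L, r < 48) → ∀ f : ℕ → K,
    Data.F4.tbl.gprod (L.map fun r => (r, if p r then f r else 0)) =
      Data.F4.tbl.gprod ((L.filter fun r => decide (p r)).map fun r => (r, f r)) := by
  intro L
  induction L with
  | nil => simp
  | cons k L ih =>
    intro hL f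
    rw [List.map_cons, gprod_cons, ih (fun r hr => hL r (List.mem_cons_of_mem _ hr))]
    by_cases h : p k
    · rw [List.filter_cons_of_pos (by simpa using h), List.map_cons, gprod_cons, if_pos h]
    · rw [List.filter_cons_of_neg (by simpa using h), if_neg h, x_zero (hL k List.mem_cons_self), one_mul]

omit [CharP K 2] [Field K] in
theorem closed_of {Q : List ℕ} (h : ∀ r ∈ Q, ∀ s ∈ Q, s ≠ r → s ≠ Data.F4.tbl.neg r →
    ∀ c ∈ Data.F4.tbl.commT r s, c.1 ∈ Q) : Data.F4.tbl.Closed (· ∈ Q) :=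
  fun r _ s _ hr hs h1 h2 c hc => h r hr s hs h1 h2 c hc

/-- A single root element outside a closed set. -/
theorem x_not_mem {Q : List ℕ} (hQ : Data.F4.tbl.Closed (· ∈ Q))
    (hpos : ∀ r ∈ Q, 24 ≤ r) {r : ℕ} (hr : r < 48) (hr' : 24 ≤ r) (hn : r ∉ Q) {t : K}
    (h : xx r t ∈ Data.F4.tbl.rootGen K (· ∈ Q)) : t = 0 := by
  have hT := Data.F4.valid
  have hh : Data.F4.tbl.half = 24 := by decide +kernel
  have hn48 : Data.F4.tbl.n = 48 := by decide +kernel
  obtain ⟨f, hf⟩ := exists_gprod hT Data.F4.chkComm hQ 24 24 (by rw [hn48]) hh.le _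
    (rootGen_mono (fun s _ hs => ⟨hs, hpos s hs⟩) h)
  have hL : ∀ s ∈ List.range' 24 24, s < 48 := fun s hs => (List.mem_range'_1.mp hs).2
  rw [← gprod_filter _ _ hL] at hf
  have e : xx r t = Data.F4.tbl.gprod ((List.range' 24 24).map fun s => (s, if s = r then t else 0)) := by
    rw [gprod_filter (fun s => s = r) _ hL (fun _ => t),
      show ((List.range' 24 24).filter fun s => decide (s = r)) = [r] by
        have key : ∀ r < 48, 24 ≤ r → ((List.range' 24 24).filter fun s => decide (s = r)) = [r] := by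
          decide +kernel
        exact key r hr hr', List.map_cons, List.map_nil, gprod_cons, gprod_nil, mul_one]
  rw [e] at hf
  have := gprod_inj hT Data.F4.chkComm List.pairwise_lt_range' (fun s hs => ⟨hh ▸ (List.mem_range'_1.mp hs).1,
    hn48 ▸ (List.mem_range'_1.mp hs).2⟩) _ _ hf r (List.mem_range'_1.mpr ⟨hr', hr⟩)
  simpa [hn] using this

theorem G1_mem (σ : K ≃+* K) (s : K) {P : ℕ → Prop} (h : ∀ r ∈ [24, 33], P r) :
    G1 σ s ∈ Data.F4.tbl.rootGen K P := by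
  simp only [G1]
  exact mul_mem (xU_mem_rootGen (lt48 (by norm_num)) (h 24 (by simp)) _) (xU_mem_rootGen (lt48 (by norm_num)) (h 33 (by simp)) _)

theorem G1_not_mem (σ : K ≃+* K) (s : K)
    (h : G1 σ s ∈ Data.F4.tbl.rootGen K (· ∈ tail 2)) : s = 0 := by
  have h1 : xx 33 s ∈ Data.F4.tbl.rootGen K (· ∈ [24, 26, 34, 36, 42, 43, 38, 41, 29, 44, 47, 45, 39, 31, 35, 40, 46, 32, 37, 25, 27, 28, 30]) := by
    have hb : xx 24 (σ s) ∈ Data.F4.tbl.rootGen K (· ∈ [24, 26, 34, 36, 42, 43, 38, 41, 29, 44, 47, 45, 39, 31, 35, 40, 46, 32, 37, 25, 27, 28, 30]) := xU_mem_rootGen (lt48 (by norm_num)) (by simp) _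
    have := mul_mem (inv_mem hb) (rootGen_mono (Q := (· ∈ [24, 26, 34, 36, 42, 43, 38, 41, 29, 44, 47, 45, 39, 31, 35, 40, 46, 32, 37, 25, 27, 28, 30])) (fun r _ hr => by
      revert r; decide +kernel) h)
    simpa only [G1, inv_mul_cancel_left] using this
  exact x_not_mem (closed_of (by decide +kernel)) (by decide) (by norm_num) (by norm_num) (by decide) h1

theorem G2_mem (σ : K ≃+* K) (s u : K) {P : ℕ → Prop} (h : ∀ r ∈ [26, 34, 36, 42], P r) :
    G2 σ s u ∈ Data.F4.tbl.rootGen K P := by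
  simp only [G2]
  exact mul_mem (xU_mem_rootGen (lt48 (by norm_num)) (h 26 (by simp)) _) (mul_mem (xU_mem_rootGen (lt48 (by norm_num)) (h 34 (by simp)) _) (mul_mem (xU_mem_rootGen (lt48 (by norm_num)) (h 36 (by simp)) _) (xU_mem_rootGen (lt48 (by norm_num)) (h 42 (by simp)) _)))

theorem G2_not_mem (σ : K ≃+* K) (s u : K)
    (h : G2 σ s u ∈ Data.F4.tbl.rootGen K (· ∈ tail 3)) : s = 0 ∧ u = 0 := by
  have h0 : s = 0 := by
    have hm : ∀ r ∈ [26, 36, 42], r < 48 ∧ r ∈ [26, 36, 42, 43, 38, 41, 29, 44, 47, 45, 39, 31, 35, 40, 46, 32, 37, 25, 27, 28, 30] := by decide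
    have hb : ∀ r ∈ [26, 36, 42], ∀ t : K, xx r t ∈ Data.F4.tbl.rootGen K (· ∈ [26, 36, 42, 43, 38, 41, 29, 44, 47, 45, 39, 31, 35, 40, 46, 32, 37, 25, 27, 28, 30]) :=
      fun r hr t => xU_mem_rootGen (lt48 (hm r hr).1) (hm r hr).2 t
    have := mul_mem (mul_mem (inv_mem (hb 26 (by simp) (σ s))) (rootGen_mono (Q := (· ∈ [26, 36, 42, 43, 38, 41, 29, 44, 47, 45, 39, 31, 35, 40, 46, 32, 37, 25, 27, 28, 30])) (fun r _ hr => by
      revert r; decide +kernel) h)) (inv_mem (mul_mem (hb 36 (by simp) u) (hb 42 (by simp) (s ^ 2 * σ s + σ u))))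
    rw [G2, inv_mul_cancel_left, mul_inv_cancel_right] at this
    exact x_not_mem (closed_of (by decide +kernel)) (by decide) (by norm_num) (by norm_num) (by decide) this
  subst h0
  refine ⟨rfl, ?_⟩
  have h1 : xx 36 u ∈ Data.F4.tbl.rootGen K (· ∈ [42, 43, 38, 41, 29, 44, 47, 45, 39, 31, 35, 40, 46, 32, 37, 25, 27, 28, 30]) := by
    have hb : ∀ t : K, xx 42 t ∈ Data.F4.tbl.rootGen K (· ∈ [42, 43, 38, 41, 29, 44, 47, 45, 39, 31, 35, 40, 46, 32, 37, 25, 27, 28, 30]) := fun t =>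
      xU_mem_rootGen (lt48 (by norm_num)) (by simp) t
    have := mul_mem (rootGen_mono (Q := (· ∈ [42, 43, 38, 41, 29, 44, 47, 45, 39, 31, 35, 40, 46, 32, 37, 25, 27, 28, 30])) (fun r _ hr => by revert r; decide +kernel) h)
      (inv_mem (hb (0 ^ 2 * σ 0 + σ u)))
    rw [G2, map_zero, x_zero (by norm_num), x_zero (by norm_num), one_mul, one_mul] at this
    simpa using this
  exact x_not_mem (closed_of (by decide +kernel)) (by decide) (by norm_num) (by norm_num) (by decide) h1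

theorem G3_mem (σ : K ≃+* K) (s : K) {P : ℕ → Prop} (h : ∀ r ∈ [43, 38], P r) :
    G3 σ s ∈ Data.F4.tbl.rootGen K P := by
  simp only [G3]
  exact mul_mem (xU_mem_rootGen (lt48 (by norm_num)) (h 43 (by simp)) _) (xU_mem_rootGen (lt48 (by norm_num)) (h 38 (by simp)) _)

theorem G3_not_mem (σ : K ≃+* K) (s : K)
    (h : G3 σ s ∈ Data.F4.tbl.rootGen K (· ∈ tail 4)) : s = 0 := by
  have h1 : xx 38 s ∈ Data.F4.tbl.rootGen K (· ∈ [43, 41, 29, 44, 47, 45, 39, 31, 35, 40, 46, 32, 37, 25, 27, 28, 30]) := by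
    have hb : xx 43 (σ s) ∈ Data.F4.tbl.rootGen K (· ∈ [43, 41, 29, 44, 47, 45, 39, 31, 35, 40, 46, 32, 37, 25, 27, 28, 30]) := xU_mem_rootGen (lt48 (by norm_num)) (by simp) _
    have := mul_mem (inv_mem hb) (rootGen_mono (Q := (· ∈ [43, 41, 29, 44, 47, 45, 39, 31, 35, 40, 46, 32, 37, 25, 27, 28, 30])) (fun r _ hr => by
      revert r; decide +kernel) h)
    simpa only [G3, inv_mul_cancel_left] using this
  exact x_not_mem (closed_of (by decide +kernel)) (by decide) (by norm_num) (by norm_num) (by decide) h1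

theorem G4_mem (σ : K ≃+* K) (s u : K) {P : ℕ → Prop} (h : ∀ r ∈ [41, 29, 44, 47], P r) :
    G4 σ s u ∈ Data.F4.tbl.rootGen K P := by
  simp only [G4]
  exact mul_mem (xU_mem_rootGen (lt48 (by norm_num)) (h 41 (by simp)) _) (mul_mem (xU_mem_rootGen (lt48 (by norm_num)) (h 29 (by simp)) _) (mul_mem (xU_mem_rootGen (lt48 (by norm_num)) (h 44 (by simp)) _) (xU_mem_rootGen (lt48 (by norm_num)) (h 47 (by simp)) _)))

theorem G4_not_mem (σ : K ≃+* K) (s u : K)
    (h : G4 σ s u ∈ Data.F4.tbl.rootGen K (· ∈ tail 5)) : s = 0 ∧ u = 0 := by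
  have h0 : s = 0 := by
    have hm : ∀ r ∈ [41, 44, 47], r < 48 ∧ r ∈ [41, 44, 47, 45, 39, 31, 35, 40, 46, 32, 37, 25, 27, 28, 30] := by decide
    have hb : ∀ r ∈ [41, 44, 47], ∀ t : K, xx r t ∈ Data.F4.tbl.rootGen K (· ∈ [41, 44, 47, 45, 39, 31, 35, 40, 46, 32, 37, 25, 27, 28, 30]) :=
      fun r hr t => xU_mem_rootGen (lt48 (hm r hr).1) (hm r hr).2 t
    have := mul_mem (mul_mem (inv_mem (hb 41 (by simp) (σ s))) (rootGen_mono (Q := (· ∈ [41, 44, 47, 45, 39, 31, 35, 40, 46, 32, 37, 25, 27, 28, 30])) (fun r _ hr => by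
      revert r; decide +kernel) h)) (inv_mem (mul_mem (hb 44 (by simp) u) (hb 47 (by simp) (s ^ 2 * σ s + σ u))))
    rw [G4, inv_mul_cancel_left, mul_inv_cancel_right] at this
    exact x_not_mem (closed_of (by decide +kernel)) (by decide) (by norm_num) (by norm_num) (by decide) this
  subst h0
  refine ⟨rfl, ?_⟩
  have h1 : xx 44 u ∈ Data.F4.tbl.rootGen K (· ∈ [47, 45, 39, 31, 35, 40, 46, 32, 37, 25, 27, 28, 30]) := by
    have hb : ∀ t : K, xx 47 t ∈ Data.F4.tbl.rootGen K (· ∈ [47, 45, 39, 31, 35, 40, 46, 32, 37, 25, 27, 28, 30]) := fun t =>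
      xU_mem_rootGen (lt48 (by norm_num)) (by simp) t
    have := mul_mem (rootGen_mono (Q := (· ∈ [47, 45, 39, 31, 35, 40, 46, 32, 37, 25, 27, 28, 30])) (fun r _ hr => by revert r; decide +kernel) h)
      (inv_mem (hb (0 ^ 2 * σ 0 + σ u)))
    rw [G4, map_zero, x_zero (by norm_num), x_zero (by norm_num), one_mul, one_mul] at this
    simpa using this
  exact x_not_mem (closed_of (by decide +kernel)) (by decide) (by norm_num) (by norm_num) (by decide) h1

theorem G5_mem (σ : K ≃+* K) (s : K) {P : ℕ → Prop} (h : ∀ r ∈ [45, 39], P r) :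
    G5 σ s ∈ Data.F4.tbl.rootGen K P := by
  simp only [G5]
  exact mul_mem (xU_mem_rootGen (lt48 (by norm_num)) (h 45 (by simp)) _) (xU_mem_rootGen (lt48 (by norm_num)) (h 39 (by simp)) _)

theorem G5_not_mem (σ : K ≃+* K) (s : K)
    (h : G5 σ s ∈ Data.F4.tbl.rootGen K (· ∈ tail 6)) : s = 0 := by
  have h1 : xx 39 s ∈ Data.F4.tbl.rootGen K (· ∈ [45, 31, 35, 40, 46, 32, 37, 25, 27, 28, 30]) := by
    have hb : xx 45 (σ s) ∈ Data.F4.tbl.rootGen K (· ∈ [45, 31, 35, 40, 46, 32, 37, 25, 27, 28, 30]) := xU_mem_rootGen (lt48 (by norm_num)) (by simp) _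
    have := mul_mem (inv_mem hb) (rootGen_mono (Q := (· ∈ [45, 31, 35, 40, 46, 32, 37, 25, 27, 28, 30])) (fun r _ hr => by
      revert r; decide +kernel) h)
    simpa only [G5, inv_mul_cancel_left] using this
  exact x_not_mem (closed_of (by decide +kernel)) (by decide) (by norm_num) (by norm_num) (by decide) h1

theorem G6_mem (σ : K ≃+* K) (s u : K) {P : ℕ → Prop} (h : ∀ r ∈ [31, 35, 40, 46], P r) :
    G6 σ s u ∈ Data.F4.tbl.rootGen K P := by
  simp only [G6]
  exact mul_mem (xU_mem_rootGen (lt48 (by norm_num)) (h 31 (by simp)) _) (mul_mem (xU_mem_rootGen (lt48 (by norm_num)) (h 35 (by simp)) _) (mul_mem (xU_mem_rootGen (lt48 (by norm_num)) (h 40 (by simp)) _) (xU_mem_rootGen (lt48 (by norm_num)) (h 46 (by simp)) _)))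

theorem G6_not_mem (σ : K ≃+* K) (s u : K)
    (h : G6 σ s u ∈ Data.F4.tbl.rootGen K (· ∈ tail 7)) : s = 0 ∧ u = 0 := by
  have h0 : s = 0 := by
    have hm : ∀ r ∈ [31, 40, 46], r < 48 ∧ r ∈ [31, 40, 46, 32, 37, 25, 27, 28, 30] := by decide
    have hb : ∀ r ∈ [31, 40, 46], ∀ t : K, xx r t ∈ Data.F4.tbl.rootGen K (· ∈ [31, 40, 46, 32, 37, 25, 27, 28, 30]) :=
      fun r hr t => xU_mem_rootGen (lt48 (hm r hr).1) (hm r hr).2 t
    have := mul_mem (mul_mem (inv_mem (hb 31 (by simp) (σ s))) (rootGen_mono (Q := (· ∈ [31, 40, 46, 32, 37, 25, 27, 28, 30])) (fun r _ hr => by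
      revert r; decide +kernel) h)) (inv_mem (mul_mem (hb 40 (by simp) u) (hb 46 (by simp) (s ^ 2 * σ s + σ u))))
    rw [G6, inv_mul_cancel_left, mul_inv_cancel_right] at this
    exact x_not_mem (closed_of (by decide +kernel)) (by decide) (by norm_num) (by norm_num) (by decide) this
  subst h0
  refine ⟨rfl, ?_⟩
  have h1 : xx 40 u ∈ Data.F4.tbl.rootGen K (· ∈ [46, 32, 37, 25, 27, 28, 30]) := by
    have hb : ∀ t : K, xx 46 t ∈ Data.F4.tbl.rootGen K (· ∈ [46, 32, 37, 25, 27, 28, 30]) := fun t =>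
      xU_mem_rootGen (lt48 (by norm_num)) (by simp) t
    have := mul_mem (rootGen_mono (Q := (· ∈ [46, 32, 37, 25, 27, 28, 30])) (fun r _ hr => by revert r; decide +kernel) h)
      (inv_mem (hb (0 ^ 2 * σ 0 + σ u)))
    rw [G6, map_zero, x_zero (by norm_num), x_zero (by norm_num), one_mul, one_mul] at this
    simpa using this
  exact x_not_mem (closed_of (by decide +kernel)) (by decide) (by norm_num) (by norm_num) (by decide) h1

theorem G7_mem (σ : K ≃+* K) (s : K) {P : ℕ → Prop} (h : ∀ r ∈ [32, 37], P r) :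
    G7 σ s ∈ Data.F4.tbl.rootGen K P := by
  simp only [G7]
  exact mul_mem (xU_mem_rootGen (lt48 (by norm_num)) (h 32 (by simp)) _) (xU_mem_rootGen (lt48 (by norm_num)) (h 37 (by simp)) _)

theorem G7_not_mem (σ : K ≃+* K) (s : K)
    (h : G7 σ s ∈ Data.F4.tbl.rootGen K (· ∈ tail 8)) : s = 0 := by
  have h1 : xx 37 s ∈ Data.F4.tbl.rootGen K (· ∈ [32, 25, 27, 28, 30]) := by
    have hb : xx 32 (σ s) ∈ Data.F4.tbl.rootGen K (· ∈ [32, 25, 27, 28, 30]) := xU_mem_rootGen (lt48 (by norm_num)) (by simp) _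
    have := mul_mem (inv_mem hb) (rootGen_mono (Q := (· ∈ [32, 25, 27, 28, 30])) (fun r _ hr => by
      revert r; decide +kernel) h)
    simpa only [G7, inv_mul_cancel_left] using this
  exact x_not_mem (closed_of (by decide +kernel)) (by decide) (by norm_num) (by norm_num) (by decide) h1

theorem G8_mem (σ : K ≃+* K) (s u : K) {P : ℕ → Prop} (h : ∀ r ∈ [25, 27, 28, 30], P r) :
    G8 σ s u ∈ Data.F4.tbl.rootGen K P := by
  simp only [G8]
  exact mul_mem (xU_mem_rootGen (lt48 (by norm_num)) (h 25 (by simp)) _) (mul_mem (xU_mem_rootGen (lt48 (by norm_num)) (h 27 (by simp)) _) (mul_mem (xU_mem_rootGen (lt48 (by norm_num)) (h 28 (by simp)) _) (xU_mem_rootGen (lt48 (by norm_num)) (h 30 (by simp)) _)))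

theorem G8_not_mem (σ : K ≃+* K) (s u : K)
    (h : G8 σ s u ∈ Data.F4.tbl.rootGen K (· ∈ tail 9)) : s = 0 ∧ u = 0 := by
  have h0 : s = 0 := by
    have hm : ∀ r ∈ [25, 28, 30], r < 48 ∧ r ∈ [25, 28, 30] := by decide
    have hb : ∀ r ∈ [25, 28, 30], ∀ t : K, xx r t ∈ Data.F4.tbl.rootGen K (· ∈ [25, 28, 30]) :=
      fun r hr t => xU_mem_rootGen (lt48 (hm r hr).1) (hm r hr).2 t
    have := mul_mem (mul_mem (inv_mem (hb 25 (by simp) (σ s))) (rootGen_mono (Q := (· ∈ [25, 28, 30])) (fun r _ hr => by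
      revert r; decide +kernel) h)) (inv_mem (mul_mem (hb 28 (by simp) u) (hb 30 (by simp) (s ^ 2 * σ s + σ u))))
    rw [G8, inv_mul_cancel_left, mul_inv_cancel_right] at this
    exact x_not_mem (closed_of (by decide +kernel)) (by decide) (by norm_num) (by norm_num) (by decide) this
  subst h0
  refine ⟨rfl, ?_⟩
  have h1 : xx 28 u ∈ Data.F4.tbl.rootGen K (· ∈ [30]) := by
    have hb : ∀ t : K, xx 30 t ∈ Data.F4.tbl.rootGen K (· ∈ [30]) := fun t =>
      xU_mem_rootGen (lt48 (by norm_num)) (by simp) t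
    have := mul_mem (rootGen_mono (Q := (· ∈ [30])) (fun r _ hr => by revert r; decide +kernel) h)
      (inv_mem (hb (0 ^ 2 * σ 0 + σ u)))
    rw [G8, map_zero, x_zero (by norm_num), x_zero (by norm_num), one_mul, one_mul] at this
    simpa using this
  exact x_not_mem (closed_of (by decide +kernel)) (by decide) (by norm_num) (by norm_num) (by decide) h1

end CfsgLib.F4Inv
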