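import Cfsg.Agent.Lib.KnownB.F4Inv.Classes
import Mathlib.GroupTheory.Sylow
import Mathlib.Data.Set.Card

/-!
Exactly two classes of involutions in ²F₄(q).
-/

set_option autoImplicit false
set_option maxRecDepth 20000
set_option linter.all false
set_option Elab.async false

namespace CfsgLib.F4Inv

open CfsgLib.Chevalley CfsgLib.Chevalley.Tbl

variable {K : Type*} [Field K] [CharP K 2] [Finite K] {m : ℕ} (hK : Nat.card K = 2 ^ (2 * m + 1))

local notation "σ" => sig (K := K) (m := m)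
local notation "SS" => Twist.F4.S hK

theorem involution_class (s : ↥(SS).fix) (hs : orderOf s = 2) :
    Cj hK (s : GL Data.F4.tbl.I K) (repA (m := m)) ∨ Cj hK (s : GL Data.F4.tbl.I K) (repB (m := m)) := by
  have : Fact (Nat.Prime 2) := ⟨Nat.prime_two⟩
  have hcard := Twist.F4.card_eq hK
  rw [Twist.F4.grp_eq_fix hK] at hcard
  let P : Subgroup ↥(SS).fix := (Data.F4.tbl.datum.posUnipotent K).subgroupOf (SS).fix
  have hPcard : Nat.card ↥P = (2 ^ (2 * m + 1)) ^ 12 := by
    rw [show P = (Data.F4.tbl.datum.posUnipotent K ⊓ (SS).fix).subgroupOf (SS).fix from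
      (Subgroup.inf_subgroupOf_right _ _).symm,
      Nat.card_congr (Subgroup.subgroupOfEquivOfLe inf_le_right).toEquiv, Twist.F4.card_Upos hK]
  have hP : IsPGroup 2 ↥P := IsPGroup.of_card (n := (2 * m + 1) * 12) (by rw [hPcard, ← pow_mul])
  have hindex : ¬ 2 ∣ P.index := by
    intro hd
    have h1 := P.card_mul_index
    rw [hPcard, hcard, mul_assoc, mul_assoc, mul_assoc] at h1
    have hq1 : 1 ≤ 2 ^ (2 * m + 1) := Nat.one_le_two_pow
    rw [Nat.eq_of_mul_eq_mul_left (pow_pos hq1 12) h1] at hd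
    have heven : Even (2 ^ (2 * m + 1)) := (Nat.even_pow' (by omega)).mpr even_two
    have h2 : Odd ((2 ^ (2 * m + 1) - 1) * (((2 ^ (2 * m + 1)) ^ 3 + 1) *
        (((2 ^ (2 * m + 1)) ^ 4 - 1) * ((2 ^ (2 * m + 1)) ^ 6 + 1)))) := by
      refine (Nat.Even.sub_odd hq1 heven odd_one).mul ((heven.pow_of_ne_zero (by norm_num)).add_one.mul ?_)
      exact (Nat.Even.sub_odd (Nat.one_le_pow _ _ hq1) (heven.pow_of_ne_zero (by norm_num)) odd_one).mul
        (heven.pow_of_ne_zero (by norm_num)).add_one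
    exact (Nat.not_even_iff_odd.mpr h2) (even_iff_two_dvd.mpr hd)
  have hz : IsPGroup 2 ↥(Subgroup.zpowers s) :=
    IsPGroup.of_card (n := 1) (by rw [Nat.card_zpowers, hs, pow_one])
  obtain ⟨Q, hQ⟩ := hz.exists_le_sylow
  obtain ⟨g, hg⟩ := MulAction.exists_smul_eq ↥(SS).fix Q (hP.toSylow hindex)
  have hmem : g * s * g⁻¹ ∈ P := by
    have := Subgroup.smul_mem_pointwise_smul s (MulAut.conj g) (Q : Subgroup ↥(SS).fix)
      (hQ (Subgroup.mem_zpowers s))
    rw [← Sylow.coe_subgroup_smul, hg] at this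
    exact this
  have hss : s * s = 1 := by rw [← pow_two, ← hs, pow_orderOf_eq_one]
  have hne : s ≠ 1 := fun e => by rw [e, orderOf_one] at hs; exact absurd hs (by norm_num)
  have hcj : Cj hK (s : GL Data.F4.tbl.I K) ((g * s * g⁻¹ : ↥(SS).fix) : GL Data.F4.tbl.I K) :=
    ⟨g, g.2, by rw [← Subgroup.coe_mul, ← Subgroup.coe_mul, inv_mul_cancel_right]⟩
  have hpos := pos_class hK
    ((posUnipotent_rootGen (F := K) Data.F4.valid) ▸ Subgroup.mem_subgroupOf.mp hmem) (g * s * g⁻¹).2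
    (by rw [← Subgroup.coe_mul, conj_mul, hss, mul_one, mul_inv_cancel, Subgroup.coe_one])
    (fun e => hne (conj_eq_one_iff.mp (Subtype.ext e)))
  exact hpos.imp (cj_trans hK hcj) (cj_trans hK hcj)

/-- The two standard involutions. -/
noncomputable def stdA : ↥(SS).fix := ⟨repA (m := m), N_fix hK ..⟩

/-- The two standard involutions. -/
noncomputable def stdB : ↥(SS).fix := ⟨repB (m := m), N_fix hK ..⟩

theorem mk_eq {u v : ↥(SS).fix} (h : Cj hK (u : GL Data.F4.tbl.I K) v) :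
    ConjClasses.mk u = ConjClasses.mk v := by
  obtain ⟨k, hk, e⟩ := h
  refine ConjClasses.mk_eq_mk_iff_isConj.mpr (isConj_iff.mpr ⟨⟨k, hk⟩, ?_⟩)
  rw [mul_inv_eq_iff_eq_mul]
  exact Subtype.ext e

theorem std_ne : ¬ IsConj (stdA hK) (stdB hK) := by
  intro h
  obtain ⟨c, hc⟩ := isConj_iff.mp h
  exact not_cj hK ⟨c, c.2, congrArg Subtype.val (mul_inv_eq_iff_eq_mul.mp hc)⟩

theorem std_order : orderOf (stdA hK) = 2 ∧ orderOf (stdB hK) = 2 := by
  have : Fact (Nat.Prime 2) := ⟨Nat.prime_two⟩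
  have key : ∀ a D : K, a = 0 ∨ D = 0 → N σ a 0 0 0 0 D 0 0 0 0 0 0 * N σ a 0 0 0 0 D 0 0 0 0 0 0 = 1 := by
    intro a D h
    rw [sq_collect (hσ hK), ← N_zero hK]
    simp
  refine ⟨orderOf_eq_prime (Subtype.ext ?_) (fun e => ?_), orderOf_eq_prime (Subtype.ext ?_) (fun e => ?_)⟩
  · rw [pow_two]; exact key 0 1 (Or.inl rfl)
  · exact one_ne_zero (N_inj hK ((congrArg Subtype.val e).trans (N_zero hK).symm)).2.2.2.2.2.1
  · rw [pow_two]; exact key 1 0 (Or.inr rfl)
  · exact one_ne_zero (N_inj hK ((congrArg Subtype.val e).trans (N_zero hK).symm)).1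

theorem class_image : ConjClasses.mk '' {g : ↥(SS).fix | orderOf g = 2} =
    {ConjClasses.mk (stdA hK), ConjClasses.mk (stdB hK)} := by
  ext x
  constructor
  · rintro ⟨s, hs, rfl⟩
    rcases involution_class hK s hs with h | h
    · exact Or.inl (mk_eq hK (v := stdA hK) h)
    · exact Or.inr (mk_eq hK (v := stdB hK) h)
  · rintro (rfl | rfl)
    · exact ⟨stdA hK, (std_order hK).1, rfl⟩
    · exact ⟨stdB hK, (std_order hK).2, rfl⟩

theorem class_count : (ConjClasses.mk '' {g : ↥(SS).fix | orderOf g = 2}).ncard = 2 := by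
  rw [class_image hK, Set.ncard_pair fun e => std_ne hK (ConjClasses.mk_eq_mk_iff_isConj.mp e)]

end CfsgLib.F4Inv
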