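import Cfsg.Agent.Lib.KnownB.F4Inv.Identities

/-!
The coordinates on the fixed positive elements of ²F₄.
-/

set_option autoImplicit false
set_option maxRecDepth 20000
set_option maxHeartbeats 1000000
set_option linter.all false
set_option Elab.async false

namespace CfsgLib.F4Inv

open CfsgLib.Chevalley CfsgLib.Chevalley.Tbl

variable {K : Type*} [Field K] [CharP K 2] [Finite K] {m : ℕ} (hK : Nat.card K = 2 ^ (2 * m + 1))

local notation "xx" => Data.F4.tbl.xU K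
local notation "σ" => sig (K := K) (m := m)
local notation "SS" => Twist.F4.S hK

omit [Finite K] in
theorem fix_of_conj {S : Subgroup (GL Data.F4.tbl.I K)} {w x y : GL Data.F4.tbl.I K} (hw : w ∈ S)
    (hx : x ∈ S) (h : w * x = y * w) : y ∈ S := by
  rw [← mul_inv_cancel_right y w, ← h]
  exact mul_mem (mul_mem hw hx) (inv_mem hw)

include hK

theorem G2_fix (s u : K) : G2 σ s u ∈ (SS).fix :=
  fix_of_conj (w1_fix hK) (G8_fix hK s u) (w1_G8 σ s u)

theorem G6_fix (s u : K) : G6 σ s u ∈ (SS).fix :=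
  fix_of_conj (w8_fix hK) (G2_fix hK s u) (w8_G2 σ s u)

theorem G4_fix (s u : K) : G4 σ s u ∈ (SS).fix :=
  fix_of_conj (w1_fix hK) (G6_fix hK s u) (w1_G6 σ s u)

theorem G7_fix (s : K) : G7 σ s ∈ (SS).fix :=
  fix_of_conj (w8_fix hK) (G1_fix hK s) (w8_G1 σ s)

theorem G3_fix (s : K) : G3 σ s ∈ (SS).fix :=
  fix_of_conj (w1_fix hK) (G7_fix hK s) (w1_G7 σ s)

theorem G5_fix (s : K) : G5 σ s ∈ (SS).fix :=
  fix_of_conj (w8_fix hK) (G3_fix hK s) (w8_G3 σ s)

theorem N_fix (a b B c d D e f F g h H : K) : N σ a b B c d D e f F g h H ∈ (SS).fix :=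
  mul_mem (G1_fix hK _) (mul_mem (G2_fix hK _ _) (mul_mem (G3_fix hK _) (mul_mem (G4_fix hK _ _)
    (mul_mem (G5_fix hK _) (mul_mem (G6_fix hK _ _) (mul_mem (G7_fix hK _) (G8_fix hK _ _)))))))

omit hK [Finite K] [CharP K 2] in
theorem tail_succ : ∀ k ∈ [1, 2, 3, 4, 5, 6, 7, 8], ∀ r ∈ tail (k + 1), r ∈ tail k := by decide +kernel

omit hK [Finite K] [CharP K 2] in
theorem tail_pos : ∀ r ∈ tail 1, r < 48 ∧ 24 ≤ r := by decide +kernel

omit hK [Finite K] [CharP K 2] in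
theorem tail_nine : ∀ r, r ∉ tail 9 := by simp [tail]

theorem peel1 {s s' : K} {X X' : GL Data.F4.tbl.I K}
    (hX : X ∈ Data.F4.tbl.rootGen K (· ∈ tail 2)) (hX' : X' ∈ Data.F4.tbl.rootGen K (· ∈ tail 2))
    (h : G1 σ s * X = G1 σ s' * X') : s = s' ∧ X = X' := by
  have e : G1 σ (s' + s) * X = X' := by
    rw [← mul1 (hσ hK), mul_assoc, h, ← mul_assoc, mul1 (hσ hK), CharTwo.add_self_eq_zero, G1_zero, one_mul]
  have h1 : G1 σ (s' + s) ∈ Data.F4.tbl.rootGen K (· ∈ tail 2) := by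
    have := mul_mem hX' (inv_mem hX)
    rwa [← e, mul_inv_cancel_right] at this
  obtain rfl : s = s' := by linear_combination G1_not_mem σ _ h1 - s' * CharTwo.two_eq_zero (R := K)
  exact ⟨rfl, mul_left_cancel h⟩

theorem peel2 {s s' u u' : K} {X X' : GL Data.F4.tbl.I K}
    (hX : X ∈ Data.F4.tbl.rootGen K (· ∈ tail 3)) (hX' : X' ∈ Data.F4.tbl.rootGen K (· ∈ tail 3))
    (h : G2 σ s u * X = G2 σ s' u' * X') : s = s' ∧ u = u' ∧ X = X' := by
  set t := s' + s with ht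
  set v := u + u' + s' * σ t with hv
  have hs : s' + t = s := by linear_combination s' * CharTwo.two_eq_zero (R := K)
  have hu : s' * σ t + u' + v = u := by
    linear_combination (s' * σ t + u') * CharTwo.two_eq_zero (R := K)
  rw [show G2 σ s u = G2 σ s' u' * G2 σ t v by rw [mul2 (hσ hK), hs, hu], mul_assoc] at h
  have e := mul_left_cancel h
  have h1 : G2 σ t v ∈ Data.F4.tbl.rootGen K (· ∈ tail 3) := by
    have := mul_mem hX' (inv_mem hX)
    rwa [← e, mul_inv_cancel_right] at this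
  obtain ⟨t0, v0⟩ := G2_not_mem σ _ _ h1
  rw [t0] at hs
  rw [t0, map_zero] at hu
  rw [t0, v0, G2_zero, one_mul] at e
  rw [v0] at hu
  exact ⟨by rw [← hs, add_zero], by rw [← hu]; ring, e⟩

theorem peel3 {s s' : K} {X X' : GL Data.F4.tbl.I K}
    (hX : X ∈ Data.F4.tbl.rootGen K (· ∈ tail 4)) (hX' : X' ∈ Data.F4.tbl.rootGen K (· ∈ tail 4))
    (h : G3 σ s * X = G3 σ s' * X') : s = s' ∧ X = X' := by
  have e : G3 σ (s' + s) * X = X' := by
    rw [← mul3 (hσ hK), mul_assoc, h, ← mul_assoc, mul3 (hσ hK), CharTwo.add_self_eq_zero, G3_zero, one_mul]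
  have h1 : G3 σ (s' + s) ∈ Data.F4.tbl.rootGen K (· ∈ tail 4) := by
    have := mul_mem hX' (inv_mem hX)
    rwa [← e, mul_inv_cancel_right] at this
  obtain rfl : s = s' := by linear_combination G3_not_mem σ _ h1 - s' * CharTwo.two_eq_zero (R := K)
  exact ⟨rfl, mul_left_cancel h⟩

theorem peel4 {s s' u u' : K} {X X' : GL Data.F4.tbl.I K}
    (hX : X ∈ Data.F4.tbl.rootGen K (· ∈ tail 5)) (hX' : X' ∈ Data.F4.tbl.rootGen K (· ∈ tail 5))
    (h : G4 σ s u * X = G4 σ s' u' * X') : s = s' ∧ u = u' ∧ X = X' := by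
  set t := s' + s with ht
  set v := u + u' + s' * σ t with hv
  have hs : s' + t = s := by linear_combination s' * CharTwo.two_eq_zero (R := K)
  have hu : s' * σ t + u' + v = u := by
    linear_combination (s' * σ t + u') * CharTwo.two_eq_zero (R := K)
  rw [show G4 σ s u = G4 σ s' u' * G4 σ t v by rw [mul4 (hσ hK), hs, hu], mul_assoc] at h
  have e := mul_left_cancel h
  have h1 : G4 σ t v ∈ Data.F4.tbl.rootGen K (· ∈ tail 5) := by
    have := mul_mem hX' (inv_mem hX)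
    rwa [← e, mul_inv_cancel_right] at this
  obtain ⟨t0, v0⟩ := G4_not_mem σ _ _ h1
  rw [t0] at hs
  rw [t0, map_zero] at hu
  rw [t0, v0, G4_zero, one_mul] at e
  rw [v0] at hu
  exact ⟨by rw [← hs, add_zero], by rw [← hu]; ring, e⟩

theorem peel5 {s s' : K} {X X' : GL Data.F4.tbl.I K}
    (hX : X ∈ Data.F4.tbl.rootGen K (· ∈ tail 6)) (hX' : X' ∈ Data.F4.tbl.rootGen K (· ∈ tail 6))
    (h : G5 σ s * X = G5 σ s' * X') : s = s' ∧ X = X' := by
  have e : G5 σ (s' + s) * X = X' := by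
    rw [← mul5 (hσ hK), mul_assoc, h, ← mul_assoc, mul5 (hσ hK), CharTwo.add_self_eq_zero, G5_zero, one_mul]
  have h1 : G5 σ (s' + s) ∈ Data.F4.tbl.rootGen K (· ∈ tail 6) := by
    have := mul_mem hX' (inv_mem hX)
    rwa [← e, mul_inv_cancel_right] at this
  obtain rfl : s = s' := by linear_combination G5_not_mem σ _ h1 - s' * CharTwo.two_eq_zero (R := K)
  exact ⟨rfl, mul_left_cancel h⟩

theorem peel6 {s s' u u' : K} {X X' : GL Data.F4.tbl.I K}
    (hX : X ∈ Data.F4.tbl.rootGen K (· ∈ tail 7)) (hX' : X' ∈ Data.F4.tbl.rootGen K (· ∈ tail 7))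
    (h : G6 σ s u * X = G6 σ s' u' * X') : s = s' ∧ u = u' ∧ X = X' := by
  set t := s' + s with ht
  set v := u + u' + s' * σ t with hv
  have hs : s' + t = s := by linear_combination s' * CharTwo.two_eq_zero (R := K)
  have hu : s' * σ t + u' + v = u := by
    linear_combination (s' * σ t + u') * CharTwo.two_eq_zero (R := K)
  rw [show G6 σ s u = G6 σ s' u' * G6 σ t v by rw [mul6 (hσ hK), hs, hu], mul_assoc] at h
  have e := mul_left_cancel h
  have h1 : G6 σ t v ∈ Data.F4.tbl.rootGen K (· ∈ tail 7) := by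
    have := mul_mem hX' (inv_mem hX)
    rwa [← e, mul_inv_cancel_right] at this
  obtain ⟨t0, v0⟩ := G6_not_mem σ _ _ h1
  rw [t0] at hs
  rw [t0, map_zero] at hu
  rw [t0, v0, G6_zero, one_mul] at e
  rw [v0] at hu
  exact ⟨by rw [← hs, add_zero], by rw [← hu]; ring, e⟩

theorem peel7 {s s' : K} {X X' : GL Data.F4.tbl.I K}
    (hX : X ∈ Data.F4.tbl.rootGen K (· ∈ tail 8)) (hX' : X' ∈ Data.F4.tbl.rootGen K (· ∈ tail 8))
    (h : G7 σ s * X = G7 σ s' * X') : s = s' ∧ X = X' := by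
  have e : G7 σ (s' + s) * X = X' := by
    rw [← mul7 (hσ hK), mul_assoc, h, ← mul_assoc, mul7 (hσ hK), CharTwo.add_self_eq_zero, G7_zero, one_mul]
  have h1 : G7 σ (s' + s) ∈ Data.F4.tbl.rootGen K (· ∈ tail 8) := by
    have := mul_mem hX' (inv_mem hX)
    rwa [← e, mul_inv_cancel_right] at this
  obtain rfl : s = s' := by linear_combination G7_not_mem σ _ h1 - s' * CharTwo.two_eq_zero (R := K)
  exact ⟨rfl, mul_left_cancel h⟩

theorem peel8 {s s' u u' : K} {X X' : GL Data.F4.tbl.I K}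
    (hX : X ∈ Data.F4.tbl.rootGen K (· ∈ tail 9)) (hX' : X' ∈ Data.F4.tbl.rootGen K (· ∈ tail 9))
    (h : G8 σ s u * X = G8 σ s' u' * X') : s = s' ∧ u = u' ∧ X = X' := by
  set t := s' + s with ht
  set v := u + u' + s' * σ t with hv
  have hs : s' + t = s := by linear_combination s' * CharTwo.two_eq_zero (R := K)
  have hu : s' * σ t + u' + v = u := by
    linear_combination (s' * σ t + u') * CharTwo.two_eq_zero (R := K)
  rw [show G8 σ s u = G8 σ s' u' * G8 σ t v by rw [mul8 (hσ hK), hs, hu], mul_assoc] at h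
  have e := mul_left_cancel h
  have h1 : G8 σ t v ∈ Data.F4.tbl.rootGen K (· ∈ tail 9) := by
    have := mul_mem hX' (inv_mem hX)
    rwa [← e, mul_inv_cancel_right] at this
  obtain ⟨t0, v0⟩ := G8_not_mem σ _ _ h1
  rw [t0] at hs
  rw [t0, map_zero] at hu
  rw [t0, v0, G8_zero, one_mul] at e
  rw [v0] at hu
  exact ⟨by rw [← hs, add_zero], by rw [← hu]; ring, e⟩

omit [CharP K 2] [Finite K] hK in
theorem tail_chain {k : ℕ} (hk : k ∈ [1, 2, 3, 4, 5, 6, 7, 8]) {x y : GL Data.F4.tbl.I K}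
    (hx : x ∈ Data.F4.tbl.rootGen K (· ∈ tail k)) (hy : y ∈ Data.F4.tbl.rootGen K (· ∈ tail (k + 1))) :
    x * y ∈ Data.F4.tbl.rootGen K (· ∈ tail k) :=
  mul_mem hx (rootGen_mono (fun r _ hr => tail_succ k hk r hr) hy)

omit hK in
theorem mem8 (h H : K) : G8 σ h H ∈ Data.F4.tbl.rootGen K (· ∈ tail 8) :=
  G8_mem σ h H (by decide)

omit hK in
theorem mem7 (g h H : K) : G7 σ g * (G8 σ h H) ∈ Data.F4.tbl.rootGen K (· ∈ tail 7) :=
  tail_chain (k := 7) (by simp) (G7_mem σ g (by decide)) (mem8 h H)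

omit hK in
theorem mem6 (f F g h H : K) : G6 σ f F * (G7 σ g * (G8 σ h H)) ∈ Data.F4.tbl.rootGen K (· ∈ tail 6) :=
  tail_chain (k := 6) (by simp) (G6_mem σ f F (by decide)) (mem7 g h H)

omit hK in
theorem mem5 (e f F g h H : K) : G5 σ e * (G6 σ f F * (G7 σ g * (G8 σ h H))) ∈ Data.F4.tbl.rootGen K (· ∈ tail 5) :=
  tail_chain (k := 5) (by simp) (G5_mem σ e (by decide)) (mem6 f F g h H)

omit hK in
theorem mem4 (d D e f F g h H : K) : G4 σ d D * (G5 σ e * (G6 σ f F * (G7 σ g * (G8 σ h H)))) ∈ Data.F4.tbl.rootGen K (· ∈ tail 4) :=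
  tail_chain (k := 4) (by simp) (G4_mem σ d D (by decide)) (mem5 e f F g h H)

omit hK in
theorem mem3 (c d D e f F g h H : K) : G3 σ c * (G4 σ d D * (G5 σ e * (G6 σ f F * (G7 σ g * (G8 σ h H))))) ∈ Data.F4.tbl.rootGen K (· ∈ tail 3) :=
  tail_chain (k := 3) (by simp) (G3_mem σ c (by decide)) (mem4 d D e f F g h H)

omit hK in
theorem mem2 (b B c d D e f F g h H : K) : G2 σ b B * (G3 σ c * (G4 σ d D * (G5 σ e * (G6 σ f F * (G7 σ g * (G8 σ h H)))))) ∈ Data.F4.tbl.rootGen K (· ∈ tail 2) :=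
  tail_chain (k := 2) (by simp) (G2_mem σ b B (by decide)) (mem3 c d D e f F g h H)

omit hK in
theorem mem1 (a b B c d D e f F g h H : K) : G1 σ a * (G2 σ b B * (G3 σ c * (G4 σ d D * (G5 σ e * (G6 σ f F * (G7 σ g * (G8 σ h H))))))) ∈ Data.F4.tbl.rootGen K (· ∈ tail 1) :=
  tail_chain (k := 1) (by simp) (G1_mem σ a (by decide)) (mem2 b B c d D e f F g h H)

omit hK in
theorem N_pos (a b B c d D e f F g h H : K) :
    N σ a b B c d D e f F g h H ∈ Data.F4.tbl.rootGen K (fun r => Data.F4.tbl.half ≤ r) := by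
  refine rootGen_mono (fun r _ hr => ?_) (mem1 a b B c d D e f F g h H)
  rw [show Data.F4.tbl.half = 24 by decide +kernel]
  exact (tail_pos r hr).2

theorem N_inj {a b B c d D e f F g h H a' b' B' c' d' D' e' f' F' g' h' H' : K}
    (he : N σ a b B c d D e f F g h H = N σ a' b' B' c' d' D' e' f' F' g' h' H') :
    a = a' ∧ b = b' ∧ B = B' ∧ c = c' ∧ d = d' ∧ D = D' ∧ e = e' ∧ f = f' ∧ F = F' ∧ g = g' ∧ h = h' ∧
      H = H' := by
  obtain ⟨ha, k1⟩ := peel1 hK (mem2 b B c d D e f F g h H) (mem2 b' B' c' d' D' e' f' F' g' h' H') he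
  obtain ⟨hb, hB, k2⟩ := peel2 hK (mem3 c d D e f F g h H) (mem3 c' d' D' e' f' F' g' h' H') k1
  obtain ⟨hc, k3⟩ := peel3 hK (mem4 d D e f F g h H) (mem4 d' D' e' f' F' g' h' H') k2
  obtain ⟨hd, hD, k4⟩ := peel4 hK (mem5 e f F g h H) (mem5 e' f' F' g' h' H') k3
  obtain ⟨he', k5⟩ := peel5 hK (mem6 f F g h H) (mem6 f' F' g' h' H') k4
  obtain ⟨hf, hF, k6⟩ := peel6 hK (mem7 g h H) (mem7 g' h' H') k5
  obtain ⟨hg, k7⟩ := peel7 hK (mem8 h H) (mem8 h' H') k6
  obtain ⟨hh, hH, -⟩ := peel8 hK (s := h) (u := H) (s' := h') (u' := H') (X := 1) (X' := 1) (one_mem _) (one_mem _) (by rw [mul_one, mul_one]; exact k7)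
  exact ⟨ha, hb, hB, hc, hd, hD, he', hf, hF, hg, hh, hH⟩

theorem exists_coords {x : GL Data.F4.tbl.I K}
    (hx : x ∈ Data.F4.tbl.rootGen K (fun r => Data.F4.tbl.half ≤ r)) (hf : x ∈ (SS).fix) :
    ∃ a b B c d D e f F g h H, x = N σ a b B c d D e f F g h H := by
  let P : Subgroup (GL Data.F4.tbl.I K) := Data.F4.tbl.datum.posUnipotent K ⊓ (SS).fix
  let φ : K × K × K × K × K × K × K × K × K × K × K × K → ↥P :=
    fun ⟨a, b, B, c, d, D, e, f, F, g, h, H⟩ => ⟨N σ a b B c d D e f F g h H,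
      Subgroup.mem_inf.mpr ⟨(posUnipotent_rootGen (F := K) Data.F4.valid).symm ▸ N_pos a b B c d D e f F g h H,
        N_fix hK a b B c d D e f F g h H⟩⟩
  have hinj : Function.Injective φ := by
    rintro ⟨a, b, B, c, d, D, e, f, F, g, h, H⟩ ⟨a', b', B', c', d', D', e', f', F', g', h', H'⟩ he
    obtain ⟨rfl, rfl, rfl, rfl, rfl, rfl, rfl, rfl, rfl, rfl, rfl, rfl⟩ := N_inj hK (congrArg Subtype.val he)
    rfl
  have hP : Nat.card ↥P = (2 ^ (2 * m + 1)) ^ 12 := Twist.F4.card_Upos hK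
  have : Finite ↥P := Nat.finite_of_card_ne_zero (by rw [hP]; exact pow_ne_zero _ (pow_ne_zero _ two_ne_zero))
  have hb := (Nat.bijective_iff_injective_and_card φ).mpr ⟨hinj, by
    simp only [Nat.card_prod, hK, hP]
    ring⟩
  obtain ⟨⟨a, b, B, c, d, D, e, f, F, g, h, H⟩, e'⟩ := hb.2 ⟨x, Subgroup.mem_inf.mpr
    ⟨(posUnipotent_rootGen (F := K) Data.F4.valid).symm ▸ hx, hf⟩⟩
  exact ⟨a, b, B, c, d, D, e, f, F, g, h, H, (congrArg Subtype.val e').symm⟩

theorem N_zero : N σ (0 : K) 0 0 0 0 0 0 0 0 0 0 0 = 1 := by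
  simp only [N, G1_zero, G2_zero, G3_zero, G4_zero, G5_zero, G6_zero, G7_zero, G8_zero, mul_one]

end CfsgLib.F4Inv
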