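import Cfsg.Agent.Lib.KnownB.F4Inv.Groups

/-!
The twisted field map, the two Weyl representatives and the fixedness of the eight root groups of ²F₄.
-/

set_option autoImplicit false
set_option maxRecDepth 20000
set_option maxHeartbeats 800000
set_option linter.all false
set_option Elab.async false

namespace CfsgLib.F4Inv

open CfsgLib.Chevalley CfsgLib.Chevalley.Tbl

variable {K : Type*} [Field K] [CharP K 2] [Finite K] {m : ℕ} (hK : Nat.card K = 2 ^ (2 * m + 1))

local notation "xx" => Data.F4.tbl.xU K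
local notation "nn" => Data.F4.tbl.nU K
local notation "SS" => Twist.F4.S hK

theorem exists_sig : ∃ f : K ≃+* K, ∀ t, f t = t ^ (2 * 2 ^ m) := by
  have : Fact (Nat.Prime 2) := ⟨Nat.prime_two⟩
  have : ExpChar K 2 := ExpChar.prime Nat.prime_two
  refine ⟨RingEquiv.ofBijective (iterateFrobenius K 2 (m + 1))
    (Finite.injective_iff_bijective.mp (iterateFrobenius K 2 (m + 1)).injective), fun t => ?_⟩
  show iterateFrobenius K 2 (m + 1) t = _
  rw [iterateFrobenius_def, pow_succ']

/-- The map `t ↦ t ^ (2θ)`. -/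
noncomputable def sig : K ≃+* K := (exists_sig (K := K) (m := m)).choose

local notation "σ" => sig (K := K) (m := m)

theorem sig_apply (t : K) : σ t = t ^ (2 * 2 ^ m) := (exists_sig (K := K) (m := m)).choose_spec t

include hK

theorem hσ (x : K) : σ (σ x) = x ^ 2 := by
  rw [sig_apply, sig_apply, ← pow_mul, show 2 * 2 ^ m * (2 * 2 ^ m) = 2 ^ (2 * m + 1) * 2 by ring, pow_mul,
    Twist.pow_card_eq hK]

theorem theta_sig (x : K) : (σ x) ^ 2 ^ m = x := by
  rw [sig_apply]
  exact Twist.F4.pow_theta' hK x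

theorem G1_fix (s : K) : G1 σ s ∈ (SS).fix := by
  have h := Twist.F4.pair_fix hK (a := 33) (b := 24) (by simp) (σ s)
  simp only [Twist.F4.pair, gprod, List.map_cons, List.map_nil, List.prod_cons, List.prod_nil, mul_one,
    theta_sig hK] at h
  exact h

theorem G8_eq (s u : K) : G8 σ s u = Twist.F4.quad m 27 25 28 30 (σ s) u := by
  have e1 : (σ s) ^ (2 * 2 ^ m + 1) = s ^ 2 * σ s := by rw [pow_succ, ← sig_apply, hσ hK]
  simp only [G8, Twist.F4.quad, gprod, List.map_cons, List.map_nil, List.prod_cons, List.prod_nil, mul_one,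
    theta_sig hK, e1, ← sig_apply]

theorem G8_fix (s u : K) : G8 σ s u ∈ (SS).fix := by
  rw [G8_eq hK]
  exact Twist.F4.quad_fix hK Twist.F4.quadPos _ _

omit hK

omit [Finite K] in
theorem eta_one {i s : ℕ} (hi : i < 4) (hs : s < 48) :
    ((Data.F4.tbl.eta i s : ℤ) : K) = 1 := by
  rcases eta_sq Data.F4.valid (show i < Data.F4.tbl.rank from hi) (lt48 hs) with e | e <;>
    simp [e, CharTwo.neg_eq]

omit [Finite K] in
theorem nn_simple (i : ℕ) (hi : i < 4) {s : ℕ} (hs : s < 48) (t : K) :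
    nn (Data.F4.tbl.simple i) 1 * xx s t =
      xx (Data.F4.tbl.refl i s) t * nn (Data.F4.tbl.simple i) 1 := by
  rw [nU_simple_xU Data.F4.valid (show i < Data.F4.tbl.rank from hi) (lt48 hs), eta_one hi hs, one_mul]

/-- The representative of a word in the simple reflections. -/
noncomputable def nwl (l : List ℕ) : GL Data.F4.tbl.I K :=
  (l.map fun i => nn (Data.F4.tbl.simple i) 1).prod

omit [CharP K 2] [Finite K] in
theorem refl48 : ∀ i < 4, ∀ s < 48, Data.F4.tbl.refl i s < 48 := by decide +kernel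

omit [Finite K] in
theorem nwl_x : ∀ (l : List ℕ), (∀ i ∈ l, i < 4) → ∀ {s : ℕ}, s < 48 → ∀ t : K,
    nwl l * xx s t = xx (Data.F4.tbl.actWord l s) t * nwl l ∧ Data.F4.tbl.actWord l s < 48 := by
  intro l
  induction l with
  | nil => intro _ s hs t; simp [nwl, Tbl.actWord, hs]
  | cons i l ih =>
    intro hl s hs t
    obtain ⟨e, hb⟩ := ih (fun j hj => hl j (List.mem_cons_of_mem _ hj)) hs t
    have hi := hl i List.mem_cons_self
    refine ⟨?_, refl48 i hi _ hb⟩
    rw [show (nwl (i :: l) : GL Data.F4.tbl.I K) = nn (Data.F4.tbl.simple i) 1 * nwl l from rfl,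
      mul_assoc, e, ← mul_assoc, nn_simple i hi hb, mul_assoc]
    rfl

omit [CharP K 2] [Finite K] in
theorem simple48 : ∀ i < 4, Data.F4.tbl.simple i < 48 := by decide +kernel

omit [CharP K 2] [Finite K] in
theorem graph_facts : ∀ i < 4, Data.F4.graph.ρ (Data.F4.tbl.simple i) = Data.F4.tbl.simple (3 - i) ∧
    (Data.F4.graph.ε (Data.F4.tbl.simple i) = 1 ∨ Data.F4.graph.ε (Data.F4.tbl.simple i) = -1) := by
  decide +kernel

theorem nwl_group (l : List ℕ) (hl : ∀ i ∈ l, i < 4) :
    nwl (K := K) l ∈ Data.F4.tbl.datum.group K :=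
  list_prod_mem fun x hx => by
    obtain ⟨i, hi, rfl⟩ := List.mem_map.mp hx
    exact nU_mem_group Data.F4.valid (lt48 (simple48 i (hl i hi))) _

include hK in
theorem sg_nwl : ∀ (l : List ℕ), (∀ i ∈ l, i < 4) →
    (SS).sg (nwl l) = nwl (l.map fun i => 3 - i) := by
  intro l
  induction l with
  | nil => intro _; simp [nwl, Tbl.Twist.sg_one]
  | cons i l ih =>
    intro hl
    have hi := hl i List.mem_cons_self
    have hl' : ∀ j ∈ l, j < 4 := fun j hj => hl j (List.mem_cons_of_mem _ hj)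
    rw [show (nwl (i :: l) : GL Data.F4.tbl.I K) = nn (Data.F4.tbl.simple i) 1 * nwl l from rfl,
      (SS).sg_mul (nU_mem_group Data.F4.valid (lt48 (simple48 i hi)) _) (nwl_group l hl'), ih hl',
      List.map_cons, show (nwl ((3 - i) :: l.map fun i => 3 - i) : GL Data.F4.tbl.I K) =
        nn (Data.F4.tbl.simple (3 - i)) 1 * nwl (l.map fun i => 3 - i) from rfl]
    congr 1
    refine ((SS).sg_nU ⟨_, lt48 (simple48 i hi)⟩ 1).trans ?_
    show nn (Data.F4.graph.ρ (Data.F4.tbl.simple i))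
      ((Data.F4.graph.ε (Data.F4.tbl.simple i) : K) * (Twist.F4.theta hK 1) ^ _) = _
    obtain ⟨e1, e2⟩ := graph_facts i hi
    rw [e1, map_one, one_pow, mul_one]
    rcases e2 with e | e <;> simp [e, CharTwo.neg_eq]

include hK in
theorem nwl_mem_N (l : List ℕ) (hl : ∀ i ∈ l, i < 4) :
    nwl (K := K) l ∈ Data.F4.tbl.datum.monomialSubgroup K :=
  list_prod_mem fun x hx => by
    obtain ⟨i, hi, rfl⟩ := List.mem_map.mp hx
    exact (SS).nU_mem_N ⟨_, lt48 (simple48 i (hl i hi))⟩ one_ne_zero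

include hK in
theorem nwl_eq {l l' : List ℕ} (hl : ∀ i ∈ l, i < 4) (hl' : ∀ i ∈ l', i < 4)
    (h : ∀ s < 48, Data.F4.tbl.actWord l s = Data.F4.tbl.actWord l' s) :
    nwl (K := K) l = nwl l' := by
  have hT := Data.F4.valid
  have hn : Data.F4.tbl.n = 48 := by decide +kernel
  set z : GL Data.F4.tbl.I K := (nwl l)⁻¹ * nwl l' with hz
  have hcomm : ∀ s < 48, z * xx s 1 = xx s 1 * z := by
    intro s hs
    rw [hz, mul_assoc, (nwl_x l' hl' hs 1).1, ← h s hs, ← mul_assoc, ← mul_assoc]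
    congr 1
    rw [inv_mul_eq_iff_eq_mul, ← mul_assoc, (nwl_x l hl hs 1).1, mul_inv_cancel_right]
  have hzN : z ∈ Data.F4.tbl.datum.monomialSubgroup K :=
    mul_mem (inv_mem (nwl_mem_N hK l hl)) (nwl_mem_N hK l' hl')
  obtain ⟨v, -, hv⟩ := exists_mono hT hzN
  have hv1 : v = 1 := by
    refine Equiv.ext fun r => ?_
    obtain ⟨c, hc⟩ := hv.conj r
    have e := (hc 1).1
    rw [hcomm r (lt_of_lt_of_eq r.2 hn)] at e
    exact (xU_root_eq hT Data.F4.chkComm one_ne_zero (mul_right_cancel e)).symm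
  subst hv1
  obtain ⟨χ, hχ, hzχ⟩ := diag_exists_char hT (mem_diag_of_mono_one hT hzN hv)
  have key : ∀ s < Data.F4.tbl.n, χ s = (1 : ℕ → Kˣ) s := by
    intro s hs
    have e := dU_gprod hT hχ (l := [(s, (1 : K))]) (by simpa using hs)
    simp only [gprod, List.map_cons, List.map_nil, List.prod_cons, List.prod_nil, mul_one] at e
    rw [← hzχ, hcomm s (lt_of_lt_of_eq hs hn)] at e
    exact Units.ext (xU_inj hT hs (mul_right_cancel e)).symm
  have : z = 1 := by rw [hzχ, dU_congr key, dU_one]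
  rwa [hz, inv_mul_eq_one] at this

/-- The reflection at the end of the pair. -/
noncomputable def w1 : GL Data.F4.tbl.I K := nwl [0, 3]

/-- The reflection at the end of the quad. -/
noncomputable def w8 : GL Data.F4.tbl.I K := nwl [1, 2, 1, 2]

include hK in
theorem w1_fix : w1 (K := K) ∈ (SS).fix :=
  ⟨nwl_group _ (by decide), by
    rw [w1, sg_nwl hK _ (by decide)]
    exact nwl_eq hK (by decide) (by decide) (by decide +kernel)⟩

include hK in
theorem w8_fix : w8 (K := K) ∈ (SS).fix :=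
  ⟨nwl_group _ (by decide), by
    rw [w8, sg_nwl hK _ (by decide)]
    exact nwl_eq hK (by decide) (by decide) (by decide +kernel)⟩

omit [CharP K 2] [Finite K] in
theorem w1_tab : ∀ p ∈ [(26, 25), (34, 27), (36, 28), (42, 30), (25, 26), (27, 34), (28, 36), (30, 42),
    (43, 32), (38, 37), (32, 43), (37, 38), (41, 31), (29, 35), (44, 40), (47, 46), (31, 41), (35, 29),
    (40, 44), (46, 47), (45, 45), (39, 39)],
    p.1 < 48 ∧ Data.F4.tbl.actWord [0, 3] p.1 = p.2 := by decide +kernel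

omit [CharP K 2] [Finite K] in
theorem w8_tab : ∀ p ∈ [(24, 32), (33, 37), (32, 24), (37, 33), (26, 31), (34, 35), (36, 40), (42, 46),
    (31, 26), (35, 34), (40, 36), (46, 42), (43, 45), (38, 39), (45, 43), (39, 38), (41, 41), (29, 29),
    (44, 44), (47, 47)],
    p.1 < 48 ∧ Data.F4.tbl.actWord [1, 2, 1, 2] p.1 = p.2 := by decide +kernel

omit [Finite K] in
theorem w1_x {s s' : ℕ} (h : (s, s') ∈ [(26, 25), (34, 27), (36, 28), (42, 30), (25, 26), (27, 34),
    (28, 36), (30, 42), (43, 32), (38, 37), (32, 43), (37, 38), (41, 31), (29, 35), (44, 40), (47, 46),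
    (31, 41), (35, 29), (40, 44), (46, 47), (45, 45), (39, 39)]) (t : K) (z : GL Data.F4.tbl.I K) :
    w1 * (xx s t * z) = xx s' t * (w1 * z) := by
  obtain ⟨hs, e⟩ := w1_tab _ h
  rw [← mul_assoc, w1, (nwl_x _ (by decide) hs t).1, e, mul_assoc]

omit [Finite K] in
theorem w8_x {s s' : ℕ} (h : (s, s') ∈ [(24, 32), (33, 37), (32, 24), (37, 33), (26, 31), (34, 35),
    (36, 40), (42, 46), (31, 26), (35, 34), (40, 36), (46, 42), (43, 45), (38, 39), (45, 43), (39, 38),
    (41, 41), (29, 29), (44, 44), (47, 47)]) (t : K) (z : GL Data.F4.tbl.I K) :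
    w8 * (xx s t * z) = xx s' t * (w8 * z) := by
  obtain ⟨hs, e⟩ := w8_tab _ h
  rw [← mul_assoc, w8, (nwl_x _ (by decide) hs t).1, e, mul_assoc]

end CfsgLib.F4Inv
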