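import Cfsg.Agent.Lib.KnownB.F4Inv.Rules

/-!
The eight root groups of ²F₄ and the commutation rules between them.
-/

set_option autoImplicit false
set_option maxRecDepth 20000
set_option maxHeartbeats 1000000
set_option linter.all false
set_option Elab.async false

namespace CfsgLib.F4Inv

open CfsgLib.Chevalley CfsgLib.Chevalley.Tbl

variable {K : Type*} [Field K] [CharP K 2]

local notation "xx" => Data.F4.tbl.xU K

omit [CharP K 2] in
theorem lt48 {r : ℕ} (h : r < 48) : r < Data.F4.tbl.n := by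
  rwa [show Data.F4.tbl.n = 48 by decide +kernel]

omit [CharP K 2] in
theorem x_add {r : ℕ} (h : r < 48) (u v : K) : xx r u * xx r v = xx r (u + v) :=
  xU_add Data.F4.valid (lt48 h) u v

omit [CharP K 2] in
theorem x_add' {r : ℕ} (h : r < 48) (u v : K) (z : GL Data.F4.tbl.I K) :
    xx r u * (xx r v * z) = xx r (u + v) * z := by rw [← mul_assoc, x_add h]

omit [CharP K 2] in
theorem x_zero {r : ℕ} (h : r < 48) : xx r (0 : K) = 1 := xU_zero Data.F4.valid (lt48 h)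

omit [CharP K 2] in
theorem x_congr {r : ℕ} {a b : K} {z w : GL Data.F4.tbl.I K} (h : a = b) (hz : z = w) :
    xx r a * z = xx r b * w := by rw [h, hz]

/-- Root group 1. -/
noncomputable def G1 (σ : K ≃+* K) (s : K) : GL Data.F4.tbl.I K :=
  xx 24 (σ s) * (xx 33 s)

/-- Root group 2. -/
noncomputable def G2 (σ : K ≃+* K) (s u : K) : GL Data.F4.tbl.I K :=
  xx 26 (σ s) * (xx 34 s * (xx 36 u * (xx 42 (s ^ 2 * σ s + σ u))))

/-- Root group 3. -/
noncomputable def G3 (σ : K ≃+* K) (s : K) : GL Data.F4.tbl.I K :=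
  xx 43 (σ s) * (xx 38 s)

/-- Root group 4. -/
noncomputable def G4 (σ : K ≃+* K) (s u : K) : GL Data.F4.tbl.I K :=
  xx 41 (σ s) * (xx 29 s * (xx 44 u * (xx 47 (s ^ 2 * σ s + σ u))))

/-- Root group 5. -/
noncomputable def G5 (σ : K ≃+* K) (s : K) : GL Data.F4.tbl.I K :=
  xx 45 (σ s) * (xx 39 s)

/-- Root group 6. -/
noncomputable def G6 (σ : K ≃+* K) (s u : K) : GL Data.F4.tbl.I K :=
  xx 31 (σ s) * (xx 35 s * (xx 40 u * (xx 46 (s ^ 2 * σ s + σ u))))

/-- Root group 7. -/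
noncomputable def G7 (σ : K ≃+* K) (s : K) : GL Data.F4.tbl.I K :=
  xx 32 (σ s) * (xx 37 s)

/-- Root group 8. -/
noncomputable def G8 (σ : K ≃+* K) (s u : K) : GL Data.F4.tbl.I K :=
  xx 25 (σ s) * (xx 27 s * (xx 28 u * (xx 30 (s ^ 2 * σ s + σ u))))

theorem mul1 {σ : K ≃+* K} (hσ : ∀ x, σ (σ x) = x ^ 2) (s t : K) :
    G1 σ s * G1 σ t = G1 σ (s + t) := by
  simp only [G1, Nat.reduceLT, x_add, x_add', x_zero, map_zero, mul_one, one_mul, mul_assoc, sw_33_24, sw_33_24']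
  try simp only [map_add, map_mul, map_pow, hσ, map_zero, map_one, pow_one, pow_zero, mul_one, one_mul]
  repeat' apply x_congr
  all_goals try refine congrArg _ ?_
  all_goals first | rfl | ring1 | grind [CharTwo.two_eq_zero]

theorem mul2 {σ : K ≃+* K} (hσ : ∀ x, σ (σ x) = x ^ 2) (s u t v : K) :
    G2 σ s u * G2 σ t v = G2 σ (s + t) (s * σ t + u + v) := by
  simp only [G2, Nat.reduceLT, x_add, x_add', x_zero, map_zero, mul_one, one_mul, mul_assoc, sw_34_26, sw_34_26', sw_36_26, sw_36_26', sw_42_26, sw_42_26', sw_36_34, sw_36_34', sw_42_34, sw_42_34', sw_42_36, sw_42_36']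
  try simp only [map_add, map_mul, map_pow, hσ, map_zero, map_one, pow_one, pow_zero, mul_one, one_mul]
  repeat' apply x_congr
  all_goals try refine congrArg _ ?_
  all_goals first | rfl | ring1 | grind [CharTwo.two_eq_zero]

theorem mul3 {σ : K ≃+* K} (hσ : ∀ x, σ (σ x) = x ^ 2) (s t : K) :
    G3 σ s * G3 σ t = G3 σ (s + t) := by
  simp only [G3, Nat.reduceLT, x_add, x_add', x_zero, map_zero, mul_one, one_mul, mul_assoc, sw_38_43, sw_38_43']
  try simp only [map_add, map_mul, map_pow, hσ, map_zero, map_one, pow_one, pow_zero, mul_one, one_mul]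
  repeat' apply x_congr
  all_goals try refine congrArg _ ?_
  all_goals first | rfl | ring1 | grind [CharTwo.two_eq_zero]

theorem mul4 {σ : K ≃+* K} (hσ : ∀ x, σ (σ x) = x ^ 2) (s u t v : K) :
    G4 σ s u * G4 σ t v = G4 σ (s + t) (s * σ t + u + v) := by
  simp only [G4, Nat.reduceLT, x_add, x_add', x_zero, map_zero, mul_one, one_mul, mul_assoc, sw_29_41, sw_29_41', sw_44_41, sw_44_41', sw_47_41, sw_47_41', sw_44_29, sw_44_29', sw_47_29, sw_47_29', sw_47_44, sw_47_44']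
  try simp only [map_add, map_mul, map_pow, hσ, map_zero, map_one, pow_one, pow_zero, mul_one, one_mul]
  repeat' apply x_congr
  all_goals try refine congrArg _ ?_
  all_goals first | rfl | ring1 | grind [CharTwo.two_eq_zero]

theorem mul5 {σ : K ≃+* K} (hσ : ∀ x, σ (σ x) = x ^ 2) (s t : K) :
    G5 σ s * G5 σ t = G5 σ (s + t) := by
  simp only [G5, Nat.reduceLT, x_add, x_add', x_zero, map_zero, mul_one, one_mul, mul_assoc, sw_39_45, sw_39_45']
  try simp only [map_add, map_mul, map_pow, hσ, map_zero, map_one, pow_one, pow_zero, mul_one, one_mul]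
  repeat' apply x_congr
  all_goals try refine congrArg _ ?_
  all_goals first | rfl | ring1 | grind [CharTwo.two_eq_zero]

theorem mul6 {σ : K ≃+* K} (hσ : ∀ x, σ (σ x) = x ^ 2) (s u t v : K) :
    G6 σ s u * G6 σ t v = G6 σ (s + t) (s * σ t + u + v) := by
  simp only [G6, Nat.reduceLT, x_add, x_add', x_zero, map_zero, mul_one, one_mul, mul_assoc, sw_35_31, sw_35_31', sw_40_31, sw_40_31', sw_46_31, sw_46_31', sw_40_35, sw_40_35', sw_46_35, sw_46_35', sw_46_40, sw_46_40']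
  try simp only [map_add, map_mul, map_pow, hσ, map_zero, map_one, pow_one, pow_zero, mul_one, one_mul]
  repeat' apply x_congr
  all_goals try refine congrArg _ ?_
  all_goals first | rfl | ring1 | grind [CharTwo.two_eq_zero]

theorem mul7 {σ : K ≃+* K} (hσ : ∀ x, σ (σ x) = x ^ 2) (s t : K) :
    G7 σ s * G7 σ t = G7 σ (s + t) := by
  simp only [G7, Nat.reduceLT, x_add, x_add', x_zero, map_zero, mul_one, one_mul, mul_assoc, sw_37_32, sw_37_32']
  try simp only [map_add, map_mul, map_pow, hσ, map_zero, map_one, pow_one, pow_zero, mul_one, one_mul]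
  repeat' apply x_congr
  all_goals try refine congrArg _ ?_
  all_goals first | rfl | ring1 | grind [CharTwo.two_eq_zero]

theorem mul8 {σ : K ≃+* K} (hσ : ∀ x, σ (σ x) = x ^ 2) (s u t v : K) :
    G8 σ s u * G8 σ t v = G8 σ (s + t) (s * σ t + u + v) := by
  simp only [G8, Nat.reduceLT, x_add, x_add', x_zero, map_zero, mul_one, one_mul, mul_assoc, sw_27_25, sw_27_25', sw_28_25, sw_28_25', sw_30_25, sw_30_25', sw_28_27, sw_28_27', sw_30_27, sw_30_27', sw_30_28, sw_30_28']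
  try simp only [map_add, map_mul, map_pow, hσ, map_zero, map_one, pow_one, pow_zero, mul_one, one_mul]
  repeat' apply x_congr
  all_goals try refine congrArg _ ?_
  all_goals first | rfl | ring1 | grind [CharTwo.two_eq_zero]

theorem c12 {σ : K ≃+* K} (hσ : ∀ x, σ (σ x) = x ^ 2) (a x y : K) :
    G2 σ x y * G1 σ a = G1 σ a * (G2 σ x y) := by
  simp only [G1, G2, Nat.reduceLT, x_add, x_add', x_zero, map_zero, mul_one, one_mul, mul_assoc, sw_33_24, sw_33_24', sw_26_24, sw_26_24', sw_34_24, sw_34_24', sw_36_24, sw_36_24', sw_42_24, sw_42_24', sw_26_33, sw_26_33', sw_34_33, sw_34_33', sw_36_33, sw_36_33', sw_42_33, sw_42_33', sw_34_26, sw_34_26', sw_36_26, sw_36_26', sw_42_26, sw_42_26', sw_36_34, sw_36_34', sw_42_34, sw_42_34', sw_42_36, sw_42_36']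
  try simp only [map_add, map_mul, map_pow, hσ, map_zero, map_one, pow_one, pow_zero, mul_one, one_mul]
  repeat' apply x_congr
  all_goals try refine congrArg _ ?_
  all_goals first | rfl | ring1 | grind [CharTwo.two_eq_zero]

theorem c13 {σ : K ≃+* K} (hσ : ∀ x, σ (σ x) = x ^ 2) (a x : K) :
    G3 σ x * G1 σ a = G1 σ a * (G3 σ x) := by
  simp only [G1, G3, Nat.reduceLT, x_add, x_add', x_zero, map_zero, mul_one, one_mul, mul_assoc, sw_33_24, sw_33_24', sw_26_24, sw_26_24', sw_34_24, sw_34_24', sw_36_24, sw_36_24', sw_42_24, sw_42_24', sw_43_24, sw_43_24', sw_38_24, sw_38_24', sw_26_33, sw_26_33', sw_34_33, sw_34_33', sw_36_33, sw_36_33', sw_42_33, sw_42_33', sw_43_33, sw_43_33', sw_38_33, sw_38_33', sw_34_26, sw_34_26', sw_36_26, sw_36_26', sw_42_26, sw_42_26', sw_43_26, sw_43_26', sw_38_26, sw_38_26', sw_36_34, sw_36_34', sw_42_34, sw_42_34', sw_43_34, sw_43_34', sw_38_34, sw_38_34', sw_42_36, sw_42_36', sw_43_36,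 sw_43_36', sw_38_36, sw_38_36', sw_43_42, sw_43_42', sw_38_42, sw_38_42', sw_38_43, sw_38_43']
  try simp only [map_add, map_mul, map_pow, hσ, map_zero, map_one, pow_one, pow_zero, mul_one, one_mul]
  repeat' apply x_congr
  all_goals try refine congrArg _ ?_
  all_goals first | rfl | ring1 | grind [CharTwo.two_eq_zero]

theorem c14 {σ : K ≃+* K} (hσ : ∀ x, σ (σ x) = x ^ 2) (a x y : K) :
    G4 σ x y * G1 σ a = G1 σ a * (G2 σ 0 (a * x) * (G4 σ x y)) := by
  simp only [G1, G2, G4, Nat.reduceLT, x_add, x_add', x_zero, map_zero, mul_one, one_mul, mul_assoc, sw_33_24, sw_33_24', sw_26_24, sw_26_24', sw_34_24, sw_34_24', sw_36_24, sw_36_24', sw_42_24, sw_42_24', sw_43_24, sw_43_24', sw_38_24, sw_38_24', sw_41_24, sw_41_24', sw_29_24, sw_29_24', sw_44_24, sw_44_24', sw_47_24, sw_47_24', sw_26_33, sw_26_33', sw_34_33, sw_34_33', sw_36_33, sw_36_33', sw_42_33, sw_42_33', sw_43_33, sw_43_33', sw_38_33, sw_38_33', sw_41_33,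 sw_41_33', sw_29_33, sw_29_33', sw_44_33, sw_44_33', sw_47_33, sw_47_33', sw_34_26, sw_34_26', sw_36_26, sw_36_26', sw_42_26, sw_42_26', sw_43_26, sw_43_26', sw_38_26, sw_38_26', sw_41_26, sw_41_26', sw_29_26, sw_29_26', sw_44_26, sw_44_26', sw_47_26, sw_47_26', sw_36_34, sw_36_34', sw_42_34, sw_42_34', sw_43_34, sw_43_34', sw_38_34, sw_38_34', sw_41_34, sw_41_34', sw_29_34, sw_29_34', sw_44_34, sw_44_34', sw_47_34, sw_47_34', sw_42_36, sw_42_36', sw_43_36, sw_43_36', sw_38_36, sw_38_36', sw_41_36, sw_41_36', sw_29_36, sw_29_36', sw_44_36, sw_44_36', sw_47_36, sw_47_36', sw_43_42, sw_43_42', sw_38_42, sw_38_42', sw_41_42, sw_41_42', sw_29_42, sw_29_42', sw_44_42, sw_44_42', sw_47_42, sw_47_42', sw_38_43, sw_38_43', sw_41_43, sw_41_43', sw_29_43, sw_29_43', sw_44_43, sw_44_43', sw_47_43, sw_47_43', sw_41_38, sw_41_38', sw_29_38, sw_29_38', sw_44_38, sw_44_38', sw_47_38, sw_47_38', sw_29_41, sw_29_41', sw_44_41,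 sw_44_41', sw_47_41, sw_47_41', sw_44_29, sw_44_29', sw_47_29, sw_47_29', sw_47_44, sw_47_44']
  try simp only [map_add, map_mul, map_pow, hσ, map_zero, map_one, pow_one, pow_zero, mul_one, one_mul]
  repeat' apply x_congr
  all_goals try refine congrArg _ ?_
  all_goals first | rfl | ring1 | grind [CharTwo.two_eq_zero]

theorem c15 {σ : K ≃+* K} (hσ : ∀ x, σ (σ x) = x ^ 2) (a x : K) :
    G5 σ x * G1 σ a = G1 σ a * (G5 σ x) := by
  simp only [G1, G5, Nat.reduceLT, x_add, x_add', x_zero, map_zero, mul_one, one_mul, mul_assoc, sw_33_24, sw_33_24', sw_26_24, sw_26_24', sw_34_24, sw_34_24', sw_36_24, sw_36_24', sw_42_24, sw_42_24', sw_43_24, sw_43_24', sw_38_24, sw_38_24', sw_41_24, sw_41_24', sw_29_24, sw_29_24', sw_44_24, sw_44_24', sw_47_24, sw_47_24', sw_45_24, sw_45_24', sw_39_24, sw_39_24', sw_26_33, sw_26_33', sw_34_33, sw_34_33', sw_36_33, sw_36_33', sw_42_33, sw_42_33', sw_43_33, sw_43_33', sw_38_33, sw_38_33',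 sw_41_33, sw_41_33', sw_29_33, sw_29_33', sw_44_33, sw_44_33', sw_47_33, sw_47_33', sw_45_33, sw_45_33', sw_39_33, sw_39_33', sw_34_26, sw_34_26', sw_36_26, sw_36_26', sw_42_26, sw_42_26', sw_43_26, sw_43_26', sw_38_26, sw_38_26', sw_41_26, sw_41_26', sw_29_26, sw_29_26', sw_44_26, sw_44_26', sw_47_26, sw_47_26', sw_45_26, sw_45_26', sw_39_26, sw_39_26', sw_36_34, sw_36_34', sw_42_34, sw_42_34', sw_43_34, sw_43_34', sw_38_34, sw_38_34', sw_41_34, sw_41_34', sw_29_34, sw_29_34', sw_44_34, sw_44_34', sw_47_34, sw_47_34', sw_45_34, sw_45_34', sw_39_34, sw_39_34', sw_42_36, sw_42_36', sw_43_36, sw_43_36', sw_38_36, sw_38_36', sw_41_36, sw_41_36', sw_29_36, sw_29_36', sw_44_36, sw_44_36', sw_47_36, sw_47_36', sw_45_36, sw_45_36', sw_39_36, sw_39_36', sw_43_42, sw_43_42', sw_38_42, sw_38_42', sw_41_42, sw_41_42', sw_29_42, sw_29_42', sw_44_42, sw_44_42', sw_47_42, sw_47_42', sw_45_42, sw_45_42', sw_39_42, sw_39_42',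 sw_38_43, sw_38_43', sw_41_43, sw_41_43', sw_29_43, sw_29_43', sw_44_43, sw_44_43', sw_47_43, sw_47_43', sw_45_43, sw_45_43', sw_39_43, sw_39_43', sw_41_38, sw_41_38', sw_29_38, sw_29_38', sw_44_38, sw_44_38', sw_47_38, sw_47_38', sw_45_38, sw_45_38', sw_39_38, sw_39_38', sw_29_41, sw_29_41', sw_44_41, sw_44_41', sw_47_41, sw_47_41', sw_45_41, sw_45_41', sw_39_41, sw_39_41', sw_44_29, sw_44_29', sw_47_29, sw_47_29', sw_45_29, sw_45_29', sw_39_29, sw_39_29', sw_47_44, sw_47_44', sw_45_44, sw_45_44', sw_39_44, sw_39_44', sw_45_47, sw_45_47', sw_39_47, sw_39_47', sw_39_45, sw_39_45']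
  try simp only [map_add, map_mul, map_pow, hσ, map_zero, map_one, pow_one, pow_zero, mul_one, one_mul]
  repeat' apply x_congr
  all_goals try refine congrArg _ ?_
  all_goals first | rfl | ring1 | grind [CharTwo.two_eq_zero]

theorem c16 {σ : K ≃+* K} (hσ : ∀ x, σ (σ x) = x ^ 2) (a x y : K) :
    G6 σ x y * G1 σ a = G1 σ a * (G2 σ 0 (σ a * x) * (G3 σ (a * σ x) * (G4 σ 0 (a * y) * (G6 σ x y)))) := by
  simp only [G1, G2, G3, G4, G6, Nat.reduceLT, x_add, x_add', x_zero, map_zero, mul_one, one_mul, mul_assoc, sw_33_24, sw_33_24', sw_26_24, sw_26_24', sw_34_24, sw_34_24', sw_36_24, sw_36_24', sw_42_24, sw_42_24', sw_43_24, sw_43_24', sw_38_24, sw_38_24', sw_41_24, sw_41_24', sw_29_24, sw_29_24', sw_44_24, sw_44_24', sw_47_24, sw_47_24', sw_45_24, sw_45_24', sw_39_24, sw_39_24', sw_31_24, sw_31_24', sw_35_24, sw_35_24', sw_40_24, sw_40_24', sw_46_24, sw_46_24', sw_26_33, sw_26_33', sw_34_33, sw_34_33', sw_36_33, sw_36_33',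 sw_42_33, sw_42_33', sw_43_33, sw_43_33', sw_38_33, sw_38_33', sw_41_33, sw_41_33', sw_29_33, sw_29_33', sw_44_33, sw_44_33', sw_47_33, sw_47_33', sw_45_33, sw_45_33', sw_39_33, sw_39_33', sw_31_33, sw_31_33', sw_35_33, sw_35_33', sw_40_33, sw_40_33', sw_46_33, sw_46_33', sw_34_26, sw_34_26', sw_36_26, sw_36_26', sw_42_26, sw_42_26', sw_43_26, sw_43_26', sw_38_26, sw_38_26', sw_41_26, sw_41_26', sw_29_26, sw_29_26', sw_44_26, sw_44_26', sw_47_26, sw_47_26', sw_45_26, sw_45_26', sw_39_26, sw_39_26', sw_31_26, sw_31_26', sw_35_26, sw_35_26', sw_40_26, sw_40_26', sw_46_26, sw_46_26', sw_36_34, sw_36_34', sw_42_34, sw_42_34', sw_43_34, sw_43_34', sw_38_34, sw_38_34', sw_41_34, sw_41_34', sw_29_34, sw_29_34', sw_44_34, sw_44_34', sw_47_34, sw_47_34', sw_45_34, sw_45_34', sw_39_34, sw_39_34', sw_31_34, sw_31_34', sw_35_34, sw_35_34', sw_40_34, sw_40_34', sw_46_34, sw_46_34', sw_42_36, sw_42_36', sw_43_36, sw_43_36',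 sw_38_36, sw_38_36', sw_41_36, sw_41_36', sw_29_36, sw_29_36', sw_44_36, sw_44_36', sw_47_36, sw_47_36', sw_45_36, sw_45_36', sw_39_36, sw_39_36', sw_31_36, sw_31_36', sw_35_36, sw_35_36', sw_40_36, sw_40_36', sw_46_36, sw_46_36', sw_43_42, sw_43_42', sw_38_42, sw_38_42', sw_41_42, sw_41_42', sw_29_42, sw_29_42', sw_44_42, sw_44_42', sw_47_42, sw_47_42', sw_45_42, sw_45_42', sw_39_42, sw_39_42', sw_31_42, sw_31_42', sw_35_42, sw_35_42', sw_40_42, sw_40_42', sw_46_42, sw_46_42', sw_38_43, sw_38_43', sw_41_43, sw_41_43', sw_29_43, sw_29_43', sw_44_43, sw_44_43', sw_47_43, sw_47_43', sw_45_43, sw_45_43', sw_39_43, sw_39_43', sw_31_43, sw_31_43', sw_35_43, sw_35_43', sw_40_43, sw_40_43', sw_46_43, sw_46_43', sw_41_38, sw_41_38', sw_29_38, sw_29_38', sw_44_38, sw_44_38', sw_47_38, sw_47_38', sw_45_38, sw_45_38', sw_39_38, sw_39_38', sw_31_38, sw_31_38', sw_35_38, sw_35_38', sw_40_38, sw_40_38', sw_46_38, sw_46_38',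 sw_29_41, sw_29_41', sw_44_41, sw_44_41', sw_47_41, sw_47_41', sw_45_41, sw_45_41', sw_39_41, sw_39_41', sw_31_41, sw_31_41', sw_35_41, sw_35_41', sw_40_41, sw_40_41', sw_46_41, sw_46_41', sw_44_29, sw_44_29', sw_47_29, sw_47_29', sw_45_29, sw_45_29', sw_39_29, sw_39_29', sw_31_29, sw_31_29', sw_35_29, sw_35_29', sw_40_29, sw_40_29', sw_46_29, sw_46_29', sw_47_44, sw_47_44', sw_45_44, sw_45_44', sw_39_44, sw_39_44', sw_31_44, sw_31_44', sw_35_44, sw_35_44', sw_40_44, sw_40_44', sw_46_44, sw_46_44', sw_45_47, sw_45_47', sw_39_47, sw_39_47', sw_31_47, sw_31_47', sw_35_47, sw_35_47', sw_40_47, sw_40_47', sw_46_47, sw_46_47', sw_39_45, sw_39_45', sw_31_45, sw_31_45', sw_35_45, sw_35_45', sw_40_45, sw_40_45', sw_46_45, sw_46_45', sw_31_39, sw_31_39', sw_35_39, sw_35_39', sw_40_39, sw_40_39', sw_46_39, sw_46_39', sw_35_31, sw_35_31', sw_40_31, sw_40_31', sw_46_31, sw_46_31', sw_40_35, sw_40_35', sw_46_35, sw_46_35',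 sw_46_40, sw_46_40']
  try simp only [map_add, map_mul, map_pow, hσ, map_zero, map_one, pow_one, pow_zero, mul_one, one_mul]
  repeat' apply x_congr
  all_goals try refine congrArg _ ?_
  all_goals first | rfl | ring1 | grind [CharTwo.two_eq_zero]

theorem c17 {σ : K ≃+* K} (hσ : ∀ x, σ (σ x) = x ^ 2) (a x : K) :
    G7 σ x * G1 σ a = G1 σ a * (G3 σ (σ a * x) * (G5 σ (a * σ x) * (G7 σ x))) := by
  simp only [G1, G3, G5, G7, Nat.reduceLT, x_add, x_add', x_zero, map_zero, mul_one, one_mul, mul_assoc, sw_33_24, sw_33_24', sw_26_24, sw_26_24', sw_34_24, sw_34_24', sw_36_24, sw_36_24', sw_42_24, sw_42_24', sw_43_24, sw_43_24', sw_38_24, sw_38_24', sw_41_24, sw_41_24', sw_29_24, sw_29_24', sw_44_24, sw_44_24', sw_47_24, sw_47_24', sw_45_24, sw_45_24', sw_39_24, sw_39_24', sw_31_24, sw_31_24', sw_35_24, sw_35_24', sw_40_24, sw_40_24', sw_46_24, sw_46_24', sw_32_24, sw_32_24', sw_37_24, sw_37_24', sw_26_33, sw_26_33',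 sw_34_33, sw_34_33', sw_36_33, sw_36_33', sw_42_33, sw_42_33', sw_43_33, sw_43_33', sw_38_33, sw_38_33', sw_41_33, sw_41_33', sw_29_33, sw_29_33', sw_44_33, sw_44_33', sw_47_33, sw_47_33', sw_45_33, sw_45_33', sw_39_33, sw_39_33', sw_31_33, sw_31_33', sw_35_33, sw_35_33', sw_40_33, sw_40_33', sw_46_33, sw_46_33', sw_32_33, sw_32_33', sw_37_33, sw_37_33', sw_34_26, sw_34_26', sw_36_26, sw_36_26', sw_42_26, sw_42_26', sw_43_26, sw_43_26', sw_38_26, sw_38_26', sw_41_26, sw_41_26', sw_29_26, sw_29_26', sw_44_26, sw_44_26', sw_47_26, sw_47_26', sw_45_26, sw_45_26', sw_39_26, sw_39_26', sw_31_26, sw_31_26', sw_35_26, sw_35_26', sw_40_26, sw_40_26', sw_46_26, sw_46_26', sw_32_26, sw_32_26', sw_37_26, sw_37_26', sw_36_34, sw_36_34', sw_42_34, sw_42_34', sw_43_34, sw_43_34', sw_38_34, sw_38_34', sw_41_34, sw_41_34', sw_29_34, sw_29_34', sw_44_34, sw_44_34', sw_47_34, sw_47_34', sw_45_34, sw_45_34', sw_39_34, sw_39_34',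 sw_31_34, sw_31_34', sw_35_34, sw_35_34', sw_40_34, sw_40_34', sw_46_34, sw_46_34', sw_32_34, sw_32_34', sw_37_34, sw_37_34', sw_42_36, sw_42_36', sw_43_36, sw_43_36', sw_38_36, sw_38_36', sw_41_36, sw_41_36', sw_29_36, sw_29_36', sw_44_36, sw_44_36', sw_47_36, sw_47_36', sw_45_36, sw_45_36', sw_39_36, sw_39_36', sw_31_36, sw_31_36', sw_35_36, sw_35_36', sw_40_36, sw_40_36', sw_46_36, sw_46_36', sw_32_36, sw_32_36', sw_37_36, sw_37_36', sw_43_42, sw_43_42', sw_38_42, sw_38_42', sw_41_42, sw_41_42', sw_29_42, sw_29_42', sw_44_42, sw_44_42', sw_47_42, sw_47_42', sw_45_42, sw_45_42', sw_39_42, sw_39_42', sw_31_42, sw_31_42', sw_35_42, sw_35_42', sw_40_42, sw_40_42', sw_46_42, sw_46_42', sw_32_42, sw_32_42', sw_37_42, sw_37_42', sw_38_43, sw_38_43', sw_41_43, sw_41_43', sw_29_43, sw_29_43', sw_44_43, sw_44_43', sw_47_43, sw_47_43', sw_45_43, sw_45_43', sw_39_43, sw_39_43', sw_31_43, sw_31_43', sw_35_43, sw_35_43',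 sw_40_43, sw_40_43', sw_46_43, sw_46_43', sw_32_43, sw_32_43', sw_37_43, sw_37_43', sw_41_38, sw_41_38', sw_29_38, sw_29_38', sw_44_38, sw_44_38', sw_47_38, sw_47_38', sw_45_38, sw_45_38', sw_39_38, sw_39_38', sw_31_38, sw_31_38', sw_35_38, sw_35_38', sw_40_38, sw_40_38', sw_46_38, sw_46_38', sw_32_38, sw_32_38', sw_37_38, sw_37_38', sw_29_41, sw_29_41', sw_44_41, sw_44_41', sw_47_41, sw_47_41', sw_45_41, sw_45_41', sw_39_41, sw_39_41', sw_31_41, sw_31_41', sw_35_41, sw_35_41', sw_40_41, sw_40_41', sw_46_41, sw_46_41', sw_32_41, sw_32_41', sw_37_41, sw_37_41', sw_44_29, sw_44_29', sw_47_29, sw_47_29', sw_45_29, sw_45_29', sw_39_29, sw_39_29', sw_31_29, sw_31_29', sw_35_29, sw_35_29', sw_40_29, sw_40_29', sw_46_29, sw_46_29', sw_32_29, sw_32_29', sw_37_29, sw_37_29', sw_47_44, sw_47_44', sw_45_44, sw_45_44', sw_39_44, sw_39_44', sw_31_44, sw_31_44', sw_35_44, sw_35_44', sw_40_44, sw_40_44', sw_46_44, sw_46_44',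 sw_32_44, sw_32_44', sw_37_44, sw_37_44', sw_45_47, sw_45_47', sw_39_47, sw_39_47', sw_31_47, sw_31_47', sw_35_47, sw_35_47', sw_40_47, sw_40_47', sw_46_47, sw_46_47', sw_32_47, sw_32_47', sw_37_47, sw_37_47', sw_39_45, sw_39_45', sw_31_45, sw_31_45', sw_35_45, sw_35_45', sw_40_45, sw_40_45', sw_46_45, sw_46_45', sw_32_45, sw_32_45', sw_37_45, sw_37_45', sw_31_39, sw_31_39', sw_35_39, sw_35_39', sw_40_39, sw_40_39', sw_46_39, sw_46_39', sw_32_39, sw_32_39', sw_37_39, sw_37_39', sw_35_31, sw_35_31', sw_40_31, sw_40_31', sw_46_31, sw_46_31', sw_32_31, sw_32_31', sw_37_31, sw_37_31', sw_40_35, sw_40_35', sw_46_35, sw_46_35', sw_32_35, sw_32_35', sw_37_35, sw_37_35', sw_46_40, sw_46_40', sw_32_40, sw_32_40', sw_37_40, sw_37_40', sw_32_46, sw_32_46', sw_37_46, sw_37_46', sw_37_32, sw_37_32']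
  try simp only [map_add, map_mul, map_pow, hσ, map_zero, map_one, pow_one, pow_zero, mul_one, one_mul]
  repeat' apply x_congr
  all_goals try refine congrArg _ ?_
  all_goals first | rfl | ring1 | grind [CharTwo.two_eq_zero]

theorem c18 {σ : K ≃+* K} (hσ : ∀ x, σ (σ x) = x ^ 2) (a x y : K) :
    G8 σ x y * G1 σ a = G1 σ a * (G2 σ (a * x) (a * σ a * y) * (G3 σ (a * σ a * x * y + a * σ a * x ^ 2 * σ x + a * σ a * σ y) * (G4 σ (σ a * y) (a ^ 2 * σ a * x * y ^ 2 + a ^ 2 * σ a * x * σ x * σ y + a ^ 2 * σ a * x ^ 3 * (σ x) ^ 2 + a ^ 2 * σ a * y * σ y) * (G5 σ (a * σ a * x ^ 2 * (σ x) ^ 2 + a * σ a * y ^ 2 + a * σ a * σ x * σ y) * (G6 σ (a * x * σ x + a * y) (a * σ a * x * y ^ 2 + a * σ a * x * σ x * σ y + a * σ a * x ^ 3 * (σ x) ^ 2) * (G7 σ (a * x * y + a * x ^ 2 * σ x + a * σ y) * (G8 σ x y))))))) := by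
  simp only [G1, G2, G3, G4, G5, G6, G7, G8, Nat.reduceLT, x_add, x_add', x_zero, map_zero, mul_one, one_mul, mul_assoc, sw_33_24, sw_33_24', sw_26_24, sw_26_24', sw_34_24, sw_34_24', sw_36_24, sw_36_24', sw_42_24, sw_42_24', sw_43_24, sw_43_24', sw_38_24, sw_38_24', sw_41_24, sw_41_24', sw_29_24, sw_29_24', sw_44_24, sw_44_24', sw_47_24, sw_47_24', sw_45_24, sw_45_24', sw_39_24, sw_39_24', sw_31_24, sw_31_24', sw_35_24, sw_35_24', sw_40_24, sw_40_24', sw_46_24, sw_46_24', sw_32_24, sw_32_24', sw_37_24, sw_37_24', sw_25_24, sw_25_24', sw_27_24, sw_27_24', sw_28_24, sw_28_24', sw_30_24, sw_30_24', sw_26_33, sw_26_33', sw_34_33, sw_34_33', sw_36_33, sw_36_33', sw_42_33, sw_42_33', sw_43_33, sw_43_33', sw_38_33, sw_38_33', sw_41_33, sw_41_33', sw_29_33, sw_29_33', sw_44_33, sw_44_33', sw_47_33, sw_47_33', sw_45_33, sw_45_33', sw_39_33, sw_39_33', sw_31_33, sw_31_33', sw_35_33, sw_35_33', sw_40_33, sw_40_33', sw_46_33,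 sw_46_33', sw_32_33, sw_32_33', sw_37_33, sw_37_33', sw_25_33, sw_25_33', sw_27_33, sw_27_33', sw_28_33, sw_28_33', sw_30_33, sw_30_33', sw_34_26, sw_34_26', sw_36_26, sw_36_26', sw_42_26, sw_42_26', sw_43_26, sw_43_26', sw_38_26, sw_38_26', sw_41_26, sw_41_26', sw_29_26, sw_29_26', sw_44_26, sw_44_26', sw_47_26, sw_47_26', sw_45_26, sw_45_26', sw_39_26, sw_39_26', sw_31_26, sw_31_26', sw_35_26, sw_35_26', sw_40_26, sw_40_26', sw_46_26, sw_46_26', sw_32_26, sw_32_26', sw_37_26, sw_37_26', sw_25_26, sw_25_26', sw_27_26, sw_27_26', sw_28_26, sw_28_26', sw_30_26, sw_30_26', sw_36_34, sw_36_34', sw_42_34, sw_42_34', sw_43_34, sw_43_34', sw_38_34, sw_38_34', sw_41_34, sw_41_34', sw_29_34, sw_29_34', sw_44_34, sw_44_34', sw_47_34, sw_47_34', sw_45_34, sw_45_34', sw_39_34, sw_39_34', sw_31_34, sw_31_34', sw_35_34, sw_35_34', sw_40_34, sw_40_34', sw_46_34, sw_46_34', sw_32_34, sw_32_34', sw_37_34, sw_37_34', sw_25_34,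 sw_25_34', sw_27_34, sw_27_34', sw_28_34, sw_28_34', sw_30_34, sw_30_34', sw_42_36, sw_42_36', sw_43_36, sw_43_36', sw_38_36, sw_38_36', sw_41_36, sw_41_36', sw_29_36, sw_29_36', sw_44_36, sw_44_36', sw_47_36, sw_47_36', sw_45_36, sw_45_36', sw_39_36, sw_39_36', sw_31_36, sw_31_36', sw_35_36, sw_35_36', sw_40_36, sw_40_36', sw_46_36, sw_46_36', sw_32_36, sw_32_36', sw_37_36, sw_37_36', sw_25_36, sw_25_36', sw_27_36, sw_27_36', sw_28_36, sw_28_36', sw_30_36, sw_30_36', sw_43_42, sw_43_42', sw_38_42, sw_38_42', sw_41_42, sw_41_42', sw_29_42, sw_29_42', sw_44_42, sw_44_42', sw_47_42, sw_47_42', sw_45_42, sw_45_42', sw_39_42, sw_39_42', sw_31_42, sw_31_42', sw_35_42, sw_35_42', sw_40_42, sw_40_42', sw_46_42, sw_46_42', sw_32_42, sw_32_42', sw_37_42, sw_37_42', sw_25_42, sw_25_42', sw_27_42, sw_27_42', sw_28_42, sw_28_42', sw_30_42, sw_30_42', sw_38_43, sw_38_43', sw_41_43, sw_41_43', sw_29_43, sw_29_43', sw_44_43,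 sw_44_43', sw_47_43, sw_47_43', sw_45_43, sw_45_43', sw_39_43, sw_39_43', sw_31_43, sw_31_43', sw_35_43, sw_35_43', sw_40_43, sw_40_43', sw_46_43, sw_46_43', sw_32_43, sw_32_43', sw_37_43, sw_37_43', sw_25_43, sw_25_43', sw_27_43, sw_27_43', sw_28_43, sw_28_43', sw_30_43, sw_30_43', sw_41_38, sw_41_38', sw_29_38, sw_29_38', sw_44_38, sw_44_38', sw_47_38, sw_47_38', sw_45_38, sw_45_38', sw_39_38, sw_39_38', sw_31_38, sw_31_38', sw_35_38, sw_35_38', sw_40_38, sw_40_38', sw_46_38, sw_46_38', sw_32_38, sw_32_38', sw_37_38, sw_37_38', sw_25_38, sw_25_38', sw_27_38, sw_27_38', sw_28_38, sw_28_38', sw_30_38, sw_30_38', sw_29_41, sw_29_41', sw_44_41, sw_44_41', sw_47_41, sw_47_41', sw_45_41, sw_45_41', sw_39_41, sw_39_41', sw_31_41, sw_31_41', sw_35_41, sw_35_41', sw_40_41, sw_40_41', sw_46_41, sw_46_41', sw_32_41, sw_32_41', sw_37_41, sw_37_41', sw_25_41, sw_25_41', sw_27_41, sw_27_41', sw_28_41, sw_28_41', sw_30_41,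 sw_30_41', sw_44_29, sw_44_29', sw_47_29, sw_47_29', sw_45_29, sw_45_29', sw_39_29, sw_39_29', sw_31_29, sw_31_29', sw_35_29, sw_35_29', sw_40_29, sw_40_29', sw_46_29, sw_46_29', sw_32_29, sw_32_29', sw_37_29, sw_37_29', sw_25_29, sw_25_29', sw_27_29, sw_27_29', sw_28_29, sw_28_29', sw_30_29, sw_30_29', sw_47_44, sw_47_44', sw_45_44, sw_45_44', sw_39_44, sw_39_44', sw_31_44, sw_31_44', sw_35_44, sw_35_44', sw_40_44, sw_40_44', sw_46_44, sw_46_44', sw_32_44, sw_32_44', sw_37_44, sw_37_44', sw_25_44, sw_25_44', sw_27_44, sw_27_44', sw_28_44, sw_28_44', sw_30_44, sw_30_44', sw_45_47, sw_45_47', sw_39_47, sw_39_47', sw_31_47, sw_31_47', sw_35_47, sw_35_47', sw_40_47, sw_40_47', sw_46_47, sw_46_47', sw_32_47, sw_32_47', sw_37_47, sw_37_47', sw_25_47, sw_25_47', sw_27_47, sw_27_47', sw_28_47, sw_28_47', sw_30_47, sw_30_47', sw_39_45, sw_39_45', sw_31_45, sw_31_45', sw_35_45, sw_35_45', sw_40_45, sw_40_45', sw_46_45,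 sw_46_45', sw_32_45, sw_32_45', sw_37_45, sw_37_45', sw_25_45, sw_25_45', sw_27_45, sw_27_45', sw_28_45, sw_28_45', sw_30_45, sw_30_45', sw_31_39, sw_31_39', sw_35_39, sw_35_39', sw_40_39, sw_40_39', sw_46_39, sw_46_39', sw_32_39, sw_32_39', sw_37_39, sw_37_39', sw_25_39, sw_25_39', sw_27_39, sw_27_39', sw_28_39, sw_28_39', sw_30_39, sw_30_39', sw_35_31, sw_35_31', sw_40_31, sw_40_31', sw_46_31, sw_46_31', sw_32_31, sw_32_31', sw_37_31, sw_37_31', sw_25_31, sw_25_31', sw_27_31, sw_27_31', sw_28_31, sw_28_31', sw_30_31, sw_30_31', sw_40_35, sw_40_35', sw_46_35, sw_46_35', sw_32_35, sw_32_35', sw_37_35, sw_37_35', sw_25_35, sw_25_35', sw_27_35, sw_27_35', sw_28_35, sw_28_35', sw_30_35, sw_30_35', sw_46_40, sw_46_40', sw_32_40, sw_32_40', sw_37_40, sw_37_40', sw_25_40, sw_25_40', sw_27_40, sw_27_40', sw_28_40, sw_28_40', sw_30_40, sw_30_40', sw_32_46, sw_32_46', sw_37_46, sw_37_46', sw_25_46, sw_25_46', sw_27_46,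 sw_27_46', sw_28_46, sw_28_46', sw_30_46, sw_30_46', sw_37_32, sw_37_32', sw_25_32, sw_25_32', sw_27_32, sw_27_32', sw_28_32, sw_28_32', sw_30_32, sw_30_32', sw_25_37, sw_25_37', sw_27_37, sw_27_37', sw_28_37, sw_28_37', sw_30_37, sw_30_37', sw_27_25, sw_27_25', sw_28_25, sw_28_25', sw_30_25, sw_30_25', sw_28_27, sw_28_27', sw_30_27, sw_30_27', sw_30_28, sw_30_28']
  try simp only [map_add, map_mul, map_pow, hσ, map_zero, map_one, pow_one, pow_zero, mul_one, one_mul]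
  repeat' apply x_congr
  all_goals try refine congrArg _ ?_
  all_goals first | rfl | ring1 | grind [CharTwo.two_eq_zero]

theorem c23 {σ : K ≃+* K} (hσ : ∀ x, σ (σ x) = x ^ 2) (a b x : K) :
    G3 σ x * G2 σ a b = G2 σ a b * (G3 σ x) := by
  simp only [G2, G3, Nat.reduceLT, x_add, x_add', x_zero, map_zero, mul_one, one_mul, mul_assoc, sw_34_26, sw_34_26', sw_36_26, sw_36_26', sw_42_26, sw_42_26', sw_43_26, sw_43_26', sw_38_26, sw_38_26', sw_36_34, sw_36_34', sw_42_34, sw_42_34', sw_43_34, sw_43_34', sw_38_34, sw_38_34', sw_42_36, sw_42_36', sw_43_36, sw_43_36', sw_38_36, sw_38_36', sw_43_42, sw_43_42', sw_38_42, sw_38_42', sw_38_43, sw_38_43']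
  try simp only [map_add, map_mul, map_pow, hσ, map_zero, map_one, pow_one, pow_zero, mul_one, one_mul]
  repeat' apply x_congr
  all_goals try refine congrArg _ ?_
  all_goals first | rfl | ring1 | grind [CharTwo.two_eq_zero]

theorem c24 {σ : K ≃+* K} (hσ : ∀ x, σ (σ x) = x ^ 2) (a b x y : K) :
    G4 σ x y * G2 σ a b = G2 σ a b * (G3 σ (a * x) * (G4 σ x y)) := by
  simp only [G2, G3, G4, Nat.reduceLT, x_add, x_add', x_zero, map_zero, mul_one, one_mul, mul_assoc, sw_34_26, sw_34_26', sw_36_26, sw_36_26', sw_42_26, sw_42_26', sw_43_26, sw_43_26', sw_38_26, sw_38_26', sw_41_26, sw_41_26', sw_29_26, sw_29_26', sw_44_26, sw_44_26', sw_47_26, sw_47_26', sw_36_34, sw_36_34', sw_42_34, sw_42_34', sw_43_34, sw_43_34', sw_38_34, sw_38_34', sw_41_34, sw_41_34', sw_29_34, sw_29_34', sw_44_34, sw_44_34', sw_47_34, sw_47_34', sw_42_36, sw_42_36', sw_43_36, sw_43_36', sw_38_36, sw_38_36', sw_41_36, sw_41_36', sw_29_36, sw_29_36',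 sw_44_36, sw_44_36', sw_47_36, sw_47_36', sw_43_42, sw_43_42', sw_38_42, sw_38_42', sw_41_42, sw_41_42', sw_29_42, sw_29_42', sw_44_42, sw_44_42', sw_47_42, sw_47_42', sw_38_43, sw_38_43', sw_41_43, sw_41_43', sw_29_43, sw_29_43', sw_44_43, sw_44_43', sw_47_43, sw_47_43', sw_41_38, sw_41_38', sw_29_38, sw_29_38', sw_44_38, sw_44_38', sw_47_38, sw_47_38', sw_29_41, sw_29_41', sw_44_41, sw_44_41', sw_47_41, sw_47_41', sw_44_29, sw_44_29', sw_47_29, sw_47_29', sw_47_44, sw_47_44']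
  try simp only [map_add, map_mul, map_pow, hσ, map_zero, map_one, pow_one, pow_zero, mul_one, one_mul]
  repeat' apply x_congr
  all_goals try refine congrArg _ ?_
  all_goals first | rfl | ring1 | grind [CharTwo.two_eq_zero]

theorem c25 {σ : K ≃+* K} (hσ : ∀ x, σ (σ x) = x ^ 2) (a b x : K) :
    G5 σ x * G2 σ a b = G2 σ a b * (G4 σ 0 (a * x) * (G5 σ x)) := by
  simp only [G2, G4, G5, Nat.reduceLT, x_add, x_add', x_zero, map_zero, mul_one, one_mul, mul_assoc, sw_34_26, sw_34_26', sw_36_26, sw_36_26', sw_42_26, sw_42_26', sw_43_26, sw_43_26', sw_38_26, sw_38_26', sw_41_26, sw_41_26', sw_29_26, sw_29_26', sw_44_26, sw_44_26', sw_47_26, sw_47_26', sw_45_26, sw_45_26', sw_39_26, sw_39_26', sw_36_34, sw_36_34', sw_42_34, sw_42_34', sw_43_34, sw_43_34', sw_38_34, sw_38_34', sw_41_34, sw_41_34', sw_29_34, sw_29_34', sw_44_34, sw_44_34', sw_47_34, sw_47_34', sw_45_34, sw_45_34', sw_39_34, sw_39_34', sw_42_36, sw_42_36',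 sw_43_36, sw_43_36', sw_38_36, sw_38_36', sw_41_36, sw_41_36', sw_29_36, sw_29_36', sw_44_36, sw_44_36', sw_47_36, sw_47_36', sw_45_36, sw_45_36', sw_39_36, sw_39_36', sw_43_42, sw_43_42', sw_38_42, sw_38_42', sw_41_42, sw_41_42', sw_29_42, sw_29_42', sw_44_42, sw_44_42', sw_47_42, sw_47_42', sw_45_42, sw_45_42', sw_39_42, sw_39_42', sw_38_43, sw_38_43', sw_41_43, sw_41_43', sw_29_43, sw_29_43', sw_44_43, sw_44_43', sw_47_43, sw_47_43', sw_45_43, sw_45_43', sw_39_43, sw_39_43', sw_41_38, sw_41_38', sw_29_38, sw_29_38', sw_44_38, sw_44_38', sw_47_38, sw_47_38', sw_45_38, sw_45_38', sw_39_38, sw_39_38', sw_29_41, sw_29_41', sw_44_41, sw_44_41', sw_47_41, sw_47_41', sw_45_41, sw_45_41', sw_39_41, sw_39_41', sw_44_29, sw_44_29', sw_47_29, sw_47_29', sw_45_29, sw_45_29', sw_39_29, sw_39_29', sw_47_44, sw_47_44', sw_45_44, sw_45_44', sw_39_44, sw_39_44', sw_45_47, sw_45_47', sw_39_47, sw_39_47', sw_39_45, sw_39_45']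
  try simp only [map_add, map_mul, map_pow, hσ, map_zero, map_one, pow_one, pow_zero, mul_one, one_mul]
  repeat' apply x_congr
  all_goals try refine congrArg _ ?_
  all_goals first | rfl | ring1 | grind [CharTwo.two_eq_zero]

theorem c26 {σ : K ≃+* K} (hσ : ∀ x, σ (σ x) = x ^ 2) (a b x y : K) :
    G6 σ x y * G2 σ a b = G2 σ a b * (G6 σ x y) := by
  simp only [G2, G6, Nat.reduceLT, x_add, x_add', x_zero, map_zero, mul_one, one_mul, mul_assoc, sw_34_26, sw_34_26', sw_36_26, sw_36_26', sw_42_26, sw_42_26', sw_43_26, sw_43_26', sw_38_26, sw_38_26', sw_41_26, sw_41_26', sw_29_26, sw_29_26', sw_44_26, sw_44_26', sw_47_26, sw_47_26', sw_45_26, sw_45_26', sw_39_26, sw_39_26', sw_31_26, sw_31_26', sw_35_26, sw_35_26', sw_40_26, sw_40_26', sw_46_26, sw_46_26', sw_36_34, sw_36_34', sw_42_34, sw_42_34', sw_43_34, sw_43_34', sw_38_34, sw_38_34', sw_41_34, sw_41_34', sw_29_34, sw_29_34', sw_44_34, sw_44_34', sw_47_34, sw_47_34',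 sw_45_34, sw_45_34', sw_39_34, sw_39_34', sw_31_34, sw_31_34', sw_35_34, sw_35_34', sw_40_34, sw_40_34', sw_46_34, sw_46_34', sw_42_36, sw_42_36', sw_43_36, sw_43_36', sw_38_36, sw_38_36', sw_41_36, sw_41_36', sw_29_36, sw_29_36', sw_44_36, sw_44_36', sw_47_36, sw_47_36', sw_45_36, sw_45_36', sw_39_36, sw_39_36', sw_31_36, sw_31_36', sw_35_36, sw_35_36', sw_40_36, sw_40_36', sw_46_36, sw_46_36', sw_43_42, sw_43_42', sw_38_42, sw_38_42', sw_41_42, sw_41_42', sw_29_42, sw_29_42', sw_44_42, sw_44_42', sw_47_42, sw_47_42', sw_45_42, sw_45_42', sw_39_42, sw_39_42', sw_31_42, sw_31_42', sw_35_42, sw_35_42', sw_40_42, sw_40_42', sw_46_42, sw_46_42', sw_38_43, sw_38_43', sw_41_43, sw_41_43', sw_29_43, sw_29_43', sw_44_43, sw_44_43', sw_47_43, sw_47_43', sw_45_43, sw_45_43', sw_39_43, sw_39_43', sw_31_43, sw_31_43', sw_35_43, sw_35_43', sw_40_43, sw_40_43', sw_46_43, sw_46_43', sw_41_38, sw_41_38', sw_29_38, sw_29_38',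 sw_44_38, sw_44_38', sw_47_38, sw_47_38', sw_45_38, sw_45_38', sw_39_38, sw_39_38', sw_31_38, sw_31_38', sw_35_38, sw_35_38', sw_40_38, sw_40_38', sw_46_38, sw_46_38', sw_29_41, sw_29_41', sw_44_41, sw_44_41', sw_47_41, sw_47_41', sw_45_41, sw_45_41', sw_39_41, sw_39_41', sw_31_41, sw_31_41', sw_35_41, sw_35_41', sw_40_41, sw_40_41', sw_46_41, sw_46_41', sw_44_29, sw_44_29', sw_47_29, sw_47_29', sw_45_29, sw_45_29', sw_39_29, sw_39_29', sw_31_29, sw_31_29', sw_35_29, sw_35_29', sw_40_29, sw_40_29', sw_46_29, sw_46_29', sw_47_44, sw_47_44', sw_45_44, sw_45_44', sw_39_44, sw_39_44', sw_31_44, sw_31_44', sw_35_44, sw_35_44', sw_40_44, sw_40_44', sw_46_44, sw_46_44', sw_45_47, sw_45_47', sw_39_47, sw_39_47', sw_31_47, sw_31_47', sw_35_47, sw_35_47', sw_40_47, sw_40_47', sw_46_47, sw_46_47', sw_39_45, sw_39_45', sw_31_45, sw_31_45', sw_35_45, sw_35_45', sw_40_45, sw_40_45', sw_46_45, sw_46_45', sw_31_39, sw_31_39',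 sw_35_39, sw_35_39', sw_40_39, sw_40_39', sw_46_39, sw_46_39', sw_35_31, sw_35_31', sw_40_31, sw_40_31', sw_46_31, sw_46_31', sw_40_35, sw_40_35', sw_46_35, sw_46_35', sw_46_40, sw_46_40']
  try simp only [map_add, map_mul, map_pow, hσ, map_zero, map_one, pow_one, pow_zero, mul_one, one_mul]
  repeat' apply x_congr
  all_goals try refine congrArg _ ?_
  all_goals first | rfl | ring1 | grind [CharTwo.two_eq_zero]

theorem c27 {σ : K ≃+* K} (hσ : ∀ x, σ (σ x) = x ^ 2) (a b x : K) :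
    G7 σ x * G2 σ a b = G2 σ a b * (G4 σ 0 (a * σ a * x + b * x) * (G5 σ (σ a * x) * (G6 σ 0 (a * σ x) * (G7 σ x)))) := by
  simp only [G2, G4, G5, G6, G7, Nat.reduceLT, x_add, x_add', x_zero, map_zero, mul_one, one_mul, mul_assoc, sw_34_26, sw_34_26', sw_36_26, sw_36_26', sw_42_26, sw_42_26', sw_43_26, sw_43_26', sw_38_26, sw_38_26', sw_41_26, sw_41_26', sw_29_26, sw_29_26', sw_44_26, sw_44_26', sw_47_26, sw_47_26', sw_45_26, sw_45_26', sw_39_26, sw_39_26', sw_31_26, sw_31_26', sw_35_26, sw_35_26', sw_40_26, sw_40_26', sw_46_26, sw_46_26', sw_32_26, sw_32_26', sw_37_26, sw_37_26', sw_36_34, sw_36_34', sw_42_34, sw_42_34', sw_43_34, sw_43_34', sw_38_34, sw_38_34', sw_41_34, sw_41_34', sw_29_34, sw_29_34', sw_44_34, sw_44_34', sw_47_34, sw_47_34', sw_45_34, sw_45_34', sw_39_34, sw_39_34', sw_31_34, sw_31_34', sw_35_34, sw_35_34', sw_40_34, sw_40_34', sw_46_34, sw_46_34', sw_32_34, sw_32_34', sw_37_34, sw_37_34',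 sw_42_36, sw_42_36', sw_43_36, sw_43_36', sw_38_36, sw_38_36', sw_41_36, sw_41_36', sw_29_36, sw_29_36', sw_44_36, sw_44_36', sw_47_36, sw_47_36', sw_45_36, sw_45_36', sw_39_36, sw_39_36', sw_31_36, sw_31_36', sw_35_36, sw_35_36', sw_40_36, sw_40_36', sw_46_36, sw_46_36', sw_32_36, sw_32_36', sw_37_36, sw_37_36', sw_43_42, sw_43_42', sw_38_42, sw_38_42', sw_41_42, sw_41_42', sw_29_42, sw_29_42', sw_44_42, sw_44_42', sw_47_42, sw_47_42', sw_45_42, sw_45_42', sw_39_42, sw_39_42', sw_31_42, sw_31_42', sw_35_42, sw_35_42', sw_40_42, sw_40_42', sw_46_42, sw_46_42', sw_32_42, sw_32_42', sw_37_42, sw_37_42', sw_38_43, sw_38_43', sw_41_43, sw_41_43', sw_29_43, sw_29_43', sw_44_43, sw_44_43', sw_47_43, sw_47_43', sw_45_43, sw_45_43', sw_39_43, sw_39_43', sw_31_43, sw_31_43', sw_35_43, sw_35_43', sw_40_43, sw_40_43', sw_46_43, sw_46_43', sw_32_43, sw_32_43', sw_37_43, sw_37_43', sw_41_38, sw_41_38', sw_29_38, sw_29_38',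 sw_44_38, sw_44_38', sw_47_38, sw_47_38', sw_45_38, sw_45_38', sw_39_38, sw_39_38', sw_31_38, sw_31_38', sw_35_38, sw_35_38', sw_40_38, sw_40_38', sw_46_38, sw_46_38', sw_32_38, sw_32_38', sw_37_38, sw_37_38', sw_29_41, sw_29_41', sw_44_41, sw_44_41', sw_47_41, sw_47_41', sw_45_41, sw_45_41', sw_39_41, sw_39_41', sw_31_41, sw_31_41', sw_35_41, sw_35_41', sw_40_41, sw_40_41', sw_46_41, sw_46_41', sw_32_41, sw_32_41', sw_37_41, sw_37_41', sw_44_29, sw_44_29', sw_47_29, sw_47_29', sw_45_29, sw_45_29', sw_39_29, sw_39_29', sw_31_29, sw_31_29', sw_35_29, sw_35_29', sw_40_29, sw_40_29', sw_46_29, sw_46_29', sw_32_29, sw_32_29', sw_37_29, sw_37_29', sw_47_44, sw_47_44', sw_45_44, sw_45_44', sw_39_44, sw_39_44', sw_31_44, sw_31_44', sw_35_44, sw_35_44', sw_40_44, sw_40_44', sw_46_44, sw_46_44', sw_32_44, sw_32_44', sw_37_44, sw_37_44', sw_45_47, sw_45_47', sw_39_47, sw_39_47', sw_31_47, sw_31_47', sw_35_47, sw_35_47',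 sw_40_47, sw_40_47', sw_46_47, sw_46_47', sw_32_47, sw_32_47', sw_37_47, sw_37_47', sw_39_45, sw_39_45', sw_31_45, sw_31_45', sw_35_45, sw_35_45', sw_40_45, sw_40_45', sw_46_45, sw_46_45', sw_32_45, sw_32_45', sw_37_45, sw_37_45', sw_31_39, sw_31_39', sw_35_39, sw_35_39', sw_40_39, sw_40_39', sw_46_39, sw_46_39', sw_32_39, sw_32_39', sw_37_39, sw_37_39', sw_35_31, sw_35_31', sw_40_31, sw_40_31', sw_46_31, sw_46_31', sw_32_31, sw_32_31', sw_37_31, sw_37_31', sw_40_35, sw_40_35', sw_46_35, sw_46_35', sw_32_35, sw_32_35', sw_37_35, sw_37_35', sw_46_40, sw_46_40', sw_32_40, sw_32_40', sw_37_40, sw_37_40', sw_32_46, sw_32_46', sw_37_46, sw_37_46', sw_37_32, sw_37_32']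
  try simp only [map_add, map_mul, map_pow, hσ, map_zero, map_one, pow_one, pow_zero, mul_one, one_mul]
  repeat' apply x_congr
  all_goals try refine congrArg _ ?_
  all_goals first | rfl | ring1 | grind [CharTwo.two_eq_zero]

theorem c28 {σ : K ≃+* K} (hσ : ∀ x, σ (σ x) = x ^ 2) (a b x y : K) :
    G8 σ x y * G2 σ a b = G2 σ a b * (G3 σ (a * σ a * x + b * x) * (G4 σ (σ a * x) (a * b * x * σ x + a * b * y + a ^ 2 * σ a * x * σ x + a ^ 2 * σ a * y + σ b * y) * (G5 σ (b * x * σ x + b * y) * (G6 σ (a * σ x) (a * σ a * σ y + b * x * y + b * x ^ 2 * σ x + b * σ y) * (G7 σ (a * y) * (G8 σ x y)))))) := by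
  simp only [G2, G3, G4, G5, G6, G7, G8, Nat.reduceLT, x_add, x_add', x_zero, map_zero, mul_one, one_mul, mul_assoc, sw_34_26, sw_34_26', sw_36_26, sw_36_26', sw_42_26, sw_42_26', sw_43_26, sw_43_26', sw_38_26, sw_38_26', sw_41_26, sw_41_26', sw_29_26, sw_29_26', sw_44_26, sw_44_26', sw_47_26, sw_47_26', sw_45_26, sw_45_26', sw_39_26, sw_39_26', sw_31_26, sw_31_26', sw_35_26, sw_35_26', sw_40_26, sw_40_26', sw_46_26, sw_46_26', sw_32_26, sw_32_26', sw_37_26, sw_37_26', sw_25_26, sw_25_26', sw_27_26, sw_27_26', sw_28_26, sw_28_26', sw_30_26, sw_30_26', sw_36_34, sw_36_34', sw_42_34, sw_42_34', sw_43_34, sw_43_34', sw_38_34, sw_38_34', sw_41_34, sw_41_34', sw_29_34, sw_29_34', sw_44_34, sw_44_34', sw_47_34, sw_47_34', sw_45_34, sw_45_34', sw_39_34, sw_39_34', sw_31_34, sw_31_34', sw_35_34, sw_35_34', sw_40_34, sw_40_34', sw_46_34, sw_46_34', sw_32_34, sw_32_34', sw_37_34, sw_37_34', sw_25_34, sw_25_34', sw_27_34,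 sw_27_34', sw_28_34, sw_28_34', sw_30_34, sw_30_34', sw_42_36, sw_42_36', sw_43_36, sw_43_36', sw_38_36, sw_38_36', sw_41_36, sw_41_36', sw_29_36, sw_29_36', sw_44_36, sw_44_36', sw_47_36, sw_47_36', sw_45_36, sw_45_36', sw_39_36, sw_39_36', sw_31_36, sw_31_36', sw_35_36, sw_35_36', sw_40_36, sw_40_36', sw_46_36, sw_46_36', sw_32_36, sw_32_36', sw_37_36, sw_37_36', sw_25_36, sw_25_36', sw_27_36, sw_27_36', sw_28_36, sw_28_36', sw_30_36, sw_30_36', sw_43_42, sw_43_42', sw_38_42, sw_38_42', sw_41_42, sw_41_42', sw_29_42, sw_29_42', sw_44_42, sw_44_42', sw_47_42, sw_47_42', sw_45_42, sw_45_42', sw_39_42, sw_39_42', sw_31_42, sw_31_42', sw_35_42, sw_35_42', sw_40_42, sw_40_42', sw_46_42, sw_46_42', sw_32_42, sw_32_42', sw_37_42, sw_37_42', sw_25_42, sw_25_42', sw_27_42, sw_27_42', sw_28_42, sw_28_42', sw_30_42, sw_30_42', sw_38_43, sw_38_43', sw_41_43, sw_41_43', sw_29_43, sw_29_43', sw_44_43, sw_44_43', sw_47_43,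 sw_47_43', sw_45_43, sw_45_43', sw_39_43, sw_39_43', sw_31_43, sw_31_43', sw_35_43, sw_35_43', sw_40_43, sw_40_43', sw_46_43, sw_46_43', sw_32_43, sw_32_43', sw_37_43, sw_37_43', sw_25_43, sw_25_43', sw_27_43, sw_27_43', sw_28_43, sw_28_43', sw_30_43, sw_30_43', sw_41_38, sw_41_38', sw_29_38, sw_29_38', sw_44_38, sw_44_38', sw_47_38, sw_47_38', sw_45_38, sw_45_38', sw_39_38, sw_39_38', sw_31_38, sw_31_38', sw_35_38, sw_35_38', sw_40_38, sw_40_38', sw_46_38, sw_46_38', sw_32_38, sw_32_38', sw_37_38, sw_37_38', sw_25_38, sw_25_38', sw_27_38, sw_27_38', sw_28_38, sw_28_38', sw_30_38, sw_30_38', sw_29_41, sw_29_41', sw_44_41, sw_44_41', sw_47_41, sw_47_41', sw_45_41, sw_45_41', sw_39_41, sw_39_41', sw_31_41, sw_31_41', sw_35_41, sw_35_41', sw_40_41, sw_40_41', sw_46_41, sw_46_41', sw_32_41, sw_32_41', sw_37_41, sw_37_41', sw_25_41, sw_25_41', sw_27_41, sw_27_41', sw_28_41, sw_28_41', sw_30_41, sw_30_41', sw_44_29,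 sw_44_29', sw_47_29, sw_47_29', sw_45_29, sw_45_29', sw_39_29, sw_39_29', sw_31_29, sw_31_29', sw_35_29, sw_35_29', sw_40_29, sw_40_29', sw_46_29, sw_46_29', sw_32_29, sw_32_29', sw_37_29, sw_37_29', sw_25_29, sw_25_29', sw_27_29, sw_27_29', sw_28_29, sw_28_29', sw_30_29, sw_30_29', sw_47_44, sw_47_44', sw_45_44, sw_45_44', sw_39_44, sw_39_44', sw_31_44, sw_31_44', sw_35_44, sw_35_44', sw_40_44, sw_40_44', sw_46_44, sw_46_44', sw_32_44, sw_32_44', sw_37_44, sw_37_44', sw_25_44, sw_25_44', sw_27_44, sw_27_44', sw_28_44, sw_28_44', sw_30_44, sw_30_44', sw_45_47, sw_45_47', sw_39_47, sw_39_47', sw_31_47, sw_31_47', sw_35_47, sw_35_47', sw_40_47, sw_40_47', sw_46_47, sw_46_47', sw_32_47, sw_32_47', sw_37_47, sw_37_47', sw_25_47, sw_25_47', sw_27_47, sw_27_47', sw_28_47, sw_28_47', sw_30_47, sw_30_47', sw_39_45, sw_39_45', sw_31_45, sw_31_45', sw_35_45, sw_35_45', sw_40_45, sw_40_45', sw_46_45, sw_46_45', sw_32_45,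 sw_32_45', sw_37_45, sw_37_45', sw_25_45, sw_25_45', sw_27_45, sw_27_45', sw_28_45, sw_28_45', sw_30_45, sw_30_45', sw_31_39, sw_31_39', sw_35_39, sw_35_39', sw_40_39, sw_40_39', sw_46_39, sw_46_39', sw_32_39, sw_32_39', sw_37_39, sw_37_39', sw_25_39, sw_25_39', sw_27_39, sw_27_39', sw_28_39, sw_28_39', sw_30_39, sw_30_39', sw_35_31, sw_35_31', sw_40_31, sw_40_31', sw_46_31, sw_46_31', sw_32_31, sw_32_31', sw_37_31, sw_37_31', sw_25_31, sw_25_31', sw_27_31, sw_27_31', sw_28_31, sw_28_31', sw_30_31, sw_30_31', sw_40_35, sw_40_35', sw_46_35, sw_46_35', sw_32_35, sw_32_35', sw_37_35, sw_37_35', sw_25_35, sw_25_35', sw_27_35, sw_27_35', sw_28_35, sw_28_35', sw_30_35, sw_30_35', sw_46_40, sw_46_40', sw_32_40, sw_32_40', sw_37_40, sw_37_40', sw_25_40, sw_25_40', sw_27_40, sw_27_40', sw_28_40, sw_28_40', sw_30_40, sw_30_40', sw_32_46, sw_32_46', sw_37_46, sw_37_46', sw_25_46, sw_25_46', sw_27_46, sw_27_46', sw_28_46,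 sw_28_46', sw_30_46, sw_30_46', sw_37_32, sw_37_32', sw_25_32, sw_25_32', sw_27_32, sw_27_32', sw_28_32, sw_28_32', sw_30_32, sw_30_32', sw_25_37, sw_25_37', sw_27_37, sw_27_37', sw_28_37, sw_28_37', sw_30_37, sw_30_37', sw_27_25, sw_27_25', sw_28_25, sw_28_25', sw_30_25, sw_30_25', sw_28_27, sw_28_27', sw_30_27, sw_30_27', sw_30_28, sw_30_28']
  try simp only [map_add, map_mul, map_pow, hσ, map_zero, map_one, pow_one, pow_zero, mul_one, one_mul]
  repeat' apply x_congr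
  all_goals try refine congrArg _ ?_
  all_goals first | rfl | ring1 | grind [CharTwo.two_eq_zero]

theorem c34 {σ : K ≃+* K} (hσ : ∀ x, σ (σ x) = x ^ 2) (a x y : K) :
    G4 σ x y * G3 σ a = G3 σ a * (G4 σ x y) := by
  simp only [G3, G4, Nat.reduceLT, x_add, x_add', x_zero, map_zero, mul_one, one_mul, mul_assoc, sw_38_43, sw_38_43', sw_41_43, sw_41_43', sw_29_43, sw_29_43', sw_44_43, sw_44_43', sw_47_43, sw_47_43', sw_41_38, sw_41_38', sw_29_38, sw_29_38', sw_44_38, sw_44_38', sw_47_38, sw_47_38', sw_29_41, sw_29_41', sw_44_41, sw_44_41', sw_47_41, sw_47_41', sw_44_29, sw_44_29', sw_47_29, sw_47_29', sw_47_44, sw_47_44']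
  try simp only [map_add, map_mul, map_pow, hσ, map_zero, map_one, pow_one, pow_zero, mul_one, one_mul]
  repeat' apply x_congr
  all_goals try refine congrArg _ ?_
  all_goals first | rfl | ring1 | grind [CharTwo.two_eq_zero]

theorem c35 {σ : K ≃+* K} (hσ : ∀ x, σ (σ x) = x ^ 2) (a x : K) :
    G5 σ x * G3 σ a = G3 σ a * (G5 σ x) := by
  simp only [G3, G5, Nat.reduceLT, x_add, x_add', x_zero, map_zero, mul_one, one_mul, mul_assoc, sw_38_43, sw_38_43', sw_41_43, sw_41_43', sw_29_43, sw_29_43', sw_44_43, sw_44_43', sw_47_43, sw_47_43', sw_45_43, sw_45_43', sw_39_43, sw_39_43', sw_41_38, sw_41_38', sw_29_38, sw_29_38', sw_44_38, sw_44_38', sw_47_38, sw_47_38', sw_45_38, sw_45_38', sw_39_38, sw_39_38', sw_29_41, sw_29_41', sw_44_41, sw_44_41', sw_47_41, sw_47_41', sw_45_41, sw_45_41', sw_39_41, sw_39_41', sw_44_29, sw_44_29', sw_47_29, sw_47_29', sw_45_29, sw_45_29', sw_39_29, sw_39_29', sw_47_44, sw_47_44', sw_45_44,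 sw_45_44', sw_39_44, sw_39_44', sw_45_47, sw_45_47', sw_39_47, sw_39_47', sw_39_45, sw_39_45']
  try simp only [map_add, map_mul, map_pow, hσ, map_zero, map_one, pow_one, pow_zero, mul_one, one_mul]
  repeat' apply x_congr
  all_goals try refine congrArg _ ?_
  all_goals first | rfl | ring1 | grind [CharTwo.two_eq_zero]

theorem c36 {σ : K ≃+* K} (hσ : ∀ x, σ (σ x) = x ^ 2) (a x y : K) :
    G6 σ x y * G3 σ a = G3 σ a * (G4 σ 0 (a * x) * (G6 σ x y)) := by
  simp only [G3, G4, G6, Nat.reduceLT, x_add, x_add', x_zero, map_zero, mul_one, one_mul, mul_assoc, sw_38_43, sw_38_43', sw_41_43, sw_41_43', sw_29_43, sw_29_43', sw_44_43, sw_44_43', sw_47_43, sw_47_43', sw_45_43, sw_45_43', sw_39_43, sw_39_43', sw_31_43, sw_31_43', sw_35_43, sw_35_43', sw_40_43, sw_40_43', sw_46_43, sw_46_43', sw_41_38, sw_41_38', sw_29_38, sw_29_38', sw_44_38, sw_44_38', sw_47_38, sw_47_38', sw_45_38, sw_45_38', sw_39_38, sw_39_38', sw_31_38,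 sw_31_38', sw_35_38, sw_35_38', sw_40_38, sw_40_38', sw_46_38, sw_46_38', sw_29_41, sw_29_41', sw_44_41, sw_44_41', sw_47_41, sw_47_41', sw_45_41, sw_45_41', sw_39_41, sw_39_41', sw_31_41, sw_31_41', sw_35_41, sw_35_41', sw_40_41, sw_40_41', sw_46_41, sw_46_41', sw_44_29, sw_44_29', sw_47_29, sw_47_29', sw_45_29, sw_45_29', sw_39_29, sw_39_29', sw_31_29, sw_31_29', sw_35_29, sw_35_29', sw_40_29, sw_40_29', sw_46_29, sw_46_29', sw_47_44, sw_47_44', sw_45_44, sw_45_44', sw_39_44, sw_39_44', sw_31_44, sw_31_44', sw_35_44, sw_35_44', sw_40_44, sw_40_44', sw_46_44, sw_46_44', sw_45_47, sw_45_47', sw_39_47, sw_39_47', sw_31_47, sw_31_47', sw_35_47, sw_35_47', sw_40_47, sw_40_47', sw_46_47, sw_46_47', sw_39_45, sw_39_45', sw_31_45, sw_31_45', sw_35_45, sw_35_45', sw_40_45, sw_40_45', sw_46_45, sw_46_45', sw_31_39, sw_31_39', sw_35_39, sw_35_39', sw_40_39, sw_40_39', sw_46_39, sw_46_39', sw_35_31, sw_35_31', sw_40_31,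 sw_40_31', sw_46_31, sw_46_31', sw_40_35, sw_40_35', sw_46_35, sw_46_35', sw_46_40, sw_46_40']
  try simp only [map_add, map_mul, map_pow, hσ, map_zero, map_one, pow_one, pow_zero, mul_one, one_mul]
  repeat' apply x_congr
  all_goals try refine congrArg _ ?_
  all_goals first | rfl | ring1 | grind [CharTwo.two_eq_zero]

theorem c37 {σ : K ≃+* K} (hσ : ∀ x, σ (σ x) = x ^ 2) (a x : K) :
    G7 σ x * G3 σ a = G3 σ a * (G7 σ x) := by
  simp only [G3, G7, Nat.reduceLT, x_add, x_add', x_zero, map_zero, mul_one, one_mul, mul_assoc, sw_38_43, sw_38_43', sw_41_43, sw_41_43', sw_29_43, sw_29_43', sw_44_43, sw_44_43', sw_47_43, sw_47_43', sw_45_43, sw_45_43', sw_39_43, sw_39_43', sw_31_43, sw_31_43', sw_35_43, sw_35_43', sw_40_43, sw_40_43', sw_46_43, sw_46_43', sw_32_43, sw_32_43', sw_37_43, sw_37_43', sw_41_38, sw_41_38', sw_29_38, sw_29_38', sw_44_38, sw_44_38', sw_47_38, sw_47_38', sw_45_38, sw_45_38', sw_39_38, sw_39_38',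 sw_31_38, sw_31_38', sw_35_38, sw_35_38', sw_40_38, sw_40_38', sw_46_38, sw_46_38', sw_32_38, sw_32_38', sw_37_38, sw_37_38', sw_29_41, sw_29_41', sw_44_41, sw_44_41', sw_47_41, sw_47_41', sw_45_41, sw_45_41', sw_39_41, sw_39_41', sw_31_41, sw_31_41', sw_35_41, sw_35_41', sw_40_41, sw_40_41', sw_46_41, sw_46_41', sw_32_41, sw_32_41', sw_37_41, sw_37_41', sw_44_29, sw_44_29', sw_47_29, sw_47_29', sw_45_29, sw_45_29', sw_39_29, sw_39_29', sw_31_29, sw_31_29', sw_35_29, sw_35_29', sw_40_29, sw_40_29', sw_46_29, sw_46_29', sw_32_29, sw_32_29', sw_37_29, sw_37_29', sw_47_44, sw_47_44', sw_45_44, sw_45_44', sw_39_44, sw_39_44', sw_31_44, sw_31_44', sw_35_44, sw_35_44', sw_40_44, sw_40_44', sw_46_44, sw_46_44', sw_32_44, sw_32_44', sw_37_44, sw_37_44', sw_45_47, sw_45_47', sw_39_47, sw_39_47', sw_31_47, sw_31_47', sw_35_47, sw_35_47', sw_40_47, sw_40_47', sw_46_47, sw_46_47', sw_32_47, sw_32_47', sw_37_47, sw_37_47',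 sw_39_45, sw_39_45', sw_31_45, sw_31_45', sw_35_45, sw_35_45', sw_40_45, sw_40_45', sw_46_45, sw_46_45', sw_32_45, sw_32_45', sw_37_45, sw_37_45', sw_31_39, sw_31_39', sw_35_39, sw_35_39', sw_40_39, sw_40_39', sw_46_39, sw_46_39', sw_32_39, sw_32_39', sw_37_39, sw_37_39', sw_35_31, sw_35_31', sw_40_31, sw_40_31', sw_46_31, sw_46_31', sw_32_31, sw_32_31', sw_37_31, sw_37_31', sw_40_35, sw_40_35', sw_46_35, sw_46_35', sw_32_35, sw_32_35', sw_37_35, sw_37_35', sw_46_40, sw_46_40', sw_32_40, sw_32_40', sw_37_40, sw_37_40', sw_32_46, sw_32_46', sw_37_46, sw_37_46', sw_37_32, sw_37_32']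
  try simp only [map_add, map_mul, map_pow, hσ, map_zero, map_one, pow_one, pow_zero, mul_one, one_mul]
  repeat' apply x_congr
  all_goals try refine congrArg _ ?_
  all_goals first | rfl | ring1 | grind [CharTwo.two_eq_zero]

theorem c38 {σ : K ≃+* K} (hσ : ∀ x, σ (σ x) = x ^ 2) (a x y : K) :
    G8 σ x y * G3 σ a = G3 σ a * (G4 σ 0 (σ a * x) * (G5 σ (a * σ x) * (G6 σ 0 (a * y) * (G8 σ x y)))) := by
  simp only [G3, G4, G5, G6, G8, Nat.reduceLT, x_add, x_add', x_zero, map_zero, mul_one, one_mul, mul_assoc, sw_38_43, sw_38_43', sw_41_43, sw_41_43', sw_29_43, sw_29_43', sw_44_43, sw_44_43', sw_47_43, sw_47_43', sw_45_43, sw_45_43', sw_39_43, sw_39_43', sw_31_43, sw_31_43', sw_35_43, sw_35_43', sw_40_43, sw_40_43', sw_46_43, sw_46_43', sw_32_43, sw_32_43', sw_37_43, sw_37_43', sw_25_43, sw_25_43', sw_27_43, sw_27_43', sw_28_43, sw_28_43', sw_30_43, sw_30_43', sw_41_38, sw_41_38', sw_29_38, sw_29_38', sw_44_38, sw_44_38',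 sw_47_38, sw_47_38', sw_45_38, sw_45_38', sw_39_38, sw_39_38', sw_31_38, sw_31_38', sw_35_38, sw_35_38', sw_40_38, sw_40_38', sw_46_38, sw_46_38', sw_32_38, sw_32_38', sw_37_38, sw_37_38', sw_25_38, sw_25_38', sw_27_38, sw_27_38', sw_28_38, sw_28_38', sw_30_38, sw_30_38', sw_29_41, sw_29_41', sw_44_41, sw_44_41', sw_47_41, sw_47_41', sw_45_41, sw_45_41', sw_39_41, sw_39_41', sw_31_41, sw_31_41', sw_35_41, sw_35_41', sw_40_41, sw_40_41', sw_46_41, sw_46_41', sw_32_41, sw_32_41', sw_37_41, sw_37_41', sw_25_41, sw_25_41', sw_27_41, sw_27_41', sw_28_41, sw_28_41', sw_30_41, sw_30_41', sw_44_29, sw_44_29', sw_47_29, sw_47_29', sw_45_29, sw_45_29', sw_39_29, sw_39_29', sw_31_29, sw_31_29', sw_35_29, sw_35_29', sw_40_29, sw_40_29', sw_46_29, sw_46_29', sw_32_29, sw_32_29', sw_37_29, sw_37_29', sw_25_29, sw_25_29', sw_27_29, sw_27_29', sw_28_29, sw_28_29', sw_30_29, sw_30_29', sw_47_44, sw_47_44', sw_45_44, sw_45_44',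 sw_39_44, sw_39_44', sw_31_44, sw_31_44', sw_35_44, sw_35_44', sw_40_44, sw_40_44', sw_46_44, sw_46_44', sw_32_44, sw_32_44', sw_37_44, sw_37_44', sw_25_44, sw_25_44', sw_27_44, sw_27_44', sw_28_44, sw_28_44', sw_30_44, sw_30_44', sw_45_47, sw_45_47', sw_39_47, sw_39_47', sw_31_47, sw_31_47', sw_35_47, sw_35_47', sw_40_47, sw_40_47', sw_46_47, sw_46_47', sw_32_47, sw_32_47', sw_37_47, sw_37_47', sw_25_47, sw_25_47', sw_27_47, sw_27_47', sw_28_47, sw_28_47', sw_30_47, sw_30_47', sw_39_45, sw_39_45', sw_31_45, sw_31_45', sw_35_45, sw_35_45', sw_40_45, sw_40_45', sw_46_45, sw_46_45', sw_32_45, sw_32_45', sw_37_45, sw_37_45', sw_25_45, sw_25_45', sw_27_45, sw_27_45', sw_28_45, sw_28_45', sw_30_45, sw_30_45', sw_31_39, sw_31_39', sw_35_39, sw_35_39', sw_40_39, sw_40_39', sw_46_39, sw_46_39', sw_32_39, sw_32_39', sw_37_39, sw_37_39', sw_25_39, sw_25_39', sw_27_39, sw_27_39', sw_28_39, sw_28_39', sw_30_39, sw_30_39',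 sw_35_31, sw_35_31', sw_40_31, sw_40_31', sw_46_31, sw_46_31', sw_32_31, sw_32_31', sw_37_31, sw_37_31', sw_25_31, sw_25_31', sw_27_31, sw_27_31', sw_28_31, sw_28_31', sw_30_31, sw_30_31', sw_40_35, sw_40_35', sw_46_35, sw_46_35', sw_32_35, sw_32_35', sw_37_35, sw_37_35', sw_25_35, sw_25_35', sw_27_35, sw_27_35', sw_28_35, sw_28_35', sw_30_35, sw_30_35', sw_46_40, sw_46_40', sw_32_40, sw_32_40', sw_37_40, sw_37_40', sw_25_40, sw_25_40', sw_27_40, sw_27_40', sw_28_40, sw_28_40', sw_30_40, sw_30_40', sw_32_46, sw_32_46', sw_37_46, sw_37_46', sw_25_46, sw_25_46', sw_27_46, sw_27_46', sw_28_46, sw_28_46', sw_30_46, sw_30_46', sw_37_32, sw_37_32', sw_25_32, sw_25_32', sw_27_32, sw_27_32', sw_28_32, sw_28_32', sw_30_32, sw_30_32', sw_25_37, sw_25_37', sw_27_37, sw_27_37', sw_28_37, sw_28_37', sw_30_37, sw_30_37', sw_27_25, sw_27_25', sw_28_25, sw_28_25', sw_30_25, sw_30_25', sw_28_27, sw_28_27', sw_30_27, sw_30_27',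 sw_30_28, sw_30_28']
  try simp only [map_add, map_mul, map_pow, hσ, map_zero, map_one, pow_one, pow_zero, mul_one, one_mul]
  repeat' apply x_congr
  all_goals try refine congrArg _ ?_
  all_goals first | rfl | ring1 | grind [CharTwo.two_eq_zero]

theorem c45 {σ : K ≃+* K} (hσ : ∀ x, σ (σ x) = x ^ 2) (a b x : K) :
    G5 σ x * G4 σ a b = G4 σ a b * (G5 σ x) := by
  simp only [G4, G5, Nat.reduceLT, x_add, x_add', x_zero, map_zero, mul_one, one_mul, mul_assoc, sw_29_41, sw_29_41', sw_44_41, sw_44_41', sw_47_41, sw_47_41', sw_45_41, sw_45_41', sw_39_41, sw_39_41', sw_44_29, sw_44_29', sw_47_29, sw_47_29', sw_45_29, sw_45_29', sw_39_29, sw_39_29', sw_47_44, sw_47_44', sw_45_44, sw_45_44', sw_39_44, sw_39_44', sw_45_47, sw_45_47', sw_39_47, sw_39_47', sw_39_45, sw_39_45']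
  try simp only [map_add, map_mul, map_pow, hσ, map_zero, map_one, pow_one, pow_zero, mul_one, one_mul]
  repeat' apply x_congr
  all_goals try refine congrArg _ ?_
  all_goals first | rfl | ring1 | grind [CharTwo.two_eq_zero]

theorem c46 {σ : K ≃+* K} (hσ : ∀ x, σ (σ x) = x ^ 2) (a b x y : K) :
    G6 σ x y * G4 σ a b = G4 σ a b * (G5 σ (a * x) * (G6 σ x y)) := by
  simp only [G4, G5, G6, Nat.reduceLT, x_add, x_add', x_zero, map_zero, mul_one, one_mul, mul_assoc, sw_29_41, sw_29_41', sw_44_41, sw_44_41', sw_47_41, sw_47_41', sw_45_41, sw_45_41', sw_39_41, sw_39_41', sw_31_41, sw_31_41', sw_35_41, sw_35_41', sw_40_41, sw_40_41', sw_46_41, sw_46_41', sw_44_29, sw_44_29', sw_47_29, sw_47_29', sw_45_29, sw_45_29', sw_39_29, sw_39_29', sw_31_29, sw_31_29', sw_35_29, sw_35_29', sw_40_29, sw_40_29', sw_46_29, sw_46_29', sw_47_44, sw_47_44', sw_45_44, sw_45_44', sw_39_44, sw_39_44', sw_31_44, sw_31_44', sw_35_44, sw_35_44',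 sw_40_44, sw_40_44', sw_46_44, sw_46_44', sw_45_47, sw_45_47', sw_39_47, sw_39_47', sw_31_47, sw_31_47', sw_35_47, sw_35_47', sw_40_47, sw_40_47', sw_46_47, sw_46_47', sw_39_45, sw_39_45', sw_31_45, sw_31_45', sw_35_45, sw_35_45', sw_40_45, sw_40_45', sw_46_45, sw_46_45', sw_31_39, sw_31_39', sw_35_39, sw_35_39', sw_40_39, sw_40_39', sw_46_39, sw_46_39', sw_35_31, sw_35_31', sw_40_31, sw_40_31', sw_46_31, sw_46_31', sw_40_35, sw_40_35', sw_46_35, sw_46_35', sw_46_40, sw_46_40']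
  try simp only [map_add, map_mul, map_pow, hσ, map_zero, map_one, pow_one, pow_zero, mul_one, one_mul]
  repeat' apply x_congr
  all_goals try refine congrArg _ ?_
  all_goals first | rfl | ring1 | grind [CharTwo.two_eq_zero]

theorem c47 {σ : K ≃+* K} (hσ : ∀ x, σ (σ x) = x ^ 2) (a b x : K) :
    G7 σ x * G4 σ a b = G4 σ a b * (G6 σ 0 (a * x) * (G7 σ x)) := by
  simp only [G4, G6, G7, Nat.reduceLT, x_add, x_add', x_zero, map_zero, mul_one, one_mul, mul_assoc, sw_29_41, sw_29_41', sw_44_41, sw_44_41', sw_47_41, sw_47_41', sw_45_41, sw_45_41', sw_39_41, sw_39_41', sw_31_41, sw_31_41', sw_35_41, sw_35_41', sw_40_41, sw_40_41', sw_46_41, sw_46_41', sw_32_41, sw_32_41', sw_37_41, sw_37_41', sw_44_29, sw_44_29', sw_47_29, sw_47_29', sw_45_29, sw_45_29', sw_39_29, sw_39_29', sw_31_29, sw_31_29', sw_35_29, sw_35_29', sw_40_29, sw_40_29', sw_46_29, sw_46_29', sw_32_29, sw_32_29', sw_37_29, sw_37_29', sw_47_44, sw_47_44',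 sw_45_44, sw_45_44', sw_39_44, sw_39_44', sw_31_44, sw_31_44', sw_35_44, sw_35_44', sw_40_44, sw_40_44', sw_46_44, sw_46_44', sw_32_44, sw_32_44', sw_37_44, sw_37_44', sw_45_47, sw_45_47', sw_39_47, sw_39_47', sw_31_47, sw_31_47', sw_35_47, sw_35_47', sw_40_47, sw_40_47', sw_46_47, sw_46_47', sw_32_47, sw_32_47', sw_37_47, sw_37_47', sw_39_45, sw_39_45', sw_31_45, sw_31_45', sw_35_45, sw_35_45', sw_40_45, sw_40_45', sw_46_45, sw_46_45', sw_32_45, sw_32_45', sw_37_45, sw_37_45', sw_31_39, sw_31_39', sw_35_39, sw_35_39', sw_40_39, sw_40_39', sw_46_39, sw_46_39', sw_32_39, sw_32_39', sw_37_39, sw_37_39', sw_35_31, sw_35_31', sw_40_31, sw_40_31', sw_46_31, sw_46_31', sw_32_31, sw_32_31', sw_37_31, sw_37_31', sw_40_35, sw_40_35', sw_46_35, sw_46_35', sw_32_35, sw_32_35', sw_37_35, sw_37_35', sw_46_40, sw_46_40', sw_32_40, sw_32_40', sw_37_40, sw_37_40', sw_32_46, sw_32_46', sw_37_46, sw_37_46', sw_37_32, sw_37_32']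
  try simp only [map_add, map_mul, map_pow, hσ, map_zero, map_one, pow_one, pow_zero, mul_one, one_mul]
  repeat' apply x_congr
  all_goals try refine congrArg _ ?_
  all_goals first | rfl | ring1 | grind [CharTwo.two_eq_zero]

theorem c48 {σ : K ≃+* K} (hσ : ∀ x, σ (σ x) = x ^ 2) (a b x y : K) :
    G8 σ x y * G4 σ a b = G4 σ a b * (G8 σ x y) := by
  simp only [G4, G8, Nat.reduceLT, x_add, x_add', x_zero, map_zero, mul_one, one_mul, mul_assoc, sw_29_41, sw_29_41', sw_44_41, sw_44_41', sw_47_41, sw_47_41', sw_45_41, sw_45_41', sw_39_41, sw_39_41', sw_31_41, sw_31_41', sw_35_41, sw_35_41', sw_40_41, sw_40_41', sw_46_41, sw_46_41', sw_32_41, sw_32_41', sw_37_41, sw_37_41', sw_25_41, sw_25_41', sw_27_41, sw_27_41', sw_28_41, sw_28_41', sw_30_41, sw_30_41', sw_44_29, sw_44_29', sw_47_29, sw_47_29', sw_45_29, sw_45_29', sw_39_29, sw_39_29', sw_31_29, sw_31_29', sw_35_29, sw_35_29', sw_40_29, sw_40_29', sw_46_29, sw_46_29',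 sw_32_29, sw_32_29', sw_37_29, sw_37_29', sw_25_29, sw_25_29', sw_27_29, sw_27_29', sw_28_29, sw_28_29', sw_30_29, sw_30_29', sw_47_44, sw_47_44', sw_45_44, sw_45_44', sw_39_44, sw_39_44', sw_31_44, sw_31_44', sw_35_44, sw_35_44', sw_40_44, sw_40_44', sw_46_44, sw_46_44', sw_32_44, sw_32_44', sw_37_44, sw_37_44', sw_25_44, sw_25_44', sw_27_44, sw_27_44', sw_28_44, sw_28_44', sw_30_44, sw_30_44', sw_45_47, sw_45_47', sw_39_47, sw_39_47', sw_31_47, sw_31_47', sw_35_47, sw_35_47', sw_40_47, sw_40_47', sw_46_47, sw_46_47', sw_32_47, sw_32_47', sw_37_47, sw_37_47', sw_25_47, sw_25_47', sw_27_47, sw_27_47', sw_28_47, sw_28_47', sw_30_47, sw_30_47', sw_39_45, sw_39_45', sw_31_45, sw_31_45', sw_35_45, sw_35_45', sw_40_45, sw_40_45', sw_46_45, sw_46_45', sw_32_45, sw_32_45', sw_37_45, sw_37_45', sw_25_45, sw_25_45', sw_27_45, sw_27_45', sw_28_45, sw_28_45', sw_30_45, sw_30_45', sw_31_39, sw_31_39', sw_35_39, sw_35_39',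 sw_40_39, sw_40_39', sw_46_39, sw_46_39', sw_32_39, sw_32_39', sw_37_39, sw_37_39', sw_25_39, sw_25_39', sw_27_39, sw_27_39', sw_28_39, sw_28_39', sw_30_39, sw_30_39', sw_35_31, sw_35_31', sw_40_31, sw_40_31', sw_46_31, sw_46_31', sw_32_31, sw_32_31', sw_37_31, sw_37_31', sw_25_31, sw_25_31', sw_27_31, sw_27_31', sw_28_31, sw_28_31', sw_30_31, sw_30_31', sw_40_35, sw_40_35', sw_46_35, sw_46_35', sw_32_35, sw_32_35', sw_37_35, sw_37_35', sw_25_35, sw_25_35', sw_27_35, sw_27_35', sw_28_35, sw_28_35', sw_30_35, sw_30_35', sw_46_40, sw_46_40', sw_32_40, sw_32_40', sw_37_40, sw_37_40', sw_25_40, sw_25_40', sw_27_40, sw_27_40', sw_28_40, sw_28_40', sw_30_40, sw_30_40', sw_32_46, sw_32_46', sw_37_46, sw_37_46', sw_25_46, sw_25_46', sw_27_46, sw_27_46', sw_28_46, sw_28_46', sw_30_46, sw_30_46', sw_37_32, sw_37_32', sw_25_32, sw_25_32', sw_27_32, sw_27_32', sw_28_32, sw_28_32', sw_30_32, sw_30_32', sw_25_37, sw_25_37',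 sw_27_37, sw_27_37', sw_28_37, sw_28_37', sw_30_37, sw_30_37', sw_27_25, sw_27_25', sw_28_25, sw_28_25', sw_30_25, sw_30_25', sw_28_27, sw_28_27', sw_30_27, sw_30_27', sw_30_28, sw_30_28']
  try simp only [map_add, map_mul, map_pow, hσ, map_zero, map_one, pow_one, pow_zero, mul_one, one_mul]
  repeat' apply x_congr
  all_goals try refine congrArg _ ?_
  all_goals first | rfl | ring1 | grind [CharTwo.two_eq_zero]

theorem c56 {σ : K ≃+* K} (hσ : ∀ x, σ (σ x) = x ^ 2) (a x y : K) :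
    G6 σ x y * G5 σ a = G5 σ a * (G6 σ x y) := by
  simp only [G5, G6, Nat.reduceLT, x_add, x_add', x_zero, map_zero, mul_one, one_mul, mul_assoc, sw_39_45, sw_39_45', sw_31_45, sw_31_45', sw_35_45, sw_35_45', sw_40_45, sw_40_45', sw_46_45, sw_46_45', sw_31_39, sw_31_39', sw_35_39, sw_35_39', sw_40_39, sw_40_39', sw_46_39, sw_46_39', sw_35_31, sw_35_31', sw_40_31, sw_40_31', sw_46_31, sw_46_31', sw_40_35, sw_40_35', sw_46_35, sw_46_35', sw_46_40, sw_46_40']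
  try simp only [map_add, map_mul, map_pow, hσ, map_zero, map_one, pow_one, pow_zero, mul_one, one_mul]
  repeat' apply x_congr
  all_goals try refine congrArg _ ?_
  all_goals first | rfl | ring1 | grind [CharTwo.two_eq_zero]

theorem c57 {σ : K ≃+* K} (hσ : ∀ x, σ (σ x) = x ^ 2) (a x : K) :
    G7 σ x * G5 σ a = G5 σ a * (G7 σ x) := by
  simp only [G5, G7, Nat.reduceLT, x_add, x_add', x_zero, map_zero, mul_one, one_mul, mul_assoc, sw_39_45, sw_39_45', sw_31_45, sw_31_45', sw_35_45, sw_35_45', sw_40_45, sw_40_45', sw_46_45, sw_46_45', sw_32_45, sw_32_45', sw_37_45, sw_37_45', sw_31_39, sw_31_39', sw_35_39, sw_35_39', sw_40_39, sw_40_39', sw_46_39, sw_46_39', sw_32_39, sw_32_39', sw_37_39, sw_37_39', sw_35_31, sw_35_31', sw_40_31, sw_40_31', sw_46_31, sw_46_31', sw_32_31, sw_32_31', sw_37_31, sw_37_31', sw_40_35, sw_40_35', sw_46_35, sw_46_35', sw_32_35, sw_32_35', sw_37_35, sw_37_35', sw_46_40, sw_46_40', sw_32_40,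 sw_32_40', sw_37_40, sw_37_40', sw_32_46, sw_32_46', sw_37_46, sw_37_46', sw_37_32, sw_37_32']
  try simp only [map_add, map_mul, map_pow, hσ, map_zero, map_one, pow_one, pow_zero, mul_one, one_mul]
  repeat' apply x_congr
  all_goals try refine congrArg _ ?_
  all_goals first | rfl | ring1 | grind [CharTwo.two_eq_zero]

theorem c58 {σ : K ≃+* K} (hσ : ∀ x, σ (σ x) = x ^ 2) (a x y : K) :
    G8 σ x y * G5 σ a = G5 σ a * (G6 σ 0 (a * x) * (G8 σ x y)) := by
  simp only [G5, G6, G8, Nat.reduceLT, x_add, x_add', x_zero, map_zero, mul_one, one_mul, mul_assoc, sw_39_45, sw_39_45', sw_31_45, sw_31_45', sw_35_45, sw_35_45', sw_40_45, sw_40_45', sw_46_45, sw_46_45', sw_32_45, sw_32_45', sw_37_45, sw_37_45', sw_25_45, sw_25_45', sw_27_45, sw_27_45', sw_28_45, sw_28_45', sw_30_45, sw_30_45', sw_31_39, sw_31_39', sw_35_39, sw_35_39', sw_40_39, sw_40_39', sw_46_39, sw_46_39', sw_32_39, sw_32_39', sw_37_39, sw_37_39', sw_25_39,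 sw_25_39', sw_27_39, sw_27_39', sw_28_39, sw_28_39', sw_30_39, sw_30_39', sw_35_31, sw_35_31', sw_40_31, sw_40_31', sw_46_31, sw_46_31', sw_32_31, sw_32_31', sw_37_31, sw_37_31', sw_25_31, sw_25_31', sw_27_31, sw_27_31', sw_28_31, sw_28_31', sw_30_31, sw_30_31', sw_40_35, sw_40_35', sw_46_35, sw_46_35', sw_32_35, sw_32_35', sw_37_35, sw_37_35', sw_25_35, sw_25_35', sw_27_35, sw_27_35', sw_28_35, sw_28_35', sw_30_35, sw_30_35', sw_46_40, sw_46_40', sw_32_40, sw_32_40', sw_37_40, sw_37_40', sw_25_40, sw_25_40', sw_27_40, sw_27_40', sw_28_40, sw_28_40', sw_30_40, sw_30_40', sw_32_46, sw_32_46', sw_37_46, sw_37_46', sw_25_46, sw_25_46', sw_27_46, sw_27_46', sw_28_46, sw_28_46', sw_30_46, sw_30_46', sw_37_32, sw_37_32', sw_25_32, sw_25_32', sw_27_32, sw_27_32', sw_28_32, sw_28_32', sw_30_32, sw_30_32', sw_25_37, sw_25_37', sw_27_37, sw_27_37', sw_28_37, sw_28_37', sw_30_37, sw_30_37', sw_27_25, sw_27_25', sw_28_25,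 sw_28_25', sw_30_25, sw_30_25', sw_28_27, sw_28_27', sw_30_27, sw_30_27', sw_30_28, sw_30_28']
  try simp only [map_add, map_mul, map_pow, hσ, map_zero, map_one, pow_one, pow_zero, mul_one, one_mul]
  repeat' apply x_congr
  all_goals try refine congrArg _ ?_
  all_goals first | rfl | ring1 | grind [CharTwo.two_eq_zero]

theorem c67 {σ : K ≃+* K} (hσ : ∀ x, σ (σ x) = x ^ 2) (a b x : K) :
    G7 σ x * G6 σ a b = G6 σ a b * (G7 σ x) := by
  simp only [G6, G7, Nat.reduceLT, x_add, x_add', x_zero, map_zero, mul_one, one_mul, mul_assoc, sw_35_31, sw_35_31', sw_40_31, sw_40_31', sw_46_31, sw_46_31', sw_32_31, sw_32_31', sw_37_31, sw_37_31', sw_40_35, sw_40_35', sw_46_35, sw_46_35', sw_32_35, sw_32_35', sw_37_35, sw_37_35', sw_46_40, sw_46_40', sw_32_40, sw_32_40', sw_37_40, sw_37_40', sw_32_46, sw_32_46', sw_37_46, sw_37_46', sw_37_32, sw_37_32']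
  try simp only [map_add, map_mul, map_pow, hσ, map_zero, map_one, pow_one, pow_zero, mul_one, one_mul]
  repeat' apply x_congr
  all_goals try refine congrArg _ ?_
  all_goals first | rfl | ring1 | grind [CharTwo.two_eq_zero]

theorem c68 {σ : K ≃+* K} (hσ : ∀ x, σ (σ x) = x ^ 2) (a b x y : K) :
    G8 σ x y * G6 σ a b = G6 σ a b * (G7 σ (a * x) * (G8 σ x y)) := by
  simp only [G6, G7, G8, Nat.reduceLT, x_add, x_add', x_zero, map_zero, mul_one, one_mul, mul_assoc, sw_35_31, sw_35_31', sw_40_31, sw_40_31', sw_46_31, sw_46_31', sw_32_31, sw_32_31', sw_37_31, sw_37_31', sw_25_31, sw_25_31', sw_27_31, sw_27_31', sw_28_31, sw_28_31', sw_30_31, sw_30_31', sw_40_35, sw_40_35', sw_46_35, sw_46_35', sw_32_35, sw_32_35', sw_37_35, sw_37_35', sw_25_35, sw_25_35', sw_27_35, sw_27_35', sw_28_35, sw_28_35', sw_30_35, sw_30_35', sw_46_40, sw_46_40', sw_32_40, sw_32_40', sw_37_40, sw_37_40', sw_25_40, sw_25_40', sw_27_40, sw_27_40',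 sw_28_40, sw_28_40', sw_30_40, sw_30_40', sw_32_46, sw_32_46', sw_37_46, sw_37_46', sw_25_46, sw_25_46', sw_27_46, sw_27_46', sw_28_46, sw_28_46', sw_30_46, sw_30_46', sw_37_32, sw_37_32', sw_25_32, sw_25_32', sw_27_32, sw_27_32', sw_28_32, sw_28_32', sw_30_32, sw_30_32', sw_25_37, sw_25_37', sw_27_37, sw_27_37', sw_28_37, sw_28_37', sw_30_37, sw_30_37', sw_27_25, sw_27_25', sw_28_25, sw_28_25', sw_30_25, sw_30_25', sw_28_27, sw_28_27', sw_30_27, sw_30_27', sw_30_28, sw_30_28']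
  try simp only [map_add, map_mul, map_pow, hσ, map_zero, map_one, pow_one, pow_zero, mul_one, one_mul]
  repeat' apply x_congr
  all_goals try refine congrArg _ ?_
  all_goals first | rfl | ring1 | grind [CharTwo.two_eq_zero]

theorem c78 {σ : K ≃+* K} (hσ : ∀ x, σ (σ x) = x ^ 2) (a x y : K) :
    G8 σ x y * G7 σ a = G7 σ a * (G8 σ x y) := by
  simp only [G7, G8, Nat.reduceLT, x_add, x_add', x_zero, map_zero, mul_one, one_mul, mul_assoc, sw_37_32, sw_37_32', sw_25_32, sw_25_32', sw_27_32, sw_27_32', sw_28_32, sw_28_32', sw_30_32, sw_30_32', sw_25_37, sw_25_37', sw_27_37, sw_27_37', sw_28_37, sw_28_37', sw_30_37, sw_30_37', sw_27_25, sw_27_25', sw_28_25, sw_28_25', sw_30_25, sw_30_25', sw_28_27, sw_28_27', sw_30_27, sw_30_27', sw_30_28, sw_30_28']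
  try simp only [map_add, map_mul, map_pow, hσ, map_zero, map_one, pow_one, pow_zero, mul_one, one_mul]
  repeat' apply x_congr
  all_goals try refine congrArg _ ?_
  all_goals first | rfl | ring1 | grind [CharTwo.two_eq_zero]

end CfsgLib.F4Inv
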