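import Cfsg.Agent.Lib.Chevalley.Twist.InstF4
import Mathlib.Algebra.CharP.Two
import Mathlib.Tactic.LinearCombination

/-!
Collection rules for the positive roots of type F₄ in characteristic two, and the eight root groups
of ²F₄.
-/

set_option autoImplicit false
set_option maxRecDepth 20000
set_option Elab.async false

namespace CfsgLib.F4Inv

open CfsgLib.Chevalley CfsgLib.Chevalley.Tbl

variable {K : Type*} [Field K] [CharP K 2]

local notation "xx" => Data.F4.tbl.xU K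

/-- The odd terms of a commutator are the listed ones. -/
def swChk (s r : ℕ) (L : List (ℕ × ℕ × ℕ)) : Bool :=
  Nat.blt s Data.F4.tbl.n && Nat.blt r Data.F4.tbl.n && !Nat.beq r s && !Nat.beq r (Data.F4.tbl.neg s) &&
    decide (((Data.F4.tbl.commT s r).filter fun c => decide (c.2.1 % 2 ≠ 0)).map
      (fun c => (c.1, c.2.2.1, c.2.2.2)) = L) &&
    (Data.F4.tbl.commT s r).all fun c => Nat.blt c.1 Data.F4.tbl.n

theorem prod_odd : ∀ (l : List (ℕ × ℤ × ℕ × ℕ)), (∀ c ∈ l, c.1 < Data.F4.tbl.n) → ∀ u t : K,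
    (l.map fun c => xx c.1 ((c.2.1 : K) * (-t) ^ c.2.2.1 * u ^ c.2.2.2)).prod =
      ((((l.filter fun c => decide (c.2.1 % 2 ≠ 0)).map fun c => (c.1, c.2.2.1, c.2.2.2))).map
        fun c => xx c.1 (t ^ c.2.1 * u ^ c.2.2)).prod := by
  intro l
  induction l with
  | nil => simp
  | cons c l ih =>
    intro hl u t
    have hc := hl c List.mem_cons_self
    rw [List.map_cons, List.prod_cons, ih (fun d hd => hl d (List.mem_cons_of_mem _ hd))]
    by_cases h : c.2.1 % 2 = 0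
    · rw [List.filter_cons_of_neg (by simp [h]), (CharP.intCast_eq_zero_iff K 2 _).mpr
        (Int.dvd_of_emod_eq_zero h), zero_mul, zero_mul, xU_zero Data.F4.valid hc, one_mul]
    · have h1 : (c.2.1 : K) = 1 := by
        obtain ⟨k, hk⟩ : ∃ k, c.2.1 = 2 * k + 1 := ⟨c.2.1 / 2, by omega⟩
        rw [hk]; push_cast; linear_combination (k : K) * CharTwo.two_eq_zero (R := K)
      rw [List.filter_cons_of_pos (by simp [h]), List.map_cons, List.map_cons, List.prod_cons, h1,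
        CharTwo.neg_eq, one_mul]

theorem sw_gen {s r : ℕ} {L : List (ℕ × ℕ × ℕ)} (h : swChk s r L = true) (u t : K) :
    xx r u * xx s t = xx s t * (xx r u * (L.map fun c => xx c.1 (t ^ c.2.1 * u ^ c.2.2)).prod) := by
  simp only [swChk, Bool.and_eq_true, Bool.not_eq_true', decide_eq_true_eq, List.all_eq_true] at h
  obtain ⟨⟨⟨⟨⟨hs, hr⟩, hne⟩, hneg⟩, hL⟩, hb⟩ := h
  rw [comm_xU Data.F4.valid Data.F4.chkComm (Nat.le_of_ble_eq_true hs) (Nat.le_of_ble_eq_true hr)
    (fun e => by rw [e, Nat.beq_refl] at hne; simp at hne)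
    (fun e => by rw [e, Nat.beq_refl] at hneg; simp at hneg), mul_assoc,
    prod_odd _ (fun c hc => Nat.le_of_ble_eq_true (hb c hc)), hL]

theorem sw0 {s r : ℕ} (h : swChk s r [] = true) (u t : K) : xx r u * xx s t = xx s t * xx r u :=
  (sw_gen h u t).trans (by simp)

theorem sw1 {s r c i j : ℕ} (h : swChk s r [(c, i, j)] = true) (u t : K) :
    xx r u * xx s t = xx s t * (xx r u * xx c (t ^ i * u ^ j)) :=
  (sw_gen h u t).trans (by simp)

theorem sw2 {s r c i j d k l : ℕ} (h : swChk s r [(c, i, j), (d, k, l)] = true) (u t : K) :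
    xx r u * xx s t = xx s t * (xx r u * (xx c (t ^ i * u ^ j) * xx d (t ^ k * u ^ l))) :=
  (sw_gen h u t).trans (by simp)

theorem sw_33_24 (u t : K) : xx 33 u * xx 24 t = xx 24 t * xx 33 u :=
  sw0 (s := 24) (r := 33) (by decide +kernel) u t

theorem sw_33_24' (u t : K) (z : GL Data.F4.tbl.I K) :
    xx 33 u * (xx 24 t * z) = xx 24 t * (xx 33 u * z) := by
  simp only [← mul_assoc, sw_33_24]

theorem sw_26_24 (u t : K) : xx 26 u * xx 24 t = xx 24 t * xx 26 u :=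
  sw0 (s := 24) (r := 26) (by decide +kernel) u t

theorem sw_26_24' (u t : K) (z : GL Data.F4.tbl.I K) :
    xx 26 u * (xx 24 t * z) = xx 24 t * (xx 26 u * z) := by
  simp only [← mul_assoc, sw_26_24]

theorem sw_34_24 (u t : K) : xx 34 u * xx 24 t = xx 24 t * xx 34 u :=
  sw0 (s := 24) (r := 34) (by decide +kernel) u t

theorem sw_34_24' (u t : K) (z : GL Data.F4.tbl.I K) :
    xx 34 u * (xx 24 t * z) = xx 24 t * (xx 34 u * z) := by
  simp only [← mul_assoc, sw_34_24]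

theorem sw_36_24 (u t : K) : xx 36 u * xx 24 t = xx 24 t * xx 36 u :=
  sw0 (s := 24) (r := 36) (by decide +kernel) u t

theorem sw_36_24' (u t : K) (z : GL Data.F4.tbl.I K) :
    xx 36 u * (xx 24 t * z) = xx 24 t * (xx 36 u * z) := by
  simp only [← mul_assoc, sw_36_24]

theorem sw_42_24 (u t : K) : xx 42 u * xx 24 t = xx 24 t * xx 42 u :=
  sw0 (s := 24) (r := 42) (by decide +kernel) u t

theorem sw_42_24' (u t : K) (z : GL Data.F4.tbl.I K) :
    xx 42 u * (xx 24 t * z) = xx 24 t * (xx 42 u * z) := by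
  simp only [← mul_assoc, sw_42_24]

theorem sw_43_24 (u t : K) : xx 43 u * xx 24 t = xx 24 t * xx 43 u :=
  sw0 (s := 24) (r := 43) (by decide +kernel) u t

theorem sw_43_24' (u t : K) (z : GL Data.F4.tbl.I K) :
    xx 43 u * (xx 24 t * z) = xx 24 t * (xx 43 u * z) := by
  simp only [← mul_assoc, sw_43_24]

theorem sw_38_24 (u t : K) : xx 38 u * xx 24 t = xx 24 t * xx 38 u :=
  sw0 (s := 24) (r := 38) (by decide +kernel) u t

theorem sw_38_24' (u t : K) (z : GL Data.F4.tbl.I K) :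
    xx 38 u * (xx 24 t * z) = xx 24 t * (xx 38 u * z) := by
  simp only [← mul_assoc, sw_38_24]

theorem sw_41_24 (u t : K) : xx 41 u * xx 24 t = xx 24 t * (xx 41 u * xx 42 (t ^ 1 * u ^ 1)) :=
  sw1 (s := 24) (r := 41) (by decide +kernel) u t

theorem sw_41_24' (u t : K) (z : GL Data.F4.tbl.I K) :
    xx 41 u * (xx 24 t * z) = xx 24 t * (xx 41 u * (xx 42 (t ^ 1 * u ^ 1) * z)) := by
  simp only [← mul_assoc, sw_41_24]

theorem sw_29_24 (u t : K) : xx 29 u * xx 24 t = xx 24 t * xx 29 u :=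
  sw0 (s := 24) (r := 29) (by decide +kernel) u t

theorem sw_29_24' (u t : K) (z : GL Data.F4.tbl.I K) :
    xx 29 u * (xx 24 t * z) = xx 24 t * (xx 29 u * z) := by
  simp only [← mul_assoc, sw_29_24]

theorem sw_44_24 (u t : K) : xx 44 u * xx 24 t = xx 24 t * xx 44 u :=
  sw0 (s := 24) (r := 44) (by decide +kernel) u t

theorem sw_44_24' (u t : K) (z : GL Data.F4.tbl.I K) :
    xx 44 u * (xx 24 t * z) = xx 24 t * (xx 44 u * z) := by
  simp only [← mul_assoc, sw_44_24]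

theorem sw_47_24 (u t : K) : xx 47 u * xx 24 t = xx 24 t * xx 47 u :=
  sw0 (s := 24) (r := 47) (by decide +kernel) u t

theorem sw_47_24' (u t : K) (z : GL Data.F4.tbl.I K) :
    xx 47 u * (xx 24 t * z) = xx 24 t * (xx 47 u * z) := by
  simp only [← mul_assoc, sw_47_24]

theorem sw_45_24 (u t : K) : xx 45 u * xx 24 t = xx 24 t * xx 45 u :=
  sw0 (s := 24) (r := 45) (by decide +kernel) u t

theorem sw_45_24' (u t : K) (z : GL Data.F4.tbl.I K) :
    xx 45 u * (xx 24 t * z) = xx 24 t * (xx 45 u * z) := by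
  simp only [← mul_assoc, sw_45_24]

theorem sw_39_24 (u t : K) : xx 39 u * xx 24 t = xx 24 t * xx 39 u :=
  sw0 (s := 24) (r := 39) (by decide +kernel) u t

theorem sw_39_24' (u t : K) (z : GL Data.F4.tbl.I K) :
    xx 39 u * (xx 24 t * z) = xx 24 t * (xx 39 u * z) := by
  simp only [← mul_assoc, sw_39_24]

theorem sw_31_24 (u t : K) : xx 31 u * xx 24 t = xx 24 t * xx 31 u :=
  sw0 (s := 24) (r := 31) (by decide +kernel) u t

theorem sw_31_24' (u t : K) (z : GL Data.F4.tbl.I K) :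
    xx 31 u * (xx 24 t * z) = xx 24 t * (xx 31 u * z) := by
  simp only [← mul_assoc, sw_31_24]

theorem sw_35_24 (u t : K) : xx 35 u * xx 24 t = xx 24 t * (xx 35 u * (xx 36 (t ^ 1 * u ^ 1) * xx 43 (t ^ 1 * u ^ 2))) :=
  sw2 (s := 24) (r := 35) (by decide +kernel) u t

theorem sw_35_24' (u t : K) (z : GL Data.F4.tbl.I K) :
    xx 35 u * (xx 24 t * z) = xx 24 t * (xx 35 u * (xx 36 (t ^ 1 * u ^ 1) * (xx 43 (t ^ 1 * u ^ 2) * z))) := by
  simp only [← mul_assoc, sw_35_24]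

theorem sw_40_24 (u t : K) : xx 40 u * xx 24 t = xx 24 t * xx 40 u :=
  sw0 (s := 24) (r := 40) (by decide +kernel) u t

theorem sw_40_24' (u t : K) (z : GL Data.F4.tbl.I K) :
    xx 40 u * (xx 24 t * z) = xx 24 t * (xx 40 u * z) := by
  simp only [← mul_assoc, sw_40_24]

theorem sw_46_24 (u t : K) : xx 46 u * xx 24 t = xx 24 t * (xx 46 u * xx 47 (t ^ 1 * u ^ 1)) :=
  sw1 (s := 24) (r := 46) (by decide +kernel) u t

theorem sw_46_24' (u t : K) (z : GL Data.F4.tbl.I K) :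
    xx 46 u * (xx 24 t * z) = xx 24 t * (xx 46 u * (xx 47 (t ^ 1 * u ^ 1) * z)) := by
  simp only [← mul_assoc, sw_46_24]

theorem sw_32_24 (u t : K) : xx 32 u * xx 24 t = xx 24 t * xx 32 u :=
  sw0 (s := 24) (r := 32) (by decide +kernel) u t

theorem sw_32_24' (u t : K) (z : GL Data.F4.tbl.I K) :
    xx 32 u * (xx 24 t * z) = xx 24 t * (xx 32 u * z) := by
  simp only [← mul_assoc, sw_32_24]

theorem sw_37_24 (u t : K) : xx 37 u * xx 24 t = xx 24 t * (xx 37 u * (xx 38 (t ^ 1 * u ^ 1) * xx 45 (t ^ 1 * u ^ 2))) :=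
  sw2 (s := 24) (r := 37) (by decide +kernel) u t

theorem sw_37_24' (u t : K) (z : GL Data.F4.tbl.I K) :
    xx 37 u * (xx 24 t * z) = xx 24 t * (xx 37 u * (xx 38 (t ^ 1 * u ^ 1) * (xx 45 (t ^ 1 * u ^ 2) * z))) := by
  simp only [← mul_assoc, sw_37_24]

theorem sw_25_24 (u t : K) : xx 25 u * xx 24 t = xx 24 t * (xx 25 u * xx 26 (t ^ 1 * u ^ 1)) :=
  sw1 (s := 24) (r := 25) (by decide +kernel) u t

theorem sw_25_24' (u t : K) (z : GL Data.F4.tbl.I K) :
    xx 25 u * (xx 24 t * z) = xx 24 t * (xx 25 u * (xx 26 (t ^ 1 * u ^ 1) * z)) := by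
  simp only [← mul_assoc, sw_25_24]

theorem sw_27_24 (u t : K) : xx 27 u * xx 24 t = xx 24 t * xx 27 u :=
  sw0 (s := 24) (r := 27) (by decide +kernel) u t

theorem sw_27_24' (u t : K) (z : GL Data.F4.tbl.I K) :
    xx 27 u * (xx 24 t * z) = xx 24 t * (xx 27 u * z) := by
  simp only [← mul_assoc, sw_27_24]

theorem sw_28_24 (u t : K) : xx 28 u * xx 24 t = xx 24 t * (xx 28 u * (xx 29 (t ^ 1 * u ^ 1) * xx 32 (t ^ 1 * u ^ 2))) :=
  sw2 (s := 24) (r := 28) (by decide +kernel) u t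

theorem sw_28_24' (u t : K) (z : GL Data.F4.tbl.I K) :
    xx 28 u * (xx 24 t * z) = xx 24 t * (xx 28 u * (xx 29 (t ^ 1 * u ^ 1) * (xx 32 (t ^ 1 * u ^ 2) * z))) := by
  simp only [← mul_assoc, sw_28_24]

theorem sw_30_24 (u t : K) : xx 30 u * xx 24 t = xx 24 t * (xx 30 u * xx 31 (t ^ 1 * u ^ 1)) :=
  sw1 (s := 24) (r := 30) (by decide +kernel) u t

theorem sw_30_24' (u t : K) (z : GL Data.F4.tbl.I K) :
    xx 30 u * (xx 24 t * z) = xx 24 t * (xx 30 u * (xx 31 (t ^ 1 * u ^ 1) * z)) := by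
  simp only [← mul_assoc, sw_30_24]

theorem sw_26_33 (u t : K) : xx 26 u * xx 33 t = xx 33 t * xx 26 u :=
  sw0 (s := 33) (r := 26) (by decide +kernel) u t

theorem sw_26_33' (u t : K) (z : GL Data.F4.tbl.I K) :
    xx 26 u * (xx 33 t * z) = xx 33 t * (xx 26 u * z) := by
  simp only [← mul_assoc, sw_26_33]

theorem sw_34_33 (u t : K) : xx 34 u * xx 33 t = xx 33 t * xx 34 u :=
  sw0 (s := 33) (r := 34) (by decide +kernel) u t

theorem sw_34_33' (u t : K) (z : GL Data.F4.tbl.I K) :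
    xx 34 u * (xx 33 t * z) = xx 33 t * (xx 34 u * z) := by
  simp only [← mul_assoc, sw_34_33]

theorem sw_36_33 (u t : K) : xx 36 u * xx 33 t = xx 33 t * xx 36 u :=
  sw0 (s := 33) (r := 36) (by decide +kernel) u t

theorem sw_36_33' (u t : K) (z : GL Data.F4.tbl.I K) :
    xx 36 u * (xx 33 t * z) = xx 33 t * (xx 36 u * z) := by
  simp only [← mul_assoc, sw_36_33]

theorem sw_42_33 (u t : K) : xx 42 u * xx 33 t = xx 33 t * xx 42 u :=
  sw0 (s := 33) (r := 42) (by decide +kernel) u t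

theorem sw_42_33' (u t : K) (z : GL Data.F4.tbl.I K) :
    xx 42 u * (xx 33 t * z) = xx 33 t * (xx 42 u * z) := by
  simp only [← mul_assoc, sw_42_33]

theorem sw_43_33 (u t : K) : xx 43 u * xx 33 t = xx 33 t * xx 43 u :=
  sw0 (s := 33) (r := 43) (by decide +kernel) u t

theorem sw_43_33' (u t : K) (z : GL Data.F4.tbl.I K) :
    xx 43 u * (xx 33 t * z) = xx 33 t * (xx 43 u * z) := by
  simp only [← mul_assoc, sw_43_33]

theorem sw_38_33 (u t : K) : xx 38 u * xx 33 t = xx 33 t * xx 38 u :=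
  sw0 (s := 33) (r := 38) (by decide +kernel) u t

theorem sw_38_33' (u t : K) (z : GL Data.F4.tbl.I K) :
    xx 38 u * (xx 33 t * z) = xx 33 t * (xx 38 u * z) := by
  simp only [← mul_assoc, sw_38_33]

theorem sw_41_33 (u t : K) : xx 41 u * xx 33 t = xx 33 t * xx 41 u :=
  sw0 (s := 33) (r := 41) (by decide +kernel) u t

theorem sw_41_33' (u t : K) (z : GL Data.F4.tbl.I K) :
    xx 41 u * (xx 33 t * z) = xx 33 t * (xx 41 u * z) := by
  simp only [← mul_assoc, sw_41_33]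

theorem sw_29_33 (u t : K) : xx 29 u * xx 33 t = xx 33 t * (xx 29 u * xx 36 (t ^ 1 * u ^ 1)) :=
  sw1 (s := 33) (r := 29) (by decide +kernel) u t

theorem sw_29_33' (u t : K) (z : GL Data.F4.tbl.I K) :
    xx 29 u * (xx 33 t * z) = xx 33 t * (xx 29 u * (xx 36 (t ^ 1 * u ^ 1) * z)) := by
  simp only [← mul_assoc, sw_29_33]

theorem sw_44_33 (u t : K) : xx 44 u * xx 33 t = xx 33 t * xx 44 u :=
  sw0 (s := 33) (r := 44) (by decide +kernel) u t

theorem sw_44_33' (u t : K) (z : GL Data.F4.tbl.I K) :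
    xx 44 u * (xx 33 t * z) = xx 33 t * (xx 44 u * z) := by
  simp only [← mul_assoc, sw_44_33]

theorem sw_47_33 (u t : K) : xx 47 u * xx 33 t = xx 33 t * xx 47 u :=
  sw0 (s := 33) (r := 47) (by decide +kernel) u t

theorem sw_47_33' (u t : K) (z : GL Data.F4.tbl.I K) :
    xx 47 u * (xx 33 t * z) = xx 33 t * (xx 47 u * z) := by
  simp only [← mul_assoc, sw_47_33]

theorem sw_45_33 (u t : K) : xx 45 u * xx 33 t = xx 33 t * xx 45 u :=
  sw0 (s := 33) (r := 45) (by decide +kernel) u t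

theorem sw_45_33' (u t : K) (z : GL Data.F4.tbl.I K) :
    xx 45 u * (xx 33 t * z) = xx 33 t * (xx 45 u * z) := by
  simp only [← mul_assoc, sw_45_33]

theorem sw_39_33 (u t : K) : xx 39 u * xx 33 t = xx 33 t * xx 39 u :=
  sw0 (s := 33) (r := 39) (by decide +kernel) u t

theorem sw_39_33' (u t : K) (z : GL Data.F4.tbl.I K) :
    xx 39 u * (xx 33 t * z) = xx 33 t * (xx 39 u * z) := by
  simp only [← mul_assoc, sw_39_33]

theorem sw_31_33 (u t : K) : xx 31 u * xx 33 t = xx 33 t * (xx 31 u * (xx 38 (t ^ 1 * u ^ 1) * xx 42 (t ^ 2 * u ^ 1))) :=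
  sw2 (s := 33) (r := 31) (by decide +kernel) u t

theorem sw_31_33' (u t : K) (z : GL Data.F4.tbl.I K) :
    xx 31 u * (xx 33 t * z) = xx 33 t * (xx 31 u * (xx 38 (t ^ 1 * u ^ 1) * (xx 42 (t ^ 2 * u ^ 1) * z))) := by
  simp only [← mul_assoc, sw_31_33]

theorem sw_35_33 (u t : K) : xx 35 u * xx 33 t = xx 33 t * xx 35 u :=
  sw0 (s := 33) (r := 35) (by decide +kernel) u t

theorem sw_35_33' (u t : K) (z : GL Data.F4.tbl.I K) :
    xx 35 u * (xx 33 t * z) = xx 33 t * (xx 35 u * z) := by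
  simp only [← mul_assoc, sw_35_33]

theorem sw_40_33 (u t : K) : xx 40 u * xx 33 t = xx 33 t * (xx 40 u * xx 44 (t ^ 1 * u ^ 1)) :=
  sw1 (s := 33) (r := 40) (by decide +kernel) u t

theorem sw_40_33' (u t : K) (z : GL Data.F4.tbl.I K) :
    xx 40 u * (xx 33 t * z) = xx 33 t * (xx 40 u * (xx 44 (t ^ 1 * u ^ 1) * z)) := by
  simp only [← mul_assoc, sw_40_33]

theorem sw_46_33 (u t : K) : xx 46 u * xx 33 t = xx 33 t * xx 46 u :=
  sw0 (s := 33) (r := 46) (by decide +kernel) u t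

theorem sw_46_33' (u t : K) (z : GL Data.F4.tbl.I K) :
    xx 46 u * (xx 33 t * z) = xx 33 t * (xx 46 u * z) := by
  simp only [← mul_assoc, sw_46_33]

theorem sw_32_33 (u t : K) : xx 32 u * xx 33 t = xx 33 t * (xx 32 u * (xx 39 (t ^ 1 * u ^ 1) * xx 43 (t ^ 2 * u ^ 1))) :=
  sw2 (s := 33) (r := 32) (by decide +kernel) u t

theorem sw_32_33' (u t : K) (z : GL Data.F4.tbl.I K) :
    xx 32 u * (xx 33 t * z) = xx 33 t * (xx 32 u * (xx 39 (t ^ 1 * u ^ 1) * (xx 43 (t ^ 2 * u ^ 1) * z))) := by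
  simp only [← mul_assoc, sw_32_33]

theorem sw_37_33 (u t : K) : xx 37 u * xx 33 t = xx 33 t * xx 37 u :=
  sw0 (s := 33) (r := 37) (by decide +kernel) u t

theorem sw_37_33' (u t : K) (z : GL Data.F4.tbl.I K) :
    xx 37 u * (xx 33 t * z) = xx 33 t * (xx 37 u * z) := by
  simp only [← mul_assoc, sw_37_33]

theorem sw_25_33 (u t : K) : xx 25 u * xx 33 t = xx 33 t * xx 25 u :=
  sw0 (s := 33) (r := 25) (by decide +kernel) u t

theorem sw_25_33' (u t : K) (z : GL Data.F4.tbl.I K) :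
    xx 25 u * (xx 33 t * z) = xx 33 t * (xx 25 u * z) := by
  simp only [← mul_assoc, sw_25_33]

theorem sw_27_33 (u t : K) : xx 27 u * xx 33 t = xx 33 t * (xx 27 u * xx 34 (t ^ 1 * u ^ 1)) :=
  sw1 (s := 33) (r := 27) (by decide +kernel) u t

theorem sw_27_33' (u t : K) (z : GL Data.F4.tbl.I K) :
    xx 27 u * (xx 33 t * z) = xx 33 t * (xx 27 u * (xx 34 (t ^ 1 * u ^ 1) * z)) := by
  simp only [← mul_assoc, sw_27_33]

theorem sw_28_33 (u t : K) : xx 28 u * xx 33 t = xx 33 t * (xx 28 u * xx 35 (t ^ 1 * u ^ 1)) :=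
  sw1 (s := 33) (r := 28) (by decide +kernel) u t

theorem sw_28_33' (u t : K) (z : GL Data.F4.tbl.I K) :
    xx 28 u * (xx 33 t * z) = xx 33 t * (xx 28 u * (xx 35 (t ^ 1 * u ^ 1) * z)) := by
  simp only [← mul_assoc, sw_28_33]

theorem sw_30_33 (u t : K) : xx 30 u * xx 33 t = xx 33 t * (xx 30 u * (xx 37 (t ^ 1 * u ^ 1) * xx 41 (t ^ 2 * u ^ 1))) :=
  sw2 (s := 33) (r := 30) (by decide +kernel) u t

theorem sw_30_33' (u t : K) (z : GL Data.F4.tbl.I K) :
    xx 30 u * (xx 33 t * z) = xx 33 t * (xx 30 u * (xx 37 (t ^ 1 * u ^ 1) * (xx 41 (t ^ 2 * u ^ 1) * z))) := by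
  simp only [← mul_assoc, sw_30_33]

theorem sw_34_26 (u t : K) : xx 34 u * xx 26 t = xx 26 t * (xx 34 u * (xx 36 (t ^ 1 * u ^ 1) * xx 42 (t ^ 1 * u ^ 2))) :=
  sw2 (s := 26) (r := 34) (by decide +kernel) u t

theorem sw_34_26' (u t : K) (z : GL Data.F4.tbl.I K) :
    xx 34 u * (xx 26 t * z) = xx 26 t * (xx 34 u * (xx 36 (t ^ 1 * u ^ 1) * (xx 42 (t ^ 1 * u ^ 2) * z))) := by
  simp only [← mul_assoc, sw_34_26]

theorem sw_36_26 (u t : K) : xx 36 u * xx 26 t = xx 26 t * xx 36 u :=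
  sw0 (s := 26) (r := 36) (by decide +kernel) u t

theorem sw_36_26' (u t : K) (z : GL Data.F4.tbl.I K) :
    xx 36 u * (xx 26 t * z) = xx 26 t * (xx 36 u * z) := by
  simp only [← mul_assoc, sw_36_26]

theorem sw_42_26 (u t : K) : xx 42 u * xx 26 t = xx 26 t * xx 42 u :=
  sw0 (s := 26) (r := 42) (by decide +kernel) u t

theorem sw_42_26' (u t : K) (z : GL Data.F4.tbl.I K) :
    xx 42 u * (xx 26 t * z) = xx 26 t * (xx 42 u * z) := by
  simp only [← mul_assoc, sw_42_26]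

theorem sw_43_26 (u t : K) : xx 43 u * xx 26 t = xx 26 t * xx 43 u :=
  sw0 (s := 26) (r := 43) (by decide +kernel) u t

theorem sw_43_26' (u t : K) (z : GL Data.F4.tbl.I K) :
    xx 43 u * (xx 26 t * z) = xx 26 t * (xx 43 u * z) := by
  simp only [← mul_assoc, sw_43_26]

theorem sw_38_26 (u t : K) : xx 38 u * xx 26 t = xx 26 t * xx 38 u :=
  sw0 (s := 26) (r := 38) (by decide +kernel) u t

theorem sw_38_26' (u t : K) (z : GL Data.F4.tbl.I K) :
    xx 38 u * (xx 26 t * z) = xx 26 t * (xx 38 u * z) := by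
  simp only [← mul_assoc, sw_38_26]

theorem sw_41_26 (u t : K) : xx 41 u * xx 26 t = xx 26 t * (xx 41 u * xx 43 (t ^ 1 * u ^ 1)) :=
  sw1 (s := 26) (r := 41) (by decide +kernel) u t

theorem sw_41_26' (u t : K) (z : GL Data.F4.tbl.I K) :
    xx 41 u * (xx 26 t * z) = xx 26 t * (xx 41 u * (xx 43 (t ^ 1 * u ^ 1) * z)) := by
  simp only [← mul_assoc, sw_41_26]

theorem sw_29_26 (u t : K) : xx 29 u * xx 26 t = xx 26 t * xx 29 u :=
  sw0 (s := 26) (r := 29) (by decide +kernel) u t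

theorem sw_29_26' (u t : K) (z : GL Data.F4.tbl.I K) :
    xx 29 u * (xx 26 t * z) = xx 26 t * (xx 29 u * z) := by
  simp only [← mul_assoc, sw_29_26]

theorem sw_44_26 (u t : K) : xx 44 u * xx 26 t = xx 26 t * xx 44 u :=
  sw0 (s := 26) (r := 44) (by decide +kernel) u t

theorem sw_44_26' (u t : K) (z : GL Data.F4.tbl.I K) :
    xx 44 u * (xx 26 t * z) = xx 26 t * (xx 44 u * z) := by
  simp only [← mul_assoc, sw_44_26]

theorem sw_47_26 (u t : K) : xx 47 u * xx 26 t = xx 26 t * xx 47 u :=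
  sw0 (s := 26) (r := 47) (by decide +kernel) u t

theorem sw_47_26' (u t : K) (z : GL Data.F4.tbl.I K) :
    xx 47 u * (xx 26 t * z) = xx 26 t * (xx 47 u * z) := by
  simp only [← mul_assoc, sw_47_26]

theorem sw_45_26 (u t : K) : xx 45 u * xx 26 t = xx 26 t * (xx 45 u * xx 47 (t ^ 1 * u ^ 1)) :=
  sw1 (s := 26) (r := 45) (by decide +kernel) u t

theorem sw_45_26' (u t : K) (z : GL Data.F4.tbl.I K) :
    xx 45 u * (xx 26 t * z) = xx 26 t * (xx 45 u * (xx 47 (t ^ 1 * u ^ 1) * z)) := by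
  simp only [← mul_assoc, sw_45_26]

theorem sw_39_26 (u t : K) : xx 39 u * xx 26 t = xx 26 t * xx 39 u :=
  sw0 (s := 26) (r := 39) (by decide +kernel) u t

theorem sw_39_26' (u t : K) (z : GL Data.F4.tbl.I K) :
    xx 39 u * (xx 26 t * z) = xx 26 t * (xx 39 u * z) := by
  simp only [← mul_assoc, sw_39_26]

theorem sw_31_26 (u t : K) : xx 31 u * xx 26 t = xx 26 t * xx 31 u :=
  sw0 (s := 26) (r := 31) (by decide +kernel) u t

theorem sw_31_26' (u t : K) (z : GL Data.F4.tbl.I K) :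
    xx 31 u * (xx 26 t * z) = xx 26 t * (xx 31 u * z) := by
  simp only [← mul_assoc, sw_31_26]

theorem sw_35_26 (u t : K) : xx 35 u * xx 26 t = xx 26 t * xx 35 u :=
  sw0 (s := 26) (r := 35) (by decide +kernel) u t

theorem sw_35_26' (u t : K) (z : GL Data.F4.tbl.I K) :
    xx 35 u * (xx 26 t * z) = xx 26 t * (xx 35 u * z) := by
  simp only [← mul_assoc, sw_35_26]

theorem sw_40_26 (u t : K) : xx 40 u * xx 26 t = xx 26 t * xx 40 u :=
  sw0 (s := 26) (r := 40) (by decide +kernel) u t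

theorem sw_40_26' (u t : K) (z : GL Data.F4.tbl.I K) :
    xx 40 u * (xx 26 t * z) = xx 26 t * (xx 40 u * z) := by
  simp only [← mul_assoc, sw_40_26]

theorem sw_46_26 (u t : K) : xx 46 u * xx 26 t = xx 26 t * xx 46 u :=
  sw0 (s := 26) (r := 46) (by decide +kernel) u t

theorem sw_46_26' (u t : K) (z : GL Data.F4.tbl.I K) :
    xx 46 u * (xx 26 t * z) = xx 26 t * (xx 46 u * z) := by
  simp only [← mul_assoc, sw_46_26]

theorem sw_32_26 (u t : K) : xx 32 u * xx 26 t = xx 26 t * xx 32 u :=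
  sw0 (s := 26) (r := 32) (by decide +kernel) u t

theorem sw_32_26' (u t : K) (z : GL Data.F4.tbl.I K) :
    xx 32 u * (xx 26 t * z) = xx 26 t * (xx 32 u * z) := by
  simp only [← mul_assoc, sw_32_26]

theorem sw_37_26 (u t : K) : xx 37 u * xx 26 t = xx 26 t * (xx 37 u * (xx 39 (t ^ 1 * u ^ 1) * xx 46 (t ^ 1 * u ^ 2))) :=
  sw2 (s := 26) (r := 37) (by decide +kernel) u t

theorem sw_37_26' (u t : K) (z : GL Data.F4.tbl.I K) :
    xx 37 u * (xx 26 t * z) = xx 26 t * (xx 37 u * (xx 39 (t ^ 1 * u ^ 1) * (xx 46 (t ^ 1 * u ^ 2) * z))) := by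
  simp only [← mul_assoc, sw_37_26]

theorem sw_25_26 (u t : K) : xx 25 u * xx 26 t = xx 26 t * xx 25 u :=
  sw0 (s := 26) (r := 25) (by decide +kernel) u t

theorem sw_25_26' (u t : K) (z : GL Data.F4.tbl.I K) :
    xx 25 u * (xx 26 t * z) = xx 26 t * (xx 25 u * z) := by
  simp only [← mul_assoc, sw_25_26]

theorem sw_27_26 (u t : K) : xx 27 u * xx 26 t = xx 26 t * (xx 27 u * (xx 29 (t ^ 1 * u ^ 1) * xx 31 (t ^ 1 * u ^ 2))) :=
  sw2 (s := 26) (r := 27) (by decide +kernel) u t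

theorem sw_27_26' (u t : K) (z : GL Data.F4.tbl.I K) :
    xx 27 u * (xx 26 t * z) = xx 26 t * (xx 27 u * (xx 29 (t ^ 1 * u ^ 1) * (xx 31 (t ^ 1 * u ^ 2) * z))) := by
  simp only [← mul_assoc, sw_27_26]

theorem sw_28_26 (u t : K) : xx 28 u * xx 26 t = xx 26 t * xx 28 u :=
  sw0 (s := 26) (r := 28) (by decide +kernel) u t

theorem sw_28_26' (u t : K) (z : GL Data.F4.tbl.I K) :
    xx 28 u * (xx 26 t * z) = xx 26 t * (xx 28 u * z) := by
  simp only [← mul_assoc, sw_28_26]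

theorem sw_30_26 (u t : K) : xx 30 u * xx 26 t = xx 26 t * (xx 30 u * xx 32 (t ^ 1 * u ^ 1)) :=
  sw1 (s := 26) (r := 30) (by decide +kernel) u t

theorem sw_30_26' (u t : K) (z : GL Data.F4.tbl.I K) :
    xx 30 u * (xx 26 t * z) = xx 26 t * (xx 30 u * (xx 32 (t ^ 1 * u ^ 1) * z)) := by
  simp only [← mul_assoc, sw_30_26]

theorem sw_36_34 (u t : K) : xx 36 u * xx 34 t = xx 34 t * xx 36 u :=
  sw0 (s := 34) (r := 36) (by decide +kernel) u t

theorem sw_36_34' (u t : K) (z : GL Data.F4.tbl.I K) :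
    xx 36 u * (xx 34 t * z) = xx 34 t * (xx 36 u * z) := by
  simp only [← mul_assoc, sw_36_34]

theorem sw_42_34 (u t : K) : xx 42 u * xx 34 t = xx 34 t * xx 42 u :=
  sw0 (s := 34) (r := 42) (by decide +kernel) u t

theorem sw_42_34' (u t : K) (z : GL Data.F4.tbl.I K) :
    xx 42 u * (xx 34 t * z) = xx 34 t * (xx 42 u * z) := by
  simp only [← mul_assoc, sw_42_34]

theorem sw_43_34 (u t : K) : xx 43 u * xx 34 t = xx 34 t * xx 43 u :=
  sw0 (s := 34) (r := 43) (by decide +kernel) u t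

theorem sw_43_34' (u t : K) (z : GL Data.F4.tbl.I K) :
    xx 43 u * (xx 34 t * z) = xx 34 t * (xx 43 u * z) := by
  simp only [← mul_assoc, sw_43_34]

theorem sw_38_34 (u t : K) : xx 38 u * xx 34 t = xx 34 t * xx 38 u :=
  sw0 (s := 34) (r := 38) (by decide +kernel) u t

theorem sw_38_34' (u t : K) (z : GL Data.F4.tbl.I K) :
    xx 38 u * (xx 34 t * z) = xx 34 t * (xx 38 u * z) := by
  simp only [← mul_assoc, sw_38_34]

theorem sw_41_34 (u t : K) : xx 41 u * xx 34 t = xx 34 t * xx 41 u :=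
  sw0 (s := 34) (r := 41) (by decide +kernel) u t

theorem sw_41_34' (u t : K) (z : GL Data.F4.tbl.I K) :
    xx 41 u * (xx 34 t * z) = xx 34 t * (xx 41 u * z) := by
  simp only [← mul_assoc, sw_41_34]

theorem sw_29_34 (u t : K) : xx 29 u * xx 34 t = xx 34 t * (xx 29 u * xx 38 (t ^ 1 * u ^ 1)) :=
  sw1 (s := 34) (r := 29) (by decide +kernel) u t

theorem sw_29_34' (u t : K) (z : GL Data.F4.tbl.I K) :
    xx 29 u * (xx 34 t * z) = xx 34 t * (xx 29 u * (xx 38 (t ^ 1 * u ^ 1) * z)) := by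
  simp only [← mul_assoc, sw_29_34]

theorem sw_44_34 (u t : K) : xx 44 u * xx 34 t = xx 34 t * xx 44 u :=
  sw0 (s := 34) (r := 44) (by decide +kernel) u t

theorem sw_44_34' (u t : K) (z : GL Data.F4.tbl.I K) :
    xx 44 u * (xx 34 t * z) = xx 34 t * (xx 44 u * z) := by
  simp only [← mul_assoc, sw_44_34]

theorem sw_47_34 (u t : K) : xx 47 u * xx 34 t = xx 34 t * xx 47 u :=
  sw0 (s := 34) (r := 47) (by decide +kernel) u t

theorem sw_47_34' (u t : K) (z : GL Data.F4.tbl.I K) :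
    xx 47 u * (xx 34 t * z) = xx 34 t * (xx 47 u * z) := by
  simp only [← mul_assoc, sw_47_34]

theorem sw_45_34 (u t : K) : xx 45 u * xx 34 t = xx 34 t * xx 45 u :=
  sw0 (s := 34) (r := 45) (by decide +kernel) u t

theorem sw_45_34' (u t : K) (z : GL Data.F4.tbl.I K) :
    xx 45 u * (xx 34 t * z) = xx 34 t * (xx 45 u * z) := by
  simp only [← mul_assoc, sw_45_34]

theorem sw_39_34 (u t : K) : xx 39 u * xx 34 t = xx 34 t * (xx 39 u * xx 44 (t ^ 1 * u ^ 1)) :=
  sw1 (s := 34) (r := 39) (by decide +kernel) u t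

theorem sw_39_34' (u t : K) (z : GL Data.F4.tbl.I K) :
    xx 39 u * (xx 34 t * z) = xx 34 t * (xx 39 u * (xx 44 (t ^ 1 * u ^ 1) * z)) := by
  simp only [← mul_assoc, sw_39_34]

theorem sw_31_34 (u t : K) : xx 31 u * xx 34 t = xx 34 t * xx 31 u :=
  sw0 (s := 34) (r := 31) (by decide +kernel) u t

theorem sw_31_34' (u t : K) (z : GL Data.F4.tbl.I K) :
    xx 31 u * (xx 34 t * z) = xx 34 t * (xx 31 u * z) := by
  simp only [← mul_assoc, sw_31_34]

theorem sw_35_34 (u t : K) : xx 35 u * xx 34 t = xx 34 t * xx 35 u :=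
  sw0 (s := 34) (r := 35) (by decide +kernel) u t

theorem sw_35_34' (u t : K) (z : GL Data.F4.tbl.I K) :
    xx 35 u * (xx 34 t * z) = xx 34 t * (xx 35 u * z) := by
  simp only [← mul_assoc, sw_35_34]

theorem sw_40_34 (u t : K) : xx 40 u * xx 34 t = xx 34 t * xx 40 u :=
  sw0 (s := 34) (r := 40) (by decide +kernel) u t

theorem sw_40_34' (u t : K) (z : GL Data.F4.tbl.I K) :
    xx 40 u * (xx 34 t * z) = xx 34 t * (xx 40 u * z) := by
  simp only [← mul_assoc, sw_40_34]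

theorem sw_46_34 (u t : K) : xx 46 u * xx 34 t = xx 34 t * xx 46 u :=
  sw0 (s := 34) (r := 46) (by decide +kernel) u t

theorem sw_46_34' (u t : K) (z : GL Data.F4.tbl.I K) :
    xx 46 u * (xx 34 t * z) = xx 34 t * (xx 46 u * z) := by
  simp only [← mul_assoc, sw_46_34]

theorem sw_32_34 (u t : K) : xx 32 u * xx 34 t = xx 34 t * (xx 32 u * (xx 40 (t ^ 1 * u ^ 1) * xx 45 (t ^ 2 * u ^ 1))) :=
  sw2 (s := 34) (r := 32) (by decide +kernel) u t

theorem sw_32_34' (u t : K) (z : GL Data.F4.tbl.I K) :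
    xx 32 u * (xx 34 t * z) = xx 34 t * (xx 32 u * (xx 40 (t ^ 1 * u ^ 1) * (xx 45 (t ^ 2 * u ^ 1) * z))) := by
  simp only [← mul_assoc, sw_32_34]

theorem sw_37_34 (u t : K) : xx 37 u * xx 34 t = xx 34 t * xx 37 u :=
  sw0 (s := 34) (r := 37) (by decide +kernel) u t

theorem sw_37_34' (u t : K) (z : GL Data.F4.tbl.I K) :
    xx 37 u * (xx 34 t * z) = xx 34 t * (xx 37 u * z) := by
  simp only [← mul_assoc, sw_37_34]

theorem sw_25_34 (u t : K) : xx 25 u * xx 34 t = xx 34 t * (xx 25 u * (xx 35 (t ^ 1 * u ^ 1) * xx 41 (t ^ 2 * u ^ 1))) :=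
  sw2 (s := 34) (r := 25) (by decide +kernel) u t

theorem sw_25_34' (u t : K) (z : GL Data.F4.tbl.I K) :
    xx 25 u * (xx 34 t * z) = xx 34 t * (xx 25 u * (xx 35 (t ^ 1 * u ^ 1) * (xx 41 (t ^ 2 * u ^ 1) * z))) := by
  simp only [← mul_assoc, sw_25_34]

theorem sw_27_34 (u t : K) : xx 27 u * xx 34 t = xx 34 t * xx 27 u :=
  sw0 (s := 34) (r := 27) (by decide +kernel) u t

theorem sw_27_34' (u t : K) (z : GL Data.F4.tbl.I K) :
    xx 27 u * (xx 34 t * z) = xx 34 t * (xx 27 u * z) := by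
  simp only [← mul_assoc, sw_27_34]

theorem sw_28_34 (u t : K) : xx 28 u * xx 34 t = xx 34 t * (xx 28 u * xx 37 (t ^ 1 * u ^ 1)) :=
  sw1 (s := 34) (r := 28) (by decide +kernel) u t

theorem sw_28_34' (u t : K) (z : GL Data.F4.tbl.I K) :
    xx 28 u * (xx 34 t * z) = xx 34 t * (xx 28 u * (xx 37 (t ^ 1 * u ^ 1) * z)) := by
  simp only [← mul_assoc, sw_28_34]

theorem sw_30_34 (u t : K) : xx 30 u * xx 34 t = xx 34 t * xx 30 u :=
  sw0 (s := 34) (r := 30) (by decide +kernel) u t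

theorem sw_30_34' (u t : K) (z : GL Data.F4.tbl.I K) :
    xx 30 u * (xx 34 t * z) = xx 34 t * (xx 30 u * z) := by
  simp only [← mul_assoc, sw_30_34]

theorem sw_42_36 (u t : K) : xx 42 u * xx 36 t = xx 36 t * xx 42 u :=
  sw0 (s := 36) (r := 42) (by decide +kernel) u t

theorem sw_42_36' (u t : K) (z : GL Data.F4.tbl.I K) :
    xx 42 u * (xx 36 t * z) = xx 36 t * (xx 42 u * z) := by
  simp only [← mul_assoc, sw_42_36]

theorem sw_43_36 (u t : K) : xx 43 u * xx 36 t = xx 36 t * xx 43 u :=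
  sw0 (s := 36) (r := 43) (by decide +kernel) u t

theorem sw_43_36' (u t : K) (z : GL Data.F4.tbl.I K) :
    xx 43 u * (xx 36 t * z) = xx 36 t * (xx 43 u * z) := by
  simp only [← mul_assoc, sw_43_36]

theorem sw_38_36 (u t : K) : xx 38 u * xx 36 t = xx 36 t * xx 38 u :=
  sw0 (s := 36) (r := 38) (by decide +kernel) u t

theorem sw_38_36' (u t : K) (z : GL Data.F4.tbl.I K) :
    xx 38 u * (xx 36 t * z) = xx 36 t * (xx 38 u * z) := by
  simp only [← mul_assoc, sw_38_36]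

theorem sw_41_36 (u t : K) : xx 41 u * xx 36 t = xx 36 t * xx 41 u :=
  sw0 (s := 36) (r := 41) (by decide +kernel) u t

theorem sw_41_36' (u t : K) (z : GL Data.F4.tbl.I K) :
    xx 41 u * (xx 36 t * z) = xx 36 t * (xx 41 u * z) := by
  simp only [← mul_assoc, sw_41_36]

theorem sw_29_36 (u t : K) : xx 29 u * xx 36 t = xx 36 t * xx 29 u :=
  sw0 (s := 36) (r := 29) (by decide +kernel) u t

theorem sw_29_36' (u t : K) (z : GL Data.F4.tbl.I K) :
    xx 29 u * (xx 36 t * z) = xx 36 t * (xx 29 u * z) := by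
  simp only [← mul_assoc, sw_29_36]

theorem sw_44_36 (u t : K) : xx 44 u * xx 36 t = xx 36 t * xx 44 u :=
  sw0 (s := 36) (r := 44) (by decide +kernel) u t

theorem sw_44_36' (u t : K) (z : GL Data.F4.tbl.I K) :
    xx 44 u * (xx 36 t * z) = xx 36 t * (xx 44 u * z) := by
  simp only [← mul_assoc, sw_44_36]

theorem sw_47_36 (u t : K) : xx 47 u * xx 36 t = xx 36 t * xx 47 u :=
  sw0 (s := 36) (r := 47) (by decide +kernel) u t

theorem sw_47_36' (u t : K) (z : GL Data.F4.tbl.I K) :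
    xx 47 u * (xx 36 t * z) = xx 36 t * (xx 47 u * z) := by
  simp only [← mul_assoc, sw_47_36]

theorem sw_45_36 (u t : K) : xx 45 u * xx 36 t = xx 36 t * xx 45 u :=
  sw0 (s := 36) (r := 45) (by decide +kernel) u t

theorem sw_45_36' (u t : K) (z : GL Data.F4.tbl.I K) :
    xx 45 u * (xx 36 t * z) = xx 36 t * (xx 45 u * z) := by
  simp only [← mul_assoc, sw_45_36]

theorem sw_39_36 (u t : K) : xx 39 u * xx 36 t = xx 36 t * xx 39 u :=
  sw0 (s := 36) (r := 39) (by decide +kernel) u t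

theorem sw_39_36' (u t : K) (z : GL Data.F4.tbl.I K) :
    xx 39 u * (xx 36 t * z) = xx 36 t * (xx 39 u * z) := by
  simp only [← mul_assoc, sw_39_36]

theorem sw_31_36 (u t : K) : xx 31 u * xx 36 t = xx 36 t * xx 31 u :=
  sw0 (s := 36) (r := 31) (by decide +kernel) u t

theorem sw_31_36' (u t : K) (z : GL Data.F4.tbl.I K) :
    xx 31 u * (xx 36 t * z) = xx 36 t * (xx 31 u * z) := by
  simp only [← mul_assoc, sw_31_36]

theorem sw_35_36 (u t : K) : xx 35 u * xx 36 t = xx 36 t * xx 35 u :=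
  sw0 (s := 36) (r := 35) (by decide +kernel) u t

theorem sw_35_36' (u t : K) (z : GL Data.F4.tbl.I K) :
    xx 35 u * (xx 36 t * z) = xx 36 t * (xx 35 u * z) := by
  simp only [← mul_assoc, sw_35_36]

theorem sw_40_36 (u t : K) : xx 40 u * xx 36 t = xx 36 t * xx 40 u :=
  sw0 (s := 36) (r := 40) (by decide +kernel) u t

theorem sw_40_36' (u t : K) (z : GL Data.F4.tbl.I K) :
    xx 40 u * (xx 36 t * z) = xx 36 t * (xx 40 u * z) := by
  simp only [← mul_assoc, sw_40_36]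

theorem sw_46_36 (u t : K) : xx 46 u * xx 36 t = xx 36 t * xx 46 u :=
  sw0 (s := 36) (r := 46) (by decide +kernel) u t

theorem sw_46_36' (u t : K) (z : GL Data.F4.tbl.I K) :
    xx 46 u * (xx 36 t * z) = xx 36 t * (xx 46 u * z) := by
  simp only [← mul_assoc, sw_46_36]

theorem sw_32_36 (u t : K) : xx 32 u * xx 36 t = xx 36 t * xx 32 u :=
  sw0 (s := 36) (r := 32) (by decide +kernel) u t

theorem sw_32_36' (u t : K) (z : GL Data.F4.tbl.I K) :
    xx 32 u * (xx 36 t * z) = xx 36 t * (xx 32 u * z) := by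
  simp only [← mul_assoc, sw_32_36]

theorem sw_37_36 (u t : K) : xx 37 u * xx 36 t = xx 36 t * (xx 37 u * xx 44 (t ^ 1 * u ^ 1)) :=
  sw1 (s := 36) (r := 37) (by decide +kernel) u t

theorem sw_37_36' (u t : K) (z : GL Data.F4.tbl.I K) :
    xx 37 u * (xx 36 t * z) = xx 36 t * (xx 37 u * (xx 44 (t ^ 1 * u ^ 1) * z)) := by
  simp only [← mul_assoc, sw_37_36]

theorem sw_25_36 (u t : K) : xx 25 u * xx 36 t = xx 36 t * xx 25 u :=
  sw0 (s := 36) (r := 25) (by decide +kernel) u t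

theorem sw_25_36' (u t : K) (z : GL Data.F4.tbl.I K) :
    xx 25 u * (xx 36 t * z) = xx 36 t * (xx 25 u * z) := by
  simp only [← mul_assoc, sw_25_36]

theorem sw_27_36 (u t : K) : xx 27 u * xx 36 t = xx 36 t * (xx 27 u * xx 38 (t ^ 1 * u ^ 1)) :=
  sw1 (s := 36) (r := 27) (by decide +kernel) u t

theorem sw_27_36' (u t : K) (z : GL Data.F4.tbl.I K) :
    xx 27 u * (xx 36 t * z) = xx 36 t * (xx 27 u * (xx 38 (t ^ 1 * u ^ 1) * z)) := by
  simp only [← mul_assoc, sw_27_36]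

theorem sw_28_36 (u t : K) : xx 28 u * xx 36 t = xx 36 t * (xx 28 u * xx 39 (t ^ 1 * u ^ 1)) :=
  sw1 (s := 36) (r := 28) (by decide +kernel) u t

theorem sw_28_36' (u t : K) (z : GL Data.F4.tbl.I K) :
    xx 28 u * (xx 36 t * z) = xx 36 t * (xx 28 u * (xx 39 (t ^ 1 * u ^ 1) * z)) := by
  simp only [← mul_assoc, sw_28_36]

theorem sw_30_36 (u t : K) : xx 30 u * xx 36 t = xx 36 t * (xx 30 u * (xx 40 (t ^ 1 * u ^ 1) * xx 47 (t ^ 2 * u ^ 1))) :=
  sw2 (s := 36) (r := 30) (by decide +kernel) u t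

theorem sw_30_36' (u t : K) (z : GL Data.F4.tbl.I K) :
    xx 30 u * (xx 36 t * z) = xx 36 t * (xx 30 u * (xx 40 (t ^ 1 * u ^ 1) * (xx 47 (t ^ 2 * u ^ 1) * z))) := by
  simp only [← mul_assoc, sw_30_36]

theorem sw_43_42 (u t : K) : xx 43 u * xx 42 t = xx 42 t * xx 43 u :=
  sw0 (s := 42) (r := 43) (by decide +kernel) u t

theorem sw_43_42' (u t : K) (z : GL Data.F4.tbl.I K) :
    xx 43 u * (xx 42 t * z) = xx 42 t * (xx 43 u * z) := by
  simp only [← mul_assoc, sw_43_42]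

theorem sw_38_42 (u t : K) : xx 38 u * xx 42 t = xx 42 t * xx 38 u :=
  sw0 (s := 42) (r := 38) (by decide +kernel) u t

theorem sw_38_42' (u t : K) (z : GL Data.F4.tbl.I K) :
    xx 38 u * (xx 42 t * z) = xx 42 t * (xx 38 u * z) := by
  simp only [← mul_assoc, sw_38_42]

theorem sw_41_42 (u t : K) : xx 41 u * xx 42 t = xx 42 t * xx 41 u :=
  sw0 (s := 42) (r := 41) (by decide +kernel) u t

theorem sw_41_42' (u t : K) (z : GL Data.F4.tbl.I K) :
    xx 41 u * (xx 42 t * z) = xx 42 t * (xx 41 u * z) := by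
  simp only [← mul_assoc, sw_41_42]

theorem sw_29_42 (u t : K) : xx 29 u * xx 42 t = xx 42 t * xx 29 u :=
  sw0 (s := 42) (r := 29) (by decide +kernel) u t

theorem sw_29_42' (u t : K) (z : GL Data.F4.tbl.I K) :
    xx 29 u * (xx 42 t * z) = xx 42 t * (xx 29 u * z) := by
  simp only [← mul_assoc, sw_29_42]

theorem sw_44_42 (u t : K) : xx 44 u * xx 42 t = xx 42 t * xx 44 u :=
  sw0 (s := 42) (r := 44) (by decide +kernel) u t

theorem sw_44_42' (u t : K) (z : GL Data.F4.tbl.I K) :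
    xx 44 u * (xx 42 t * z) = xx 42 t * (xx 44 u * z) := by
  simp only [← mul_assoc, sw_44_42]

theorem sw_47_42 (u t : K) : xx 47 u * xx 42 t = xx 42 t * xx 47 u :=
  sw0 (s := 42) (r := 47) (by decide +kernel) u t

theorem sw_47_42' (u t : K) (z : GL Data.F4.tbl.I K) :
    xx 47 u * (xx 42 t * z) = xx 42 t * (xx 47 u * z) := by
  simp only [← mul_assoc, sw_47_42]

theorem sw_45_42 (u t : K) : xx 45 u * xx 42 t = xx 42 t * xx 45 u :=
  sw0 (s := 42) (r := 45) (by decide +kernel) u t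

theorem sw_45_42' (u t : K) (z : GL Data.F4.tbl.I K) :
    xx 45 u * (xx 42 t * z) = xx 42 t * (xx 45 u * z) := by
  simp only [← mul_assoc, sw_45_42]

theorem sw_39_42 (u t : K) : xx 39 u * xx 42 t = xx 42 t * xx 39 u :=
  sw0 (s := 42) (r := 39) (by decide +kernel) u t

theorem sw_39_42' (u t : K) (z : GL Data.F4.tbl.I K) :
    xx 39 u * (xx 42 t * z) = xx 42 t * (xx 39 u * z) := by
  simp only [← mul_assoc, sw_39_42]

theorem sw_31_42 (u t : K) : xx 31 u * xx 42 t = xx 42 t * xx 31 u :=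
  sw0 (s := 42) (r := 31) (by decide +kernel) u t

theorem sw_31_42' (u t : K) (z : GL Data.F4.tbl.I K) :
    xx 31 u * (xx 42 t * z) = xx 42 t * (xx 31 u * z) := by
  simp only [← mul_assoc, sw_31_42]

theorem sw_35_42 (u t : K) : xx 35 u * xx 42 t = xx 42 t * xx 35 u :=
  sw0 (s := 42) (r := 35) (by decide +kernel) u t

theorem sw_35_42' (u t : K) (z : GL Data.F4.tbl.I K) :
    xx 35 u * (xx 42 t * z) = xx 42 t * (xx 35 u * z) := by
  simp only [← mul_assoc, sw_35_42]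

theorem sw_40_42 (u t : K) : xx 40 u * xx 42 t = xx 42 t * xx 40 u :=
  sw0 (s := 42) (r := 40) (by decide +kernel) u t

theorem sw_40_42' (u t : K) (z : GL Data.F4.tbl.I K) :
    xx 40 u * (xx 42 t * z) = xx 42 t * (xx 40 u * z) := by
  simp only [← mul_assoc, sw_40_42]

theorem sw_46_42 (u t : K) : xx 46 u * xx 42 t = xx 42 t * xx 46 u :=
  sw0 (s := 42) (r := 46) (by decide +kernel) u t

theorem sw_46_42' (u t : K) (z : GL Data.F4.tbl.I K) :
    xx 46 u * (xx 42 t * z) = xx 42 t * (xx 46 u * z) := by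
  simp only [← mul_assoc, sw_46_42]

theorem sw_32_42 (u t : K) : xx 32 u * xx 42 t = xx 42 t * (xx 32 u * xx 47 (t ^ 1 * u ^ 1)) :=
  sw1 (s := 42) (r := 32) (by decide +kernel) u t

theorem sw_32_42' (u t : K) (z : GL Data.F4.tbl.I K) :
    xx 32 u * (xx 42 t * z) = xx 42 t * (xx 32 u * (xx 47 (t ^ 1 * u ^ 1) * z)) := by
  simp only [← mul_assoc, sw_32_42]

theorem sw_37_42 (u t : K) : xx 37 u * xx 42 t = xx 42 t * xx 37 u :=
  sw0 (s := 42) (r := 37) (by decide +kernel) u t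

theorem sw_37_42' (u t : K) (z : GL Data.F4.tbl.I K) :
    xx 37 u * (xx 42 t * z) = xx 42 t * (xx 37 u * z) := by
  simp only [← mul_assoc, sw_37_42]

theorem sw_25_42 (u t : K) : xx 25 u * xx 42 t = xx 42 t * (xx 25 u * xx 43 (t ^ 1 * u ^ 1)) :=
  sw1 (s := 42) (r := 25) (by decide +kernel) u t

theorem sw_25_42' (u t : K) (z : GL Data.F4.tbl.I K) :
    xx 25 u * (xx 42 t * z) = xx 42 t * (xx 25 u * (xx 43 (t ^ 1 * u ^ 1) * z)) := by
  simp only [← mul_assoc, sw_25_42]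

theorem sw_27_42 (u t : K) : xx 27 u * xx 42 t = xx 42 t * xx 27 u :=
  sw0 (s := 42) (r := 27) (by decide +kernel) u t

theorem sw_27_42' (u t : K) (z : GL Data.F4.tbl.I K) :
    xx 27 u * (xx 42 t * z) = xx 42 t * (xx 27 u * z) := by
  simp only [← mul_assoc, sw_27_42]

theorem sw_28_42 (u t : K) : xx 28 u * xx 42 t = xx 42 t * (xx 28 u * (xx 44 (t ^ 1 * u ^ 1) * xx 46 (t ^ 1 * u ^ 2))) :=
  sw2 (s := 42) (r := 28) (by decide +kernel) u t

theorem sw_28_42' (u t : K) (z : GL Data.F4.tbl.I K) :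
    xx 28 u * (xx 42 t * z) = xx 42 t * (xx 28 u * (xx 44 (t ^ 1 * u ^ 1) * (xx 46 (t ^ 1 * u ^ 2) * z))) := by
  simp only [← mul_assoc, sw_28_42]

theorem sw_30_42 (u t : K) : xx 30 u * xx 42 t = xx 42 t * (xx 30 u * xx 45 (t ^ 1 * u ^ 1)) :=
  sw1 (s := 42) (r := 30) (by decide +kernel) u t

theorem sw_30_42' (u t : K) (z : GL Data.F4.tbl.I K) :
    xx 30 u * (xx 42 t * z) = xx 42 t * (xx 30 u * (xx 45 (t ^ 1 * u ^ 1) * z)) := by
  simp only [← mul_assoc, sw_30_42]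

theorem sw_38_43 (u t : K) : xx 38 u * xx 43 t = xx 43 t * xx 38 u :=
  sw0 (s := 43) (r := 38) (by decide +kernel) u t

theorem sw_38_43' (u t : K) (z : GL Data.F4.tbl.I K) :
    xx 38 u * (xx 43 t * z) = xx 43 t * (xx 38 u * z) := by
  simp only [← mul_assoc, sw_38_43]

theorem sw_41_43 (u t : K) : xx 41 u * xx 43 t = xx 43 t * xx 41 u :=
  sw0 (s := 43) (r := 41) (by decide +kernel) u t

theorem sw_41_43' (u t : K) (z : GL Data.F4.tbl.I K) :
    xx 41 u * (xx 43 t * z) = xx 43 t * (xx 41 u * z) := by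
  simp only [← mul_assoc, sw_41_43]

theorem sw_29_43 (u t : K) : xx 29 u * xx 43 t = xx 43 t * xx 29 u :=
  sw0 (s := 43) (r := 29) (by decide +kernel) u t

theorem sw_29_43' (u t : K) (z : GL Data.F4.tbl.I K) :
    xx 29 u * (xx 43 t * z) = xx 43 t * (xx 29 u * z) := by
  simp only [← mul_assoc, sw_29_43]

theorem sw_44_43 (u t : K) : xx 44 u * xx 43 t = xx 43 t * xx 44 u :=
  sw0 (s := 43) (r := 44) (by decide +kernel) u t

theorem sw_44_43' (u t : K) (z : GL Data.F4.tbl.I K) :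
    xx 44 u * (xx 43 t * z) = xx 43 t * (xx 44 u * z) := by
  simp only [← mul_assoc, sw_44_43]

theorem sw_47_43 (u t : K) : xx 47 u * xx 43 t = xx 43 t * xx 47 u :=
  sw0 (s := 43) (r := 47) (by decide +kernel) u t

theorem sw_47_43' (u t : K) (z : GL Data.F4.tbl.I K) :
    xx 47 u * (xx 43 t * z) = xx 43 t * (xx 47 u * z) := by
  simp only [← mul_assoc, sw_47_43]

theorem sw_45_43 (u t : K) : xx 45 u * xx 43 t = xx 43 t * xx 45 u :=
  sw0 (s := 43) (r := 45) (by decide +kernel) u t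

theorem sw_45_43' (u t : K) (z : GL Data.F4.tbl.I K) :
    xx 45 u * (xx 43 t * z) = xx 43 t * (xx 45 u * z) := by
  simp only [← mul_assoc, sw_45_43]

theorem sw_39_43 (u t : K) : xx 39 u * xx 43 t = xx 43 t * xx 39 u :=
  sw0 (s := 43) (r := 39) (by decide +kernel) u t

theorem sw_39_43' (u t : K) (z : GL Data.F4.tbl.I K) :
    xx 39 u * (xx 43 t * z) = xx 43 t * (xx 39 u * z) := by
  simp only [← mul_assoc, sw_39_43]

theorem sw_31_43 (u t : K) : xx 31 u * xx 43 t = xx 43 t * (xx 31 u * xx 47 (t ^ 1 * u ^ 1)) :=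
  sw1 (s := 43) (r := 31) (by decide +kernel) u t

theorem sw_31_43' (u t : K) (z : GL Data.F4.tbl.I K) :
    xx 31 u * (xx 43 t * z) = xx 43 t * (xx 31 u * (xx 47 (t ^ 1 * u ^ 1) * z)) := by
  simp only [← mul_assoc, sw_31_43]

theorem sw_35_43 (u t : K) : xx 35 u * xx 43 t = xx 43 t * xx 35 u :=
  sw0 (s := 43) (r := 35) (by decide +kernel) u t

theorem sw_35_43' (u t : K) (z : GL Data.F4.tbl.I K) :
    xx 35 u * (xx 43 t * z) = xx 43 t * (xx 35 u * z) := by
  simp only [← mul_assoc, sw_35_43]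

theorem sw_40_43 (u t : K) : xx 40 u * xx 43 t = xx 43 t * xx 40 u :=
  sw0 (s := 43) (r := 40) (by decide +kernel) u t

theorem sw_40_43' (u t : K) (z : GL Data.F4.tbl.I K) :
    xx 40 u * (xx 43 t * z) = xx 43 t * (xx 40 u * z) := by
  simp only [← mul_assoc, sw_40_43]

theorem sw_46_43 (u t : K) : xx 46 u * xx 43 t = xx 43 t * xx 46 u :=
  sw0 (s := 43) (r := 46) (by decide +kernel) u t

theorem sw_46_43' (u t : K) (z : GL Data.F4.tbl.I K) :
    xx 46 u * (xx 43 t * z) = xx 43 t * (xx 46 u * z) := by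
  simp only [← mul_assoc, sw_46_43]

theorem sw_32_43 (u t : K) : xx 32 u * xx 43 t = xx 43 t * xx 32 u :=
  sw0 (s := 43) (r := 32) (by decide +kernel) u t

theorem sw_32_43' (u t : K) (z : GL Data.F4.tbl.I K) :
    xx 32 u * (xx 43 t * z) = xx 43 t * (xx 32 u * z) := by
  simp only [← mul_assoc, sw_32_43]

theorem sw_37_43 (u t : K) : xx 37 u * xx 43 t = xx 43 t * xx 37 u :=
  sw0 (s := 43) (r := 37) (by decide +kernel) u t

theorem sw_37_43' (u t : K) (z : GL Data.F4.tbl.I K) :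
    xx 37 u * (xx 43 t * z) = xx 43 t * (xx 37 u * z) := by
  simp only [← mul_assoc, sw_37_43]

theorem sw_25_43 (u t : K) : xx 25 u * xx 43 t = xx 43 t * xx 25 u :=
  sw0 (s := 43) (r := 25) (by decide +kernel) u t

theorem sw_25_43' (u t : K) (z : GL Data.F4.tbl.I K) :
    xx 25 u * (xx 43 t * z) = xx 43 t * (xx 25 u * z) := by
  simp only [← mul_assoc, sw_25_43]

theorem sw_27_43 (u t : K) : xx 27 u * xx 43 t = xx 43 t * (xx 27 u * (xx 44 (t ^ 1 * u ^ 1) * xx 45 (t ^ 1 * u ^ 2))) :=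
  sw2 (s := 43) (r := 27) (by decide +kernel) u t

theorem sw_27_43' (u t : K) (z : GL Data.F4.tbl.I K) :
    xx 27 u * (xx 43 t * z) = xx 43 t * (xx 27 u * (xx 44 (t ^ 1 * u ^ 1) * (xx 45 (t ^ 1 * u ^ 2) * z))) := by
  simp only [← mul_assoc, sw_27_43]

theorem sw_28_43 (u t : K) : xx 28 u * xx 43 t = xx 43 t * xx 28 u :=
  sw0 (s := 43) (r := 28) (by decide +kernel) u t

theorem sw_28_43' (u t : K) (z : GL Data.F4.tbl.I K) :
    xx 28 u * (xx 43 t * z) = xx 43 t * (xx 28 u * z) := by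
  simp only [← mul_assoc, sw_28_43]

theorem sw_30_43 (u t : K) : xx 30 u * xx 43 t = xx 43 t * (xx 30 u * xx 46 (t ^ 1 * u ^ 1)) :=
  sw1 (s := 43) (r := 30) (by decide +kernel) u t

theorem sw_30_43' (u t : K) (z : GL Data.F4.tbl.I K) :
    xx 30 u * (xx 43 t * z) = xx 43 t * (xx 30 u * (xx 46 (t ^ 1 * u ^ 1) * z)) := by
  simp only [← mul_assoc, sw_30_43]

theorem sw_41_38 (u t : K) : xx 41 u * xx 38 t = xx 38 t * xx 41 u :=
  sw0 (s := 38) (r := 41) (by decide +kernel) u t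

theorem sw_41_38' (u t : K) (z : GL Data.F4.tbl.I K) :
    xx 41 u * (xx 38 t * z) = xx 38 t * (xx 41 u * z) := by
  simp only [← mul_assoc, sw_41_38]

theorem sw_29_38 (u t : K) : xx 29 u * xx 38 t = xx 38 t * xx 29 u :=
  sw0 (s := 38) (r := 29) (by decide +kernel) u t

theorem sw_29_38' (u t : K) (z : GL Data.F4.tbl.I K) :
    xx 29 u * (xx 38 t * z) = xx 38 t * (xx 29 u * z) := by
  simp only [← mul_assoc, sw_29_38]

theorem sw_44_38 (u t : K) : xx 44 u * xx 38 t = xx 38 t * xx 44 u :=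
  sw0 (s := 38) (r := 44) (by decide +kernel) u t

theorem sw_44_38' (u t : K) (z : GL Data.F4.tbl.I K) :
    xx 44 u * (xx 38 t * z) = xx 38 t * (xx 44 u * z) := by
  simp only [← mul_assoc, sw_44_38]

theorem sw_47_38 (u t : K) : xx 47 u * xx 38 t = xx 38 t * xx 47 u :=
  sw0 (s := 38) (r := 47) (by decide +kernel) u t

theorem sw_47_38' (u t : K) (z : GL Data.F4.tbl.I K) :
    xx 47 u * (xx 38 t * z) = xx 38 t * (xx 47 u * z) := by
  simp only [← mul_assoc, sw_47_38]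

theorem sw_45_38 (u t : K) : xx 45 u * xx 38 t = xx 38 t * xx 45 u :=
  sw0 (s := 38) (r := 45) (by decide +kernel) u t

theorem sw_45_38' (u t : K) (z : GL Data.F4.tbl.I K) :
    xx 45 u * (xx 38 t * z) = xx 38 t * (xx 45 u * z) := by
  simp only [← mul_assoc, sw_45_38]

theorem sw_39_38 (u t : K) : xx 39 u * xx 38 t = xx 38 t * xx 39 u :=
  sw0 (s := 38) (r := 39) (by decide +kernel) u t

theorem sw_39_38' (u t : K) (z : GL Data.F4.tbl.I K) :
    xx 39 u * (xx 38 t * z) = xx 38 t * (xx 39 u * z) := by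
  simp only [← mul_assoc, sw_39_38]

theorem sw_31_38 (u t : K) : xx 31 u * xx 38 t = xx 38 t * xx 31 u :=
  sw0 (s := 38) (r := 31) (by decide +kernel) u t

theorem sw_31_38' (u t : K) (z : GL Data.F4.tbl.I K) :
    xx 31 u * (xx 38 t * z) = xx 38 t * (xx 31 u * z) := by
  simp only [← mul_assoc, sw_31_38]

theorem sw_35_38 (u t : K) : xx 35 u * xx 38 t = xx 38 t * (xx 35 u * xx 44 (t ^ 1 * u ^ 1)) :=
  sw1 (s := 38) (r := 35) (by decide +kernel) u t

theorem sw_35_38' (u t : K) (z : GL Data.F4.tbl.I K) :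
    xx 35 u * (xx 38 t * z) = xx 38 t * (xx 35 u * (xx 44 (t ^ 1 * u ^ 1) * z)) := by
  simp only [← mul_assoc, sw_35_38]

theorem sw_40_38 (u t : K) : xx 40 u * xx 38 t = xx 38 t * xx 40 u :=
  sw0 (s := 38) (r := 40) (by decide +kernel) u t

theorem sw_40_38' (u t : K) (z : GL Data.F4.tbl.I K) :
    xx 40 u * (xx 38 t * z) = xx 38 t * (xx 40 u * z) := by
  simp only [← mul_assoc, sw_40_38]

theorem sw_46_38 (u t : K) : xx 46 u * xx 38 t = xx 38 t * xx 46 u :=
  sw0 (s := 38) (r := 46) (by decide +kernel) u t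

theorem sw_46_38' (u t : K) (z : GL Data.F4.tbl.I K) :
    xx 46 u * (xx 38 t * z) = xx 38 t * (xx 46 u * z) := by
  simp only [← mul_assoc, sw_46_38]

theorem sw_32_38 (u t : K) : xx 32 u * xx 38 t = xx 38 t * xx 32 u :=
  sw0 (s := 38) (r := 32) (by decide +kernel) u t

theorem sw_32_38' (u t : K) (z : GL Data.F4.tbl.I K) :
    xx 32 u * (xx 38 t * z) = xx 38 t * (xx 32 u * z) := by
  simp only [← mul_assoc, sw_32_38]

theorem sw_37_38 (u t : K) : xx 37 u * xx 38 t = xx 38 t * xx 37 u :=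
  sw0 (s := 38) (r := 37) (by decide +kernel) u t

theorem sw_37_38' (u t : K) (z : GL Data.F4.tbl.I K) :
    xx 37 u * (xx 38 t * z) = xx 38 t * (xx 37 u * z) := by
  simp only [← mul_assoc, sw_37_38]

theorem sw_25_38 (u t : K) : xx 25 u * xx 38 t = xx 38 t * (xx 25 u * (xx 39 (t ^ 1 * u ^ 1) * xx 47 (t ^ 2 * u ^ 1))) :=
  sw2 (s := 38) (r := 25) (by decide +kernel) u t

theorem sw_25_38' (u t : K) (z : GL Data.F4.tbl.I K) :
    xx 25 u * (xx 38 t * z) = xx 38 t * (xx 25 u * (xx 39 (t ^ 1 * u ^ 1) * (xx 47 (t ^ 2 * u ^ 1) * z))) := by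
  simp only [← mul_assoc, sw_25_38]

theorem sw_27_38 (u t : K) : xx 27 u * xx 38 t = xx 38 t * xx 27 u :=
  sw0 (s := 38) (r := 27) (by decide +kernel) u t

theorem sw_27_38' (u t : K) (z : GL Data.F4.tbl.I K) :
    xx 27 u * (xx 38 t * z) = xx 38 t * (xx 27 u * z) := by
  simp only [← mul_assoc, sw_27_38]

theorem sw_28_38 (u t : K) : xx 28 u * xx 38 t = xx 38 t * (xx 28 u * xx 40 (t ^ 1 * u ^ 1)) :=
  sw1 (s := 38) (r := 28) (by decide +kernel) u t

theorem sw_28_38' (u t : K) (z : GL Data.F4.tbl.I K) :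
    xx 28 u * (xx 38 t * z) = xx 38 t * (xx 28 u * (xx 40 (t ^ 1 * u ^ 1) * z)) := by
  simp only [← mul_assoc, sw_28_38]

theorem sw_30_38 (u t : K) : xx 30 u * xx 38 t = xx 38 t * xx 30 u :=
  sw0 (s := 38) (r := 30) (by decide +kernel) u t

theorem sw_30_38' (u t : K) (z : GL Data.F4.tbl.I K) :
    xx 30 u * (xx 38 t * z) = xx 38 t * (xx 30 u * z) := by
  simp only [← mul_assoc, sw_30_38]

theorem sw_29_41 (u t : K) : xx 29 u * xx 41 t = xx 41 t * (xx 29 u * (xx 44 (t ^ 1 * u ^ 1) * xx 47 (t ^ 1 * u ^ 2))) :=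
  sw2 (s := 41) (r := 29) (by decide +kernel) u t

theorem sw_29_41' (u t : K) (z : GL Data.F4.tbl.I K) :
    xx 29 u * (xx 41 t * z) = xx 41 t * (xx 29 u * (xx 44 (t ^ 1 * u ^ 1) * (xx 47 (t ^ 1 * u ^ 2) * z))) := by
  simp only [← mul_assoc, sw_29_41]

theorem sw_44_41 (u t : K) : xx 44 u * xx 41 t = xx 41 t * xx 44 u :=
  sw0 (s := 41) (r := 44) (by decide +kernel) u t

theorem sw_44_41' (u t : K) (z : GL Data.F4.tbl.I K) :
    xx 44 u * (xx 41 t * z) = xx 41 t * (xx 44 u * z) := by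
  simp only [← mul_assoc, sw_44_41]

theorem sw_47_41 (u t : K) : xx 47 u * xx 41 t = xx 41 t * xx 47 u :=
  sw0 (s := 41) (r := 47) (by decide +kernel) u t

theorem sw_47_41' (u t : K) (z : GL Data.F4.tbl.I K) :
    xx 47 u * (xx 41 t * z) = xx 41 t * (xx 47 u * z) := by
  simp only [← mul_assoc, sw_47_41]

theorem sw_45_41 (u t : K) : xx 45 u * xx 41 t = xx 41 t * xx 45 u :=
  sw0 (s := 41) (r := 45) (by decide +kernel) u t

theorem sw_45_41' (u t : K) (z : GL Data.F4.tbl.I K) :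
    xx 45 u * (xx 41 t * z) = xx 41 t * (xx 45 u * z) := by
  simp only [← mul_assoc, sw_45_41]

theorem sw_39_41 (u t : K) : xx 39 u * xx 41 t = xx 41 t * xx 39 u :=
  sw0 (s := 41) (r := 39) (by decide +kernel) u t

theorem sw_39_41' (u t : K) (z : GL Data.F4.tbl.I K) :
    xx 39 u * (xx 41 t * z) = xx 41 t * (xx 39 u * z) := by
  simp only [← mul_assoc, sw_39_41]

theorem sw_31_41 (u t : K) : xx 31 u * xx 41 t = xx 41 t * (xx 31 u * xx 45 (t ^ 1 * u ^ 1)) :=
  sw1 (s := 41) (r := 31) (by decide +kernel) u t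

theorem sw_31_41' (u t : K) (z : GL Data.F4.tbl.I K) :
    xx 31 u * (xx 41 t * z) = xx 41 t * (xx 31 u * (xx 45 (t ^ 1 * u ^ 1) * z)) := by
  simp only [← mul_assoc, sw_31_41]

theorem sw_35_41 (u t : K) : xx 35 u * xx 41 t = xx 41 t * xx 35 u :=
  sw0 (s := 41) (r := 35) (by decide +kernel) u t

theorem sw_35_41' (u t : K) (z : GL Data.F4.tbl.I K) :
    xx 35 u * (xx 41 t * z) = xx 41 t * (xx 35 u * z) := by
  simp only [← mul_assoc, sw_35_41]

theorem sw_40_41 (u t : K) : xx 40 u * xx 41 t = xx 41 t * xx 40 u :=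
  sw0 (s := 41) (r := 40) (by decide +kernel) u t

theorem sw_40_41' (u t : K) (z : GL Data.F4.tbl.I K) :
    xx 40 u * (xx 41 t * z) = xx 41 t * (xx 40 u * z) := by
  simp only [← mul_assoc, sw_40_41]

theorem sw_46_41 (u t : K) : xx 46 u * xx 41 t = xx 41 t * xx 46 u :=
  sw0 (s := 41) (r := 46) (by decide +kernel) u t

theorem sw_46_41' (u t : K) (z : GL Data.F4.tbl.I K) :
    xx 46 u * (xx 41 t * z) = xx 41 t * (xx 46 u * z) := by
  simp only [← mul_assoc, sw_46_41]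

theorem sw_32_41 (u t : K) : xx 32 u * xx 41 t = xx 41 t * (xx 32 u * xx 46 (t ^ 1 * u ^ 1)) :=
  sw1 (s := 41) (r := 32) (by decide +kernel) u t

theorem sw_32_41' (u t : K) (z : GL Data.F4.tbl.I K) :
    xx 32 u * (xx 41 t * z) = xx 41 t * (xx 32 u * (xx 46 (t ^ 1 * u ^ 1) * z)) := by
  simp only [← mul_assoc, sw_32_41]

theorem sw_37_41 (u t : K) : xx 37 u * xx 41 t = xx 41 t * xx 37 u :=
  sw0 (s := 41) (r := 37) (by decide +kernel) u t

theorem sw_37_41' (u t : K) (z : GL Data.F4.tbl.I K) :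
    xx 37 u * (xx 41 t * z) = xx 41 t * (xx 37 u * z) := by
  simp only [← mul_assoc, sw_37_41]

theorem sw_25_41 (u t : K) : xx 25 u * xx 41 t = xx 41 t * xx 25 u :=
  sw0 (s := 41) (r := 25) (by decide +kernel) u t

theorem sw_25_41' (u t : K) (z : GL Data.F4.tbl.I K) :
    xx 25 u * (xx 41 t * z) = xx 41 t * (xx 25 u * z) := by
  simp only [← mul_assoc, sw_25_41]

theorem sw_27_41 (u t : K) : xx 27 u * xx 41 t = xx 41 t * xx 27 u :=
  sw0 (s := 41) (r := 27) (by decide +kernel) u t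

theorem sw_27_41' (u t : K) (z : GL Data.F4.tbl.I K) :
    xx 27 u * (xx 41 t * z) = xx 41 t * (xx 27 u * z) := by
  simp only [← mul_assoc, sw_27_41]

theorem sw_28_41 (u t : K) : xx 28 u * xx 41 t = xx 41 t * xx 28 u :=
  sw0 (s := 41) (r := 28) (by decide +kernel) u t

theorem sw_28_41' (u t : K) (z : GL Data.F4.tbl.I K) :
    xx 28 u * (xx 41 t * z) = xx 41 t * (xx 28 u * z) := by
  simp only [← mul_assoc, sw_28_41]

theorem sw_30_41 (u t : K) : xx 30 u * xx 41 t = xx 41 t * xx 30 u :=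
  sw0 (s := 41) (r := 30) (by decide +kernel) u t

theorem sw_30_41' (u t : K) (z : GL Data.F4.tbl.I K) :
    xx 30 u * (xx 41 t * z) = xx 41 t * (xx 30 u * z) := by
  simp only [← mul_assoc, sw_30_41]

theorem sw_44_29 (u t : K) : xx 44 u * xx 29 t = xx 29 t * xx 44 u :=
  sw0 (s := 29) (r := 44) (by decide +kernel) u t

theorem sw_44_29' (u t : K) (z : GL Data.F4.tbl.I K) :
    xx 44 u * (xx 29 t * z) = xx 29 t * (xx 44 u * z) := by
  simp only [← mul_assoc, sw_44_29]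

theorem sw_47_29 (u t : K) : xx 47 u * xx 29 t = xx 29 t * xx 47 u :=
  sw0 (s := 29) (r := 47) (by decide +kernel) u t

theorem sw_47_29' (u t : K) (z : GL Data.F4.tbl.I K) :
    xx 47 u * (xx 29 t * z) = xx 29 t * (xx 47 u * z) := by
  simp only [← mul_assoc, sw_47_29]

theorem sw_45_29 (u t : K) : xx 45 u * xx 29 t = xx 29 t * xx 45 u :=
  sw0 (s := 29) (r := 45) (by decide +kernel) u t

theorem sw_45_29' (u t : K) (z : GL Data.F4.tbl.I K) :
    xx 45 u * (xx 29 t * z) = xx 29 t * (xx 45 u * z) := by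
  simp only [← mul_assoc, sw_45_29]

theorem sw_39_29 (u t : K) : xx 39 u * xx 29 t = xx 29 t * xx 39 u :=
  sw0 (s := 29) (r := 39) (by decide +kernel) u t

theorem sw_39_29' (u t : K) (z : GL Data.F4.tbl.I K) :
    xx 39 u * (xx 29 t * z) = xx 29 t * (xx 39 u * z) := by
  simp only [← mul_assoc, sw_39_29]

theorem sw_31_29 (u t : K) : xx 31 u * xx 29 t = xx 29 t * xx 31 u :=
  sw0 (s := 29) (r := 31) (by decide +kernel) u t

theorem sw_31_29' (u t : K) (z : GL Data.F4.tbl.I K) :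
    xx 31 u * (xx 29 t * z) = xx 29 t * (xx 31 u * z) := by
  simp only [← mul_assoc, sw_31_29]

theorem sw_35_29 (u t : K) : xx 35 u * xx 29 t = xx 29 t * (xx 35 u * xx 39 (t ^ 1 * u ^ 1)) :=
  sw1 (s := 29) (r := 35) (by decide +kernel) u t

theorem sw_35_29' (u t : K) (z : GL Data.F4.tbl.I K) :
    xx 35 u * (xx 29 t * z) = xx 29 t * (xx 35 u * (xx 39 (t ^ 1 * u ^ 1) * z)) := by
  simp only [← mul_assoc, sw_35_29]

theorem sw_40_29 (u t : K) : xx 40 u * xx 29 t = xx 29 t * xx 40 u :=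
  sw0 (s := 29) (r := 40) (by decide +kernel) u t

theorem sw_40_29' (u t : K) (z : GL Data.F4.tbl.I K) :
    xx 40 u * (xx 29 t * z) = xx 29 t * (xx 40 u * z) := by
  simp only [← mul_assoc, sw_40_29]

theorem sw_46_29 (u t : K) : xx 46 u * xx 29 t = xx 29 t * xx 46 u :=
  sw0 (s := 29) (r := 46) (by decide +kernel) u t

theorem sw_46_29' (u t : K) (z : GL Data.F4.tbl.I K) :
    xx 46 u * (xx 29 t * z) = xx 29 t * (xx 46 u * z) := by
  simp only [← mul_assoc, sw_46_29]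

theorem sw_32_29 (u t : K) : xx 32 u * xx 29 t = xx 29 t * xx 32 u :=
  sw0 (s := 29) (r := 32) (by decide +kernel) u t

theorem sw_32_29' (u t : K) (z : GL Data.F4.tbl.I K) :
    xx 32 u * (xx 29 t * z) = xx 29 t * (xx 32 u * z) := by
  simp only [← mul_assoc, sw_32_29]

theorem sw_37_29 (u t : K) : xx 37 u * xx 29 t = xx 29 t * (xx 37 u * xx 40 (t ^ 1 * u ^ 1)) :=
  sw1 (s := 29) (r := 37) (by decide +kernel) u t

theorem sw_37_29' (u t : K) (z : GL Data.F4.tbl.I K) :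
    xx 37 u * (xx 29 t * z) = xx 29 t * (xx 37 u * (xx 40 (t ^ 1 * u ^ 1) * z)) := by
  simp only [← mul_assoc, sw_37_29]

theorem sw_25_29 (u t : K) : xx 25 u * xx 29 t = xx 29 t * xx 25 u :=
  sw0 (s := 29) (r := 25) (by decide +kernel) u t

theorem sw_25_29' (u t : K) (z : GL Data.F4.tbl.I K) :
    xx 25 u * (xx 29 t * z) = xx 29 t * (xx 25 u * z) := by
  simp only [← mul_assoc, sw_25_29]

theorem sw_27_29 (u t : K) : xx 27 u * xx 29 t = xx 29 t * xx 27 u :=
  sw0 (s := 29) (r := 27) (by decide +kernel) u t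

theorem sw_27_29' (u t : K) (z : GL Data.F4.tbl.I K) :
    xx 27 u * (xx 29 t * z) = xx 29 t * (xx 27 u * z) := by
  simp only [← mul_assoc, sw_27_29]

theorem sw_28_29 (u t : K) : xx 28 u * xx 29 t = xx 29 t * xx 28 u :=
  sw0 (s := 29) (r := 28) (by decide +kernel) u t

theorem sw_28_29' (u t : K) (z : GL Data.F4.tbl.I K) :
    xx 28 u * (xx 29 t * z) = xx 29 t * (xx 28 u * z) := by
  simp only [← mul_assoc, sw_28_29]

theorem sw_30_29 (u t : K) : xx 30 u * xx 29 t = xx 29 t * xx 30 u :=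
  sw0 (s := 29) (r := 30) (by decide +kernel) u t

theorem sw_30_29' (u t : K) (z : GL Data.F4.tbl.I K) :
    xx 30 u * (xx 29 t * z) = xx 29 t * (xx 30 u * z) := by
  simp only [← mul_assoc, sw_30_29]

theorem sw_47_44 (u t : K) : xx 47 u * xx 44 t = xx 44 t * xx 47 u :=
  sw0 (s := 44) (r := 47) (by decide +kernel) u t

theorem sw_47_44' (u t : K) (z : GL Data.F4.tbl.I K) :
    xx 47 u * (xx 44 t * z) = xx 44 t * (xx 47 u * z) := by
  simp only [← mul_assoc, sw_47_44]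

theorem sw_45_44 (u t : K) : xx 45 u * xx 44 t = xx 44 t * xx 45 u :=
  sw0 (s := 44) (r := 45) (by decide +kernel) u t

theorem sw_45_44' (u t : K) (z : GL Data.F4.tbl.I K) :
    xx 45 u * (xx 44 t * z) = xx 44 t * (xx 45 u * z) := by
  simp only [← mul_assoc, sw_45_44]

theorem sw_39_44 (u t : K) : xx 39 u * xx 44 t = xx 44 t * xx 39 u :=
  sw0 (s := 44) (r := 39) (by decide +kernel) u t

theorem sw_39_44' (u t : K) (z : GL Data.F4.tbl.I K) :
    xx 39 u * (xx 44 t * z) = xx 44 t * (xx 39 u * z) := by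
  simp only [← mul_assoc, sw_39_44]

theorem sw_31_44 (u t : K) : xx 31 u * xx 44 t = xx 44 t * xx 31 u :=
  sw0 (s := 44) (r := 31) (by decide +kernel) u t

theorem sw_31_44' (u t : K) (z : GL Data.F4.tbl.I K) :
    xx 31 u * (xx 44 t * z) = xx 44 t * (xx 31 u * z) := by
  simp only [← mul_assoc, sw_31_44]

theorem sw_35_44 (u t : K) : xx 35 u * xx 44 t = xx 44 t * xx 35 u :=
  sw0 (s := 44) (r := 35) (by decide +kernel) u t

theorem sw_35_44' (u t : K) (z : GL Data.F4.tbl.I K) :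
    xx 35 u * (xx 44 t * z) = xx 44 t * (xx 35 u * z) := by
  simp only [← mul_assoc, sw_35_44]

theorem sw_40_44 (u t : K) : xx 40 u * xx 44 t = xx 44 t * xx 40 u :=
  sw0 (s := 44) (r := 40) (by decide +kernel) u t

theorem sw_40_44' (u t : K) (z : GL Data.F4.tbl.I K) :
    xx 40 u * (xx 44 t * z) = xx 44 t * (xx 40 u * z) := by
  simp only [← mul_assoc, sw_40_44]

theorem sw_46_44 (u t : K) : xx 46 u * xx 44 t = xx 44 t * xx 46 u :=
  sw0 (s := 44) (r := 46) (by decide +kernel) u t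

theorem sw_46_44' (u t : K) (z : GL Data.F4.tbl.I K) :
    xx 46 u * (xx 44 t * z) = xx 44 t * (xx 46 u * z) := by
  simp only [← mul_assoc, sw_46_44]

theorem sw_32_44 (u t : K) : xx 32 u * xx 44 t = xx 44 t * xx 32 u :=
  sw0 (s := 44) (r := 32) (by decide +kernel) u t

theorem sw_32_44' (u t : K) (z : GL Data.F4.tbl.I K) :
    xx 32 u * (xx 44 t * z) = xx 44 t * (xx 32 u * z) := by
  simp only [← mul_assoc, sw_32_44]

theorem sw_37_44 (u t : K) : xx 37 u * xx 44 t = xx 44 t * xx 37 u :=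
  sw0 (s := 44) (r := 37) (by decide +kernel) u t

theorem sw_37_44' (u t : K) (z : GL Data.F4.tbl.I K) :
    xx 37 u * (xx 44 t * z) = xx 44 t * (xx 37 u * z) := by
  simp only [← mul_assoc, sw_37_44]

theorem sw_25_44 (u t : K) : xx 25 u * xx 44 t = xx 44 t * xx 25 u :=
  sw0 (s := 44) (r := 25) (by decide +kernel) u t

theorem sw_25_44' (u t : K) (z : GL Data.F4.tbl.I K) :
    xx 25 u * (xx 44 t * z) = xx 44 t * (xx 25 u * z) := by
  simp only [← mul_assoc, sw_25_44]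

theorem sw_27_44 (u t : K) : xx 27 u * xx 44 t = xx 44 t * xx 27 u :=
  sw0 (s := 44) (r := 27) (by decide +kernel) u t

theorem sw_27_44' (u t : K) (z : GL Data.F4.tbl.I K) :
    xx 27 u * (xx 44 t * z) = xx 44 t * (xx 27 u * z) := by
  simp only [← mul_assoc, sw_27_44]

theorem sw_28_44 (u t : K) : xx 28 u * xx 44 t = xx 44 t * xx 28 u :=
  sw0 (s := 44) (r := 28) (by decide +kernel) u t

theorem sw_28_44' (u t : K) (z : GL Data.F4.tbl.I K) :
    xx 28 u * (xx 44 t * z) = xx 44 t * (xx 28 u * z) := by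
  simp only [← mul_assoc, sw_28_44]

theorem sw_30_44 (u t : K) : xx 30 u * xx 44 t = xx 44 t * xx 30 u :=
  sw0 (s := 44) (r := 30) (by decide +kernel) u t

theorem sw_30_44' (u t : K) (z : GL Data.F4.tbl.I K) :
    xx 30 u * (xx 44 t * z) = xx 44 t * (xx 30 u * z) := by
  simp only [← mul_assoc, sw_30_44]

theorem sw_45_47 (u t : K) : xx 45 u * xx 47 t = xx 47 t * xx 45 u :=
  sw0 (s := 47) (r := 45) (by decide +kernel) u t

theorem sw_45_47' (u t : K) (z : GL Data.F4.tbl.I K) :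
    xx 45 u * (xx 47 t * z) = xx 47 t * (xx 45 u * z) := by
  simp only [← mul_assoc, sw_45_47]

theorem sw_39_47 (u t : K) : xx 39 u * xx 47 t = xx 47 t * xx 39 u :=
  sw0 (s := 47) (r := 39) (by decide +kernel) u t

theorem sw_39_47' (u t : K) (z : GL Data.F4.tbl.I K) :
    xx 39 u * (xx 47 t * z) = xx 47 t * (xx 39 u * z) := by
  simp only [← mul_assoc, sw_39_47]

theorem sw_31_47 (u t : K) : xx 31 u * xx 47 t = xx 47 t * xx 31 u :=
  sw0 (s := 47) (r := 31) (by decide +kernel) u t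

theorem sw_31_47' (u t : K) (z : GL Data.F4.tbl.I K) :
    xx 31 u * (xx 47 t * z) = xx 47 t * (xx 31 u * z) := by
  simp only [← mul_assoc, sw_31_47]

theorem sw_35_47 (u t : K) : xx 35 u * xx 47 t = xx 47 t * xx 35 u :=
  sw0 (s := 47) (r := 35) (by decide +kernel) u t

theorem sw_35_47' (u t : K) (z : GL Data.F4.tbl.I K) :
    xx 35 u * (xx 47 t * z) = xx 47 t * (xx 35 u * z) := by
  simp only [← mul_assoc, sw_35_47]

theorem sw_40_47 (u t : K) : xx 40 u * xx 47 t = xx 47 t * xx 40 u :=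
  sw0 (s := 47) (r := 40) (by decide +kernel) u t

theorem sw_40_47' (u t : K) (z : GL Data.F4.tbl.I K) :
    xx 40 u * (xx 47 t * z) = xx 47 t * (xx 40 u * z) := by
  simp only [← mul_assoc, sw_40_47]

theorem sw_46_47 (u t : K) : xx 46 u * xx 47 t = xx 47 t * xx 46 u :=
  sw0 (s := 47) (r := 46) (by decide +kernel) u t

theorem sw_46_47' (u t : K) (z : GL Data.F4.tbl.I K) :
    xx 46 u * (xx 47 t * z) = xx 47 t * (xx 46 u * z) := by
  simp only [← mul_assoc, sw_46_47]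

theorem sw_32_47 (u t : K) : xx 32 u * xx 47 t = xx 47 t * xx 32 u :=
  sw0 (s := 47) (r := 32) (by decide +kernel) u t

theorem sw_32_47' (u t : K) (z : GL Data.F4.tbl.I K) :
    xx 32 u * (xx 47 t * z) = xx 47 t * (xx 32 u * z) := by
  simp only [← mul_assoc, sw_32_47]

theorem sw_37_47 (u t : K) : xx 37 u * xx 47 t = xx 47 t * xx 37 u :=
  sw0 (s := 47) (r := 37) (by decide +kernel) u t

theorem sw_37_47' (u t : K) (z : GL Data.F4.tbl.I K) :
    xx 37 u * (xx 47 t * z) = xx 47 t * (xx 37 u * z) := by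
  simp only [← mul_assoc, sw_37_47]

theorem sw_25_47 (u t : K) : xx 25 u * xx 47 t = xx 47 t * xx 25 u :=
  sw0 (s := 47) (r := 25) (by decide +kernel) u t

theorem sw_25_47' (u t : K) (z : GL Data.F4.tbl.I K) :
    xx 25 u * (xx 47 t * z) = xx 47 t * (xx 25 u * z) := by
  simp only [← mul_assoc, sw_25_47]

theorem sw_27_47 (u t : K) : xx 27 u * xx 47 t = xx 47 t * xx 27 u :=
  sw0 (s := 47) (r := 27) (by decide +kernel) u t

theorem sw_27_47' (u t : K) (z : GL Data.F4.tbl.I K) :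
    xx 27 u * (xx 47 t * z) = xx 47 t * (xx 27 u * z) := by
  simp only [← mul_assoc, sw_27_47]

theorem sw_28_47 (u t : K) : xx 28 u * xx 47 t = xx 47 t * xx 28 u :=
  sw0 (s := 47) (r := 28) (by decide +kernel) u t

theorem sw_28_47' (u t : K) (z : GL Data.F4.tbl.I K) :
    xx 28 u * (xx 47 t * z) = xx 47 t * (xx 28 u * z) := by
  simp only [← mul_assoc, sw_28_47]

theorem sw_30_47 (u t : K) : xx 30 u * xx 47 t = xx 47 t * xx 30 u :=
  sw0 (s := 47) (r := 30) (by decide +kernel) u t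

theorem sw_30_47' (u t : K) (z : GL Data.F4.tbl.I K) :
    xx 30 u * (xx 47 t * z) = xx 47 t * (xx 30 u * z) := by
  simp only [← mul_assoc, sw_30_47]

theorem sw_39_45 (u t : K) : xx 39 u * xx 45 t = xx 45 t * xx 39 u :=
  sw0 (s := 45) (r := 39) (by decide +kernel) u t

theorem sw_39_45' (u t : K) (z : GL Data.F4.tbl.I K) :
    xx 39 u * (xx 45 t * z) = xx 45 t * (xx 39 u * z) := by
  simp only [← mul_assoc, sw_39_45]

theorem sw_31_45 (u t : K) : xx 31 u * xx 45 t = xx 45 t * xx 31 u :=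
  sw0 (s := 45) (r := 31) (by decide +kernel) u t

theorem sw_31_45' (u t : K) (z : GL Data.F4.tbl.I K) :
    xx 31 u * (xx 45 t * z) = xx 45 t * (xx 31 u * z) := by
  simp only [← mul_assoc, sw_31_45]

theorem sw_35_45 (u t : K) : xx 35 u * xx 45 t = xx 45 t * xx 35 u :=
  sw0 (s := 45) (r := 35) (by decide +kernel) u t

theorem sw_35_45' (u t : K) (z : GL Data.F4.tbl.I K) :
    xx 35 u * (xx 45 t * z) = xx 45 t * (xx 35 u * z) := by
  simp only [← mul_assoc, sw_35_45]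

theorem sw_40_45 (u t : K) : xx 40 u * xx 45 t = xx 45 t * xx 40 u :=
  sw0 (s := 45) (r := 40) (by decide +kernel) u t

theorem sw_40_45' (u t : K) (z : GL Data.F4.tbl.I K) :
    xx 40 u * (xx 45 t * z) = xx 45 t * (xx 40 u * z) := by
  simp only [← mul_assoc, sw_40_45]

theorem sw_46_45 (u t : K) : xx 46 u * xx 45 t = xx 45 t * xx 46 u :=
  sw0 (s := 45) (r := 46) (by decide +kernel) u t

theorem sw_46_45' (u t : K) (z : GL Data.F4.tbl.I K) :
    xx 46 u * (xx 45 t * z) = xx 45 t * (xx 46 u * z) := by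
  simp only [← mul_assoc, sw_46_45]

theorem sw_32_45 (u t : K) : xx 32 u * xx 45 t = xx 45 t * xx 32 u :=
  sw0 (s := 45) (r := 32) (by decide +kernel) u t

theorem sw_32_45' (u t : K) (z : GL Data.F4.tbl.I K) :
    xx 32 u * (xx 45 t * z) = xx 45 t * (xx 32 u * z) := by
  simp only [← mul_assoc, sw_32_45]

theorem sw_37_45 (u t : K) : xx 37 u * xx 45 t = xx 45 t * xx 37 u :=
  sw0 (s := 45) (r := 37) (by decide +kernel) u t

theorem sw_37_45' (u t : K) (z : GL Data.F4.tbl.I K) :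
    xx 37 u * (xx 45 t * z) = xx 45 t * (xx 37 u * z) := by
  simp only [← mul_assoc, sw_37_45]

theorem sw_25_45 (u t : K) : xx 25 u * xx 45 t = xx 45 t * (xx 25 u * xx 46 (t ^ 1 * u ^ 1)) :=
  sw1 (s := 45) (r := 25) (by decide +kernel) u t

theorem sw_25_45' (u t : K) (z : GL Data.F4.tbl.I K) :
    xx 25 u * (xx 45 t * z) = xx 45 t * (xx 25 u * (xx 46 (t ^ 1 * u ^ 1) * z)) := by
  simp only [← mul_assoc, sw_25_45]

theorem sw_27_45 (u t : K) : xx 27 u * xx 45 t = xx 45 t * xx 27 u :=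
  sw0 (s := 45) (r := 27) (by decide +kernel) u t

theorem sw_27_45' (u t : K) (z : GL Data.F4.tbl.I K) :
    xx 27 u * (xx 45 t * z) = xx 45 t * (xx 27 u * z) := by
  simp only [← mul_assoc, sw_27_45]

theorem sw_28_45 (u t : K) : xx 28 u * xx 45 t = xx 45 t * xx 28 u :=
  sw0 (s := 45) (r := 28) (by decide +kernel) u t

theorem sw_28_45' (u t : K) (z : GL Data.F4.tbl.I K) :
    xx 28 u * (xx 45 t * z) = xx 45 t * (xx 28 u * z) := by
  simp only [← mul_assoc, sw_28_45]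

theorem sw_30_45 (u t : K) : xx 30 u * xx 45 t = xx 45 t * xx 30 u :=
  sw0 (s := 45) (r := 30) (by decide +kernel) u t

theorem sw_30_45' (u t : K) (z : GL Data.F4.tbl.I K) :
    xx 30 u * (xx 45 t * z) = xx 45 t * (xx 30 u * z) := by
  simp only [← mul_assoc, sw_30_45]

theorem sw_31_39 (u t : K) : xx 31 u * xx 39 t = xx 39 t * xx 31 u :=
  sw0 (s := 39) (r := 31) (by decide +kernel) u t

theorem sw_31_39' (u t : K) (z : GL Data.F4.tbl.I K) :
    xx 31 u * (xx 39 t * z) = xx 39 t * (xx 31 u * z) := by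
  simp only [← mul_assoc, sw_31_39]

theorem sw_35_39 (u t : K) : xx 35 u * xx 39 t = xx 39 t * xx 35 u :=
  sw0 (s := 39) (r := 35) (by decide +kernel) u t

theorem sw_35_39' (u t : K) (z : GL Data.F4.tbl.I K) :
    xx 35 u * (xx 39 t * z) = xx 39 t * (xx 35 u * z) := by
  simp only [← mul_assoc, sw_35_39]

theorem sw_40_39 (u t : K) : xx 40 u * xx 39 t = xx 39 t * xx 40 u :=
  sw0 (s := 39) (r := 40) (by decide +kernel) u t

theorem sw_40_39' (u t : K) (z : GL Data.F4.tbl.I K) :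
    xx 40 u * (xx 39 t * z) = xx 39 t * (xx 40 u * z) := by
  simp only [← mul_assoc, sw_40_39]

theorem sw_46_39 (u t : K) : xx 46 u * xx 39 t = xx 39 t * xx 46 u :=
  sw0 (s := 39) (r := 46) (by decide +kernel) u t

theorem sw_46_39' (u t : K) (z : GL Data.F4.tbl.I K) :
    xx 46 u * (xx 39 t * z) = xx 39 t * (xx 46 u * z) := by
  simp only [← mul_assoc, sw_46_39]

theorem sw_32_39 (u t : K) : xx 32 u * xx 39 t = xx 39 t * xx 32 u :=
  sw0 (s := 39) (r := 32) (by decide +kernel) u t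

theorem sw_32_39' (u t : K) (z : GL Data.F4.tbl.I K) :
    xx 32 u * (xx 39 t * z) = xx 39 t * (xx 32 u * z) := by
  simp only [← mul_assoc, sw_32_39]

theorem sw_37_39 (u t : K) : xx 37 u * xx 39 t = xx 39 t * xx 37 u :=
  sw0 (s := 39) (r := 37) (by decide +kernel) u t

theorem sw_37_39' (u t : K) (z : GL Data.F4.tbl.I K) :
    xx 37 u * (xx 39 t * z) = xx 39 t * (xx 37 u * z) := by
  simp only [← mul_assoc, sw_37_39]

theorem sw_25_39 (u t : K) : xx 25 u * xx 39 t = xx 39 t * xx 25 u :=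
  sw0 (s := 39) (r := 25) (by decide +kernel) u t

theorem sw_25_39' (u t : K) (z : GL Data.F4.tbl.I K) :
    xx 25 u * (xx 39 t * z) = xx 39 t * (xx 25 u * z) := by
  simp only [← mul_assoc, sw_25_39]

theorem sw_27_39 (u t : K) : xx 27 u * xx 39 t = xx 39 t * (xx 27 u * xx 40 (t ^ 1 * u ^ 1)) :=
  sw1 (s := 39) (r := 27) (by decide +kernel) u t

theorem sw_27_39' (u t : K) (z : GL Data.F4.tbl.I K) :
    xx 27 u * (xx 39 t * z) = xx 39 t * (xx 27 u * (xx 40 (t ^ 1 * u ^ 1) * z)) := by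
  simp only [← mul_assoc, sw_27_39]

theorem sw_28_39 (u t : K) : xx 28 u * xx 39 t = xx 39 t * xx 28 u :=
  sw0 (s := 39) (r := 28) (by decide +kernel) u t

theorem sw_28_39' (u t : K) (z : GL Data.F4.tbl.I K) :
    xx 28 u * (xx 39 t * z) = xx 39 t * (xx 28 u * z) := by
  simp only [← mul_assoc, sw_28_39]

theorem sw_30_39 (u t : K) : xx 30 u * xx 39 t = xx 39 t * xx 30 u :=
  sw0 (s := 39) (r := 30) (by decide +kernel) u t

theorem sw_30_39' (u t : K) (z : GL Data.F4.tbl.I K) :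
    xx 30 u * (xx 39 t * z) = xx 39 t * (xx 30 u * z) := by
  simp only [← mul_assoc, sw_30_39]

theorem sw_35_31 (u t : K) : xx 35 u * xx 31 t = xx 31 t * (xx 35 u * (xx 40 (t ^ 1 * u ^ 1) * xx 46 (t ^ 1 * u ^ 2))) :=
  sw2 (s := 31) (r := 35) (by decide +kernel) u t

theorem sw_35_31' (u t : K) (z : GL Data.F4.tbl.I K) :
    xx 35 u * (xx 31 t * z) = xx 31 t * (xx 35 u * (xx 40 (t ^ 1 * u ^ 1) * (xx 46 (t ^ 1 * u ^ 2) * z))) := by
  simp only [← mul_assoc, sw_35_31]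

theorem sw_40_31 (u t : K) : xx 40 u * xx 31 t = xx 31 t * xx 40 u :=
  sw0 (s := 31) (r := 40) (by decide +kernel) u t

theorem sw_40_31' (u t : K) (z : GL Data.F4.tbl.I K) :
    xx 40 u * (xx 31 t * z) = xx 31 t * (xx 40 u * z) := by
  simp only [← mul_assoc, sw_40_31]

theorem sw_46_31 (u t : K) : xx 46 u * xx 31 t = xx 31 t * xx 46 u :=
  sw0 (s := 31) (r := 46) (by decide +kernel) u t

theorem sw_46_31' (u t : K) (z : GL Data.F4.tbl.I K) :
    xx 46 u * (xx 31 t * z) = xx 31 t * (xx 46 u * z) := by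
  simp only [← mul_assoc, sw_46_31]

theorem sw_32_31 (u t : K) : xx 32 u * xx 31 t = xx 31 t * xx 32 u :=
  sw0 (s := 31) (r := 32) (by decide +kernel) u t

theorem sw_32_31' (u t : K) (z : GL Data.F4.tbl.I K) :
    xx 32 u * (xx 31 t * z) = xx 31 t * (xx 32 u * z) := by
  simp only [← mul_assoc, sw_32_31]

theorem sw_37_31 (u t : K) : xx 37 u * xx 31 t = xx 31 t * xx 37 u :=
  sw0 (s := 31) (r := 37) (by decide +kernel) u t

theorem sw_37_31' (u t : K) (z : GL Data.F4.tbl.I K) :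
    xx 37 u * (xx 31 t * z) = xx 31 t * (xx 37 u * z) := by
  simp only [← mul_assoc, sw_37_31]

theorem sw_25_31 (u t : K) : xx 25 u * xx 31 t = xx 31 t * (xx 25 u * xx 32 (t ^ 1 * u ^ 1)) :=
  sw1 (s := 31) (r := 25) (by decide +kernel) u t

theorem sw_25_31' (u t : K) (z : GL Data.F4.tbl.I K) :
    xx 25 u * (xx 31 t * z) = xx 31 t * (xx 25 u * (xx 32 (t ^ 1 * u ^ 1) * z)) := by
  simp only [← mul_assoc, sw_25_31]

theorem sw_27_31 (u t : K) : xx 27 u * xx 31 t = xx 31 t * xx 27 u :=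
  sw0 (s := 31) (r := 27) (by decide +kernel) u t

theorem sw_27_31' (u t : K) (z : GL Data.F4.tbl.I K) :
    xx 27 u * (xx 31 t * z) = xx 31 t * (xx 27 u * z) := by
  simp only [← mul_assoc, sw_27_31]

theorem sw_28_31 (u t : K) : xx 28 u * xx 31 t = xx 31 t * xx 28 u :=
  sw0 (s := 31) (r := 28) (by decide +kernel) u t

theorem sw_28_31' (u t : K) (z : GL Data.F4.tbl.I K) :
    xx 28 u * (xx 31 t * z) = xx 31 t * (xx 28 u * z) := by
  simp only [← mul_assoc, sw_28_31]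

theorem sw_30_31 (u t : K) : xx 30 u * xx 31 t = xx 31 t * xx 30 u :=
  sw0 (s := 31) (r := 30) (by decide +kernel) u t

theorem sw_30_31' (u t : K) (z : GL Data.F4.tbl.I K) :
    xx 30 u * (xx 31 t * z) = xx 31 t * (xx 30 u * z) := by
  simp only [← mul_assoc, sw_30_31]

theorem sw_40_35 (u t : K) : xx 40 u * xx 35 t = xx 35 t * xx 40 u :=
  sw0 (s := 35) (r := 40) (by decide +kernel) u t

theorem sw_40_35' (u t : K) (z : GL Data.F4.tbl.I K) :
    xx 40 u * (xx 35 t * z) = xx 35 t * (xx 40 u * z) := by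
  simp only [← mul_assoc, sw_40_35]

theorem sw_46_35 (u t : K) : xx 46 u * xx 35 t = xx 35 t * xx 46 u :=
  sw0 (s := 35) (r := 46) (by decide +kernel) u t

theorem sw_46_35' (u t : K) (z : GL Data.F4.tbl.I K) :
    xx 46 u * (xx 35 t * z) = xx 35 t * (xx 46 u * z) := by
  simp only [← mul_assoc, sw_46_35]

theorem sw_32_35 (u t : K) : xx 32 u * xx 35 t = xx 35 t * xx 32 u :=
  sw0 (s := 35) (r := 32) (by decide +kernel) u t

theorem sw_32_35' (u t : K) (z : GL Data.F4.tbl.I K) :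
    xx 32 u * (xx 35 t * z) = xx 35 t * (xx 32 u * z) := by
  simp only [← mul_assoc, sw_32_35]

theorem sw_37_35 (u t : K) : xx 37 u * xx 35 t = xx 35 t * xx 37 u :=
  sw0 (s := 35) (r := 37) (by decide +kernel) u t

theorem sw_37_35' (u t : K) (z : GL Data.F4.tbl.I K) :
    xx 37 u * (xx 35 t * z) = xx 35 t * (xx 37 u * z) := by
  simp only [← mul_assoc, sw_37_35]

theorem sw_25_35 (u t : K) : xx 25 u * xx 35 t = xx 35 t * xx 25 u :=
  sw0 (s := 35) (r := 25) (by decide +kernel) u t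

theorem sw_25_35' (u t : K) (z : GL Data.F4.tbl.I K) :
    xx 25 u * (xx 35 t * z) = xx 35 t * (xx 25 u * z) := by
  simp only [← mul_assoc, sw_25_35]

theorem sw_27_35 (u t : K) : xx 27 u * xx 35 t = xx 35 t * (xx 27 u * xx 37 (t ^ 1 * u ^ 1)) :=
  sw1 (s := 35) (r := 27) (by decide +kernel) u t

theorem sw_27_35' (u t : K) (z : GL Data.F4.tbl.I K) :
    xx 27 u * (xx 35 t * z) = xx 35 t * (xx 27 u * (xx 37 (t ^ 1 * u ^ 1) * z)) := by
  simp only [← mul_assoc, sw_27_35]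

theorem sw_28_35 (u t : K) : xx 28 u * xx 35 t = xx 35 t * xx 28 u :=
  sw0 (s := 35) (r := 28) (by decide +kernel) u t

theorem sw_28_35' (u t : K) (z : GL Data.F4.tbl.I K) :
    xx 28 u * (xx 35 t * z) = xx 35 t * (xx 28 u * z) := by
  simp only [← mul_assoc, sw_28_35]

theorem sw_30_35 (u t : K) : xx 30 u * xx 35 t = xx 35 t * xx 30 u :=
  sw0 (s := 35) (r := 30) (by decide +kernel) u t

theorem sw_30_35' (u t : K) (z : GL Data.F4.tbl.I K) :
    xx 30 u * (xx 35 t * z) = xx 35 t * (xx 30 u * z) := by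
  simp only [← mul_assoc, sw_30_35]

theorem sw_46_40 (u t : K) : xx 46 u * xx 40 t = xx 40 t * xx 46 u :=
  sw0 (s := 40) (r := 46) (by decide +kernel) u t

theorem sw_46_40' (u t : K) (z : GL Data.F4.tbl.I K) :
    xx 46 u * (xx 40 t * z) = xx 40 t * (xx 46 u * z) := by
  simp only [← mul_assoc, sw_46_40]

theorem sw_32_40 (u t : K) : xx 32 u * xx 40 t = xx 40 t * xx 32 u :=
  sw0 (s := 40) (r := 32) (by decide +kernel) u t

theorem sw_32_40' (u t : K) (z : GL Data.F4.tbl.I K) :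
    xx 32 u * (xx 40 t * z) = xx 40 t * (xx 32 u * z) := by
  simp only [← mul_assoc, sw_32_40]

theorem sw_37_40 (u t : K) : xx 37 u * xx 40 t = xx 40 t * xx 37 u :=
  sw0 (s := 40) (r := 37) (by decide +kernel) u t

theorem sw_37_40' (u t : K) (z : GL Data.F4.tbl.I K) :
    xx 37 u * (xx 40 t * z) = xx 40 t * (xx 37 u * z) := by
  simp only [← mul_assoc, sw_37_40]

theorem sw_25_40 (u t : K) : xx 25 u * xx 40 t = xx 40 t * xx 25 u :=
  sw0 (s := 40) (r := 25) (by decide +kernel) u t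

theorem sw_25_40' (u t : K) (z : GL Data.F4.tbl.I K) :
    xx 25 u * (xx 40 t * z) = xx 40 t * (xx 25 u * z) := by
  simp only [← mul_assoc, sw_25_40]

theorem sw_27_40 (u t : K) : xx 27 u * xx 40 t = xx 40 t * xx 27 u :=
  sw0 (s := 40) (r := 27) (by decide +kernel) u t

theorem sw_27_40' (u t : K) (z : GL Data.F4.tbl.I K) :
    xx 27 u * (xx 40 t * z) = xx 40 t * (xx 27 u * z) := by
  simp only [← mul_assoc, sw_27_40]

theorem sw_28_40 (u t : K) : xx 28 u * xx 40 t = xx 40 t * xx 28 u :=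
  sw0 (s := 40) (r := 28) (by decide +kernel) u t

theorem sw_28_40' (u t : K) (z : GL Data.F4.tbl.I K) :
    xx 28 u * (xx 40 t * z) = xx 40 t * (xx 28 u * z) := by
  simp only [← mul_assoc, sw_28_40]

theorem sw_30_40 (u t : K) : xx 30 u * xx 40 t = xx 40 t * xx 30 u :=
  sw0 (s := 40) (r := 30) (by decide +kernel) u t

theorem sw_30_40' (u t : K) (z : GL Data.F4.tbl.I K) :
    xx 30 u * (xx 40 t * z) = xx 40 t * (xx 30 u * z) := by
  simp only [← mul_assoc, sw_30_40]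

theorem sw_32_46 (u t : K) : xx 32 u * xx 46 t = xx 46 t * xx 32 u :=
  sw0 (s := 46) (r := 32) (by decide +kernel) u t

theorem sw_32_46' (u t : K) (z : GL Data.F4.tbl.I K) :
    xx 32 u * (xx 46 t * z) = xx 46 t * (xx 32 u * z) := by
  simp only [← mul_assoc, sw_32_46]

theorem sw_37_46 (u t : K) : xx 37 u * xx 46 t = xx 46 t * xx 37 u :=
  sw0 (s := 46) (r := 37) (by decide +kernel) u t

theorem sw_37_46' (u t : K) (z : GL Data.F4.tbl.I K) :
    xx 37 u * (xx 46 t * z) = xx 46 t * (xx 37 u * z) := by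
  simp only [← mul_assoc, sw_37_46]

theorem sw_25_46 (u t : K) : xx 25 u * xx 46 t = xx 46 t * xx 25 u :=
  sw0 (s := 46) (r := 25) (by decide +kernel) u t

theorem sw_25_46' (u t : K) (z : GL Data.F4.tbl.I K) :
    xx 25 u * (xx 46 t * z) = xx 46 t * (xx 25 u * z) := by
  simp only [← mul_assoc, sw_25_46]

theorem sw_27_46 (u t : K) : xx 27 u * xx 46 t = xx 46 t * xx 27 u :=
  sw0 (s := 46) (r := 27) (by decide +kernel) u t

theorem sw_27_46' (u t : K) (z : GL Data.F4.tbl.I K) :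
    xx 27 u * (xx 46 t * z) = xx 46 t * (xx 27 u * z) := by
  simp only [← mul_assoc, sw_27_46]

theorem sw_28_46 (u t : K) : xx 28 u * xx 46 t = xx 46 t * xx 28 u :=
  sw0 (s := 46) (r := 28) (by decide +kernel) u t

theorem sw_28_46' (u t : K) (z : GL Data.F4.tbl.I K) :
    xx 28 u * (xx 46 t * z) = xx 46 t * (xx 28 u * z) := by
  simp only [← mul_assoc, sw_28_46]

theorem sw_30_46 (u t : K) : xx 30 u * xx 46 t = xx 46 t * xx 30 u :=
  sw0 (s := 46) (r := 30) (by decide +kernel) u t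

theorem sw_30_46' (u t : K) (z : GL Data.F4.tbl.I K) :
    xx 30 u * (xx 46 t * z) = xx 46 t * (xx 30 u * z) := by
  simp only [← mul_assoc, sw_30_46]

theorem sw_37_32 (u t : K) : xx 37 u * xx 32 t = xx 32 t * xx 37 u :=
  sw0 (s := 32) (r := 37) (by decide +kernel) u t

theorem sw_37_32' (u t : K) (z : GL Data.F4.tbl.I K) :
    xx 37 u * (xx 32 t * z) = xx 32 t * (xx 37 u * z) := by
  simp only [← mul_assoc, sw_37_32]

theorem sw_25_32 (u t : K) : xx 25 u * xx 32 t = xx 32 t * xx 25 u :=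
  sw0 (s := 32) (r := 25) (by decide +kernel) u t

theorem sw_25_32' (u t : K) (z : GL Data.F4.tbl.I K) :
    xx 25 u * (xx 32 t * z) = xx 32 t * (xx 25 u * z) := by
  simp only [← mul_assoc, sw_25_32]

theorem sw_27_32 (u t : K) : xx 27 u * xx 32 t = xx 32 t * xx 27 u :=
  sw0 (s := 32) (r := 27) (by decide +kernel) u t

theorem sw_27_32' (u t : K) (z : GL Data.F4.tbl.I K) :
    xx 27 u * (xx 32 t * z) = xx 32 t * (xx 27 u * z) := by
  simp only [← mul_assoc, sw_27_32]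

theorem sw_28_32 (u t : K) : xx 28 u * xx 32 t = xx 32 t * xx 28 u :=
  sw0 (s := 32) (r := 28) (by decide +kernel) u t

theorem sw_28_32' (u t : K) (z : GL Data.F4.tbl.I K) :
    xx 28 u * (xx 32 t * z) = xx 32 t * (xx 28 u * z) := by
  simp only [← mul_assoc, sw_28_32]

theorem sw_30_32 (u t : K) : xx 30 u * xx 32 t = xx 32 t * xx 30 u :=
  sw0 (s := 32) (r := 30) (by decide +kernel) u t

theorem sw_30_32' (u t : K) (z : GL Data.F4.tbl.I K) :
    xx 30 u * (xx 32 t * z) = xx 32 t * (xx 30 u * z) := by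
  simp only [← mul_assoc, sw_30_32]

theorem sw_25_37 (u t : K) : xx 25 u * xx 37 t = xx 37 t * xx 25 u :=
  sw0 (s := 37) (r := 25) (by decide +kernel) u t

theorem sw_25_37' (u t : K) (z : GL Data.F4.tbl.I K) :
    xx 25 u * (xx 37 t * z) = xx 37 t * (xx 25 u * z) := by
  simp only [← mul_assoc, sw_25_37]

theorem sw_27_37 (u t : K) : xx 27 u * xx 37 t = xx 37 t * xx 27 u :=
  sw0 (s := 37) (r := 27) (by decide +kernel) u t

theorem sw_27_37' (u t : K) (z : GL Data.F4.tbl.I K) :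
    xx 27 u * (xx 37 t * z) = xx 37 t * (xx 27 u * z) := by
  simp only [← mul_assoc, sw_27_37]

theorem sw_28_37 (u t : K) : xx 28 u * xx 37 t = xx 37 t * xx 28 u :=
  sw0 (s := 37) (r := 28) (by decide +kernel) u t

theorem sw_28_37' (u t : K) (z : GL Data.F4.tbl.I K) :
    xx 28 u * (xx 37 t * z) = xx 37 t * (xx 28 u * z) := by
  simp only [← mul_assoc, sw_28_37]

theorem sw_30_37 (u t : K) : xx 30 u * xx 37 t = xx 37 t * xx 30 u :=
  sw0 (s := 37) (r := 30) (by decide +kernel) u t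

theorem sw_30_37' (u t : K) (z : GL Data.F4.tbl.I K) :
    xx 30 u * (xx 37 t * z) = xx 37 t * (xx 30 u * z) := by
  simp only [← mul_assoc, sw_30_37]

theorem sw_27_25 (u t : K) : xx 27 u * xx 25 t = xx 25 t * (xx 27 u * (xx 28 (t ^ 1 * u ^ 1) * xx 30 (t ^ 1 * u ^ 2))) :=
  sw2 (s := 25) (r := 27) (by decide +kernel) u t

theorem sw_27_25' (u t : K) (z : GL Data.F4.tbl.I K) :
    xx 27 u * (xx 25 t * z) = xx 25 t * (xx 27 u * (xx 28 (t ^ 1 * u ^ 1) * (xx 30 (t ^ 1 * u ^ 2) * z))) := by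
  simp only [← mul_assoc, sw_27_25]

theorem sw_28_25 (u t : K) : xx 28 u * xx 25 t = xx 25 t * xx 28 u :=
  sw0 (s := 25) (r := 28) (by decide +kernel) u t

theorem sw_28_25' (u t : K) (z : GL Data.F4.tbl.I K) :
    xx 28 u * (xx 25 t * z) = xx 25 t * (xx 28 u * z) := by
  simp only [← mul_assoc, sw_28_25]

theorem sw_30_25 (u t : K) : xx 30 u * xx 25 t = xx 25 t * xx 30 u :=
  sw0 (s := 25) (r := 30) (by decide +kernel) u t

theorem sw_30_25' (u t : K) (z : GL Data.F4.tbl.I K) :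
    xx 30 u * (xx 25 t * z) = xx 25 t * (xx 30 u * z) := by
  simp only [← mul_assoc, sw_30_25]

theorem sw_28_27 (u t : K) : xx 28 u * xx 27 t = xx 27 t * xx 28 u :=
  sw0 (s := 27) (r := 28) (by decide +kernel) u t

theorem sw_28_27' (u t : K) (z : GL Data.F4.tbl.I K) :
    xx 28 u * (xx 27 t * z) = xx 27 t * (xx 28 u * z) := by
  simp only [← mul_assoc, sw_28_27]

theorem sw_30_27 (u t : K) : xx 30 u * xx 27 t = xx 27 t * xx 30 u :=
  sw0 (s := 27) (r := 30) (by decide +kernel) u t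

theorem sw_30_27' (u t : K) (z : GL Data.F4.tbl.I K) :
    xx 30 u * (xx 27 t * z) = xx 27 t * (xx 30 u * z) := by
  simp only [← mul_assoc, sw_30_27]

theorem sw_30_28 (u t : K) : xx 30 u * xx 28 t = xx 28 t * xx 30 u :=
  sw0 (s := 28) (r := 30) (by decide +kernel) u t

theorem sw_30_28' (u t : K) (z : GL Data.F4.tbl.I K) :
    xx 30 u * (xx 28 t * z) = xx 28 t * (xx 30 u * z) := by
  simp only [← mul_assoc, sw_30_28]

end CfsgLib.F4Inv
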