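import Cfsg.Agent.Lib.KnownB.F4Inv.Count
import Cfsg.Agent.Lib.Chevalley.TitsGroup.Main

/-!
Exactly two classes of involutions in the Tits group.
-/

set_option autoImplicit false
set_option maxRecDepth 20000
set_option maxHeartbeats 400000
set_option linter.all false
set_option Elab.async false

namespace CfsgLib.F4Inv

open CfsgLib.Chevalley CfsgLib.Chevalley.Tbl CfsgLib.Chevalley.TitsGroup
open scoped commutatorElement

local notation "KK" => ZMod 2
local notation "σ" => sig (K := ZMod 2) (m := 0)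
local notation "GG" => Tbl.Twist.fix (Twist.F4.S hK2)

theorem zmod_sig (x : KK) : σ x = x := by
  rw [sig_apply]
  revert x
  decide

/-- The element of order four outside the derived subgroup. -/
noncomputable def ext8 : ↥GG := ⟨_, G8_fix hK2 (1 : KK) 0⟩

/-- Its image under the first reflection. -/
noncomputable def ext2 : ↥GG := ⟨_, G2_fix hK2 (1 : KK) 0⟩

theorem ext8_not_mem : ext8 ∉ commutator ↥GG := by
  intro h
  have hne : (chi.comp (MulEquiv.subgroupCongr (Twist.F4.grp_eq_fix hK2).symm).toMonoidHom) (gT 2) ≠ 1 := chi_ne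
  apply hne
  have e : ext8 = gT 2 := Subtype.ext (by
    show G8 σ (1 : KK) 0 = gen4 2
    rw [G8_eq hK2, zmod_sig]
    rfl)
  rw [← e, ← MonoidHom.mem_ker]
  exact Abelianization.commutator_subset_ker _ h

theorem ext2_not_mem : ext2 ∉ commutator ↥GG := by
  intro h
  apply ext8_not_mem
  have := (inferInstance : (commutator ↥GG).Normal).conj_mem _ h (⟨_, w1_fix hK2⟩ : ↥GG)⁻¹
  refine (?_ : ext8 = _) ▸ this
  refine Subtype.ext ?_
  show G8 σ (1 : KK) 0 = w1⁻¹ * G2 σ (1 : KK) 0 * w1⁻¹⁻¹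
  rw [inv_inv, mul_assoc, eq_inv_mul_iff_mul_eq, w1_G8]

theorem comm_of_collect {x y c : ↥GG}
    (h : (x : GL Data.F4.tbl.I KK) * y = y * (c * (x : GL Data.F4.tbl.I KK))) : c ∈ commutator ↥GG := by
  have h' : x * y = y * (c * x) := Subtype.ext h
  rw [show c = y⁻¹ * x * y⁻¹⁻¹ * x⁻¹ by rw [inv_inv, mul_assoc y⁻¹, h']; group, ← commutatorElement_def,
    commutator_def]
  exact Subgroup.commutator_mem_commutator (Subgroup.mem_top _) (Subgroup.mem_top _)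

theorem stdA_mem : stdA hK2 ∈ commutator ↥GG := by
  refine comm_of_collect (x := ⟨_, G6_fix hK2 (0 : KK) 1⟩) (y := ⟨_, G1_fix hK2 (1 : KK)⟩) ?_
  show G6 σ (0 : KK) 1 * G1 σ 1 = G1 σ 1 * (repA * G6 σ 0 1)
  rw [c16 (hσ hK2)]
  simp only [repA, N, G1_zero, G2_zero, G3_zero, G5_zero, G6_zero, G7_zero, G8_zero, map_zero,
    mul_one, one_mul, mul_zero, zero_add, G4_zero]

theorem stdB_mem : stdB hK2 ∈ commutator ↥GG := by
  have h3 : (⟨_, G3_fix hK2 (1 : KK)⟩ : ↥GG) ∈ commutator ↥GG := by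
    refine comm_of_collect (x := ⟨_, G4_fix hK2 (1 : KK) 0⟩) (y := ⟨_, G2_fix hK2 (1 : KK) 0⟩) ?_
    show G4 σ (1 : KK) 0 * G2 σ 1 0 = G2 σ 1 0 * (G3 σ 1 * G4 σ 1 0)
    rw [c24 (hσ hK2), one_mul]
  have := (inferInstance : (commutator ↥GG).Normal).conj_mem _ h3
    ((⟨_, w8_fix hK2⟩ : ↥GG)⁻¹ * (⟨_, w1_fix hK2⟩ : ↥GG)⁻¹)
  refine (?_ : stdB hK2 = _) ▸ this
  refine Subtype.ext ?_
  show N σ (1 : KK) 0 0 0 0 0 0 0 0 0 0 0 = w8⁻¹ * w1⁻¹ * G3 σ 1 * (w8⁻¹ * w1⁻¹)⁻¹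
  have e7 : G7 σ (1 : KK) = w1⁻¹ * G3 σ 1 * w1 := by
    rw [mul_assoc, eq_inv_mul_iff_mul_eq, w1_G7]
  simp only [N, G2_zero, G3_zero, G4_zero, G5_zero, G6_zero, G7_zero, G8_zero, mul_one]
  rw [mul_inv_rev, inv_inv, inv_inv,
    show w8⁻¹ * w1⁻¹ * G3 σ (1 : KK) * (w1 * w8) = w8⁻¹ * (w1⁻¹ * G3 σ 1 * w1) * w8 by group, ← e7, mul_assoc,
    eq_inv_mul_iff_mul_eq, w8_G1]

theorem stdA_comm : Commute (stdA hK2) ext8 :=
  Subtype.ext (repA_central hK2 (G8_mem σ (1 : KK) 0 (by decide +kernel))).eq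

theorem stdB_comm : Commute (stdB hK2) ext2 := by
  refine Subtype.ext ?_
  show N σ (1 : KK) 0 0 0 0 0 0 0 0 0 0 0 * G2 σ 1 0 = G2 σ 1 0 * N σ (1 : KK) 0 0 0 0 0 0 0 0 0 0 0
  simp only [N, G2_zero, G3_zero, G4_zero, G5_zero, G6_zero, G7_zero, G8_zero, mul_one]
  exact (c12 (hσ hK2) 1 1 0).symm

theorem two_classes {G : Type*} [Group G] (C : Subgroup G) (hidx : C.index = 2) {a b k l : G}
    (ha : a ∈ C) (hb : b ∈ C) (hoa : orderOf a = 2) (hob : orderOf b = 2) (hab : ¬ IsConj a b)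
    (hk : k ∉ C) (hka : Commute a k) (hl : l ∉ C) (hlb : Commute b l)
    (hall : ∀ s : G, orderOf s = 2 → IsConj s a ∨ IsConj s b) :
    (ConjClasses.mk '' {g : ↥C | orderOf g = 2}).ncard = 2 := by
  have inner : ∀ (y z : ↥C) (k : G), k ∉ C → Commute (y : G) k → IsConj (y : G) z → IsConj y z := by
    intro y z k hk hc h
    obtain ⟨g, hg⟩ := isConj_iff.mp h
    by_cases hgC : g ∈ C
    · exact isConj_iff.mpr ⟨⟨g, hgC⟩, Subtype.ext hg⟩
    · refine isConj_iff.mpr ⟨⟨g * k, (Subgroup.mul_mem_iff_of_index_two hidx).mpr (iff_of_false hgC hk)⟩,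
        Subtype.ext ?_⟩
      show g * k * (y : G) * (g * k)⁻¹ = z
      rw [mul_assoc g, ← hc.eq, ← hg]
      group
  have ord : ∀ g : ↥C, orderOf g = orderOf (g : G) := fun g =>
    (orderOf_injective C.subtype C.subtype_injective g).symm
  have hne : ConjClasses.mk (⟨a, ha⟩ : ↥C) ≠ ConjClasses.mk ⟨b, hb⟩ := fun e =>
    hab (C.subtype.map_isConj (ConjClasses.mk_eq_mk_iff_isConj.mp e))
  suffices ConjClasses.mk '' {g : ↥C | orderOf g = 2} =
      {ConjClasses.mk ⟨a, ha⟩, ConjClasses.mk ⟨b, hb⟩} by rw [this, Set.ncard_pair hne]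
  ext x
  constructor
  · rintro ⟨s, hs, rfl⟩
    rcases hall (s : G) ((ord s).symm.trans hs) with h | h
    · exact Or.inl (ConjClasses.mk_eq_mk_iff_isConj.mpr (inner ⟨a, ha⟩ s k hk hka h.symm).symm)
    · exact Or.inr (ConjClasses.mk_eq_mk_iff_isConj.mpr (inner ⟨b, hb⟩ s l hl hlb h.symm).symm)
  · rintro (rfl | rfl)
    · exact ⟨⟨a, ha⟩, (ord _).trans hoa, rfl⟩
    · exact ⟨⟨b, hb⟩, (ord _).trans hob, rfl⟩

theorem class_count_tits :
    (ConjClasses.mk '' {g : ↥(commutator ↥GG) | orderOf g = 2}).ncard = 2 :=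
  two_classes (commutator ↥GG) (index_commutator crit) stdA_mem stdB_mem (std_order hK2).1 (std_order hK2).2
    (std_ne hK2) ext8_not_mem stdA_comm ext2_not_mem stdB_comm fun s hs =>
    (involution_class hK2 s hs).imp
      (fun h => ConjClasses.mk_eq_mk_iff_isConj.mp (mk_eq hK2 (v := stdA hK2) h))
      (fun h => ConjClasses.mk_eq_mk_iff_isConj.mp (mk_eq hK2 (v := stdB hK2) h))

end CfsgLib.F4Inv
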